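import Cfsg.Agent.OddOrder.BG14.Facts
import Cfsg.Agent.OddOrder.BG13.Facts
import Cfsg.Agent.OddOrder.BG13.CyclicSylow
import Cfsg.Agent.OddOrder.BG13.CentralizerContain
import Cfsg.Agent.S1415
import Cfsg.Agent.S1417
import Cfsg.Agent.S1418
import Cfsg.Agent.S1420
import Cfsg.Agent.S1423

/-!
# `BG13Facts` holds in every minimal simple group of odd order
-/

set_option autoImplicit false
set_option linter.style.haveILetI false

namespace CfsgLib.OddOrder.BG14

open Cfsg Subgroup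
open CfsgLib.OddOrder.BG13
open CfsgLib.ConjFunctor (IsSylowIn exists_isSylowIn_ge)

universe u

variable {G : Type u} [Group G] [Finite G]

theorem exists_sylow_map_subtype {p : ℕ} [Fact p.Prime] {S M : Subgroup G}
    (hS : IsSylowIn p S M) : ∃ P : Sylow p M, (P : Subgroup M).map M.subtype = S :=
  ⟨(hS.isPGroup.comap_subtype).toSylow (show ¬ p ∣ (S.subgroupOf M).index from hS.not_dvd), by
    change (S.subgroupOf M).map _ = S
    rw [subgroupOf_map_subtype, inf_eq_left.2 hS.le]⟩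

theorem bg13Facts (hG : Cfsg.IsMinSimpleOddOrder G) : BG13Facts G where
  bg12 := bg12Facts hG
  complStructure M hM E hE := (Cfsg.Agent.S1415.result hG M hM E hE).2
  tauTwoPlane M hM p _ hp A hAM hA hAc := by
    have h := Cfsg.Agent.S1417.result hG M hM p hp A ⟨hAM, hA, hAc⟩
    refine ⟨fun S hS => ?_, h.2.2.2.1, h.2.2.2.2.2⟩
    obtain ⟨P, rfl⟩ := exists_sylow_map_subtype hS
    obtain ⟨hc, h2⟩ := h.2.1 P
    haveI := hc
    exact ⟨inferInstance, fun hle => (h2 hle).1⟩
  tauTwoLine M hM E hE p _ hp A hAE hA hAc := by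
    have h := Cfsg.Agent.S1418.result hG M hM E hE p hp A ⟨hAE, hA, hAc⟩
    exact ⟨h.1.2, ⟨h.2.1.1.trans h.2.1.2.1.le, h.2.1.2.2⟩, h.2.2⟩
  complAbelian M hM E hE :=
    let h := Cfsg.Agent.S1420.result hG M hM E hE
    ⟨h.1, h.2.1, h.2.2.2⟩
  sigmaOrderUnique M hM p _ hp X hXM hX h := by
    refine ⟨(Cfsg.Agent.S1423.result hG M hM p hp X hXM hX default h).1.2, fun S hS => ?_⟩
    obtain ⟨P, rfl⟩ := exists_sylow_map_subtype hS
    exact (Cfsg.Agent.S1423.result hG M hM p hp X hXM hX P h).2.1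
  cyclicPrimeAction M hM E hE p _ S hS hSc x hx hx1 :=
    inf_centralizer_eq_of_isCyclic (bg12Facts hG) hG hM hE hS
      (fun e => hx1 (mem_bot.1 (e ▸ hx))) hSc hx hx1
  tauOneFix M hM E hE p hp P hPE hP R hR hR' :=
    inf_centralizer_le_of_tau_one (bg12Facts hG) hG hM hE hp hPE hP hR hR'

end CfsgLib.OddOrder.BG14
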