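import Cfsg.Agent.OddOrder.BG14.P1Count

/-!
# BG 14.7: the partner `M*` of a maximal subgroup with `κ(M) ≠ ∅`
-/

set_option autoImplicit false
set_option linter.style.haveILetI false
set_option linter.unusedSectionVars false

namespace CfsgLib.OddOrder.BG14

open Cfsg Subgroup
open CfsgLib.OddOrder
open CfsgLib.OddOrder.BG11
open CfsgLib.OddOrder.BG13
open CfsgLib.ConjFunctor (IsSylowIn exists_isSylowIn_ge)

variable {G : Type*} [Group G] [Finite G] {p : ℕ} {M E K U L Y : Subgroup G}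

/-- The partner `L = M*` of `M`. -/
structure Partner (M K L : Subgroup G) : Prop where
  coatom : IsCoatom L
  nonconj : ∀ g : G, L ≠ M.map (MulAut.conj g).toMonoidHom
  K_le : K ≤ Cfsg.sigmaCore L
  eq : K = Cfsg.sigmaCore L ⊓
    centralizer ((Cfsg.sigmaCore M ⊓ centralizer (K : Set G) : Subgroup G) : Set G)
  hall : Cfsg.IsPiHallOf (Cfsg.kappa L) (Cfsg.sigmaCore M ⊓ centralizer (K : Set G)) L

local notation "S₀" => (Cfsg.sigmaCore M ⊓ Subgroup.centralizer (K : Set G))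

variable (F : BG13Facts G) (hG : Cfsg.IsMinSimpleOddOrder G)
include F hG

theorem kstar_ne_bot (hM : IsCoatom M) (hK : Cfsg.IsPiHallOf (Cfsg.kappa M) K M) (hK1 : K ≠ ⊥) :
    S₀ ≠ ⊥ := by
  obtain ⟨E, U, d⟩ := exists_pTypeData F hG hM hK hK1
  obtain ⟨p, _, X, hX, hXc⟩ := exists_prime_subgroup hK1
  exact d.fixed_ne_bot F hG hK hX hXc

/-- A member containing `K` in its `σ`-core is a partner. -/
theorem partner_of_member [Fact p.Prime] (d : PTypeData M E K U) (hM : IsCoatom M)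
    (hK : Cfsg.IsPiHallOf (Cfsg.kappa M) K M) {X : Subgroup G} (hX : X ≤ K) (hXc : Nat.card X = p)
    (hL : IsCoatom L) (hN : normalizer (X : Set G) ≤ L) (hKL : K ≤ Cfsg.sigmaCore L) :
    Partner M K L := by
  obtain ⟨hnc, -, -⟩ := kappa_normalizer_nonconj F hG hM (d.kappa_of_prime F hG hK hX hXc Fact.out)
    (hX.trans hK.1) hXc hL hN
  obtain ⟨E', K', U', -, hK', -, hSK', hD, hZ⟩ := member_structure F hG d hM hK hX hXc hL hN
  have heq : K' = S₀ := by
    refine le_antisymm (fun x hx => ?_) hSK'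
    obtain ⟨k, hk, s, hs, rfl, -, -⟩ :=
      kstar_mul_mem hK (hZ ▸ mem_sup_left hx : x ∈ K ⊔ S₀)
    have hk1 : k ∈ K' ⊓ Cfsg.sigmaCore L :=
      mem_inf.2 ⟨(Subgroup.mul_mem_cancel_right _ (hSK' hs)).1 hx, hKL hk⟩
    rw [kstar_inf_eq_bot hK', mem_bot] at hk1
    rw [hk1, one_mul]
    exact hs
  subst heq
  exact ⟨hL, hnc, hKL, by rw [hD, inf_eq_left.2 hKL], hK'⟩

/-- BG 14.7: `M` has a partner. -/
theorem exists_partner (hM : IsCoatom M) (hK : Cfsg.IsPiHallOf (Cfsg.kappa M) K M) (hK1 : K ≠ ⊥) :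
    ∃ L : Subgroup G, Partner M K L := by
  obtain ⟨E, U, d⟩ := exists_pTypeData F hG hM hK hK1
  rcases exists_not_p1 F hG d hM hK hK1 with h | ⟨p, X, L, hp, hX, hXc, hL, hN, hP⟩
  · have hpK := d.prime_card F hG hM hK hK1 fun e => h ((d.U_eq_bot_iff F hG hM hK).1 e)
    haveI := Fact.mk hpK
    obtain ⟨L, hL, hN⟩ := minSimple_exists_coatom hG (minSimple_normalizer_ne_top hG
      (BG11.ne_bot_of_card_prime rfl : K ≠ ⊥)
      (minSimple_ne_top_of_isPGroup hG (isPGroup_of_card_prime (rfl : Nat.card K = Nat.card K))))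
    exact ⟨L, partner_of_member F hG d hM hK le_rfl rfl hL hN (kappa_normalizer_nonconj F hG hM
      (d.kappa_of_prime F hG hK le_rfl rfl hpK) hK.1 rfl hL hN).2.2⟩
  · haveI := Fact.mk hp
    obtain ⟨E', K', U', d', hK', hK'1, hSK', hD, hZ⟩ := member_structure F hG d hM hK hX hXc hL hN
    haveI : Fact (Nat.card K').Prime :=
      ⟨d'.prime_card F hG hL hK' hK'1 fun e => hP ((d'.U_eq_bot_iff F hG hL hK').1 e)⟩
    have heq : S₀ = K' := by
      refine eq_of_le_of_card_ge hSK' ?_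
      rcases (Nat.dvd_prime Fact.out).1 (card_dvd_of_le hSK') with h | h
      · exact absurd (Subgroup.card_eq_one.1 h) (kstar_ne_bot F hG hM hK hK1)
      · exact h.ge
    refine ⟨L, partner_of_member F hG d hM hK hX hXc hL hN fun k hk => ?_⟩
    have hk' : k ∈ K' ⊔ (Cfsg.sigmaCore L ⊓ centralizer (K' : Set G)) := hZ.symm ▸ mem_sup_left hk
    obtain ⟨a, ha, b, hb, rfl, -, -⟩ := kstar_mul_mem hK' hk'
    rw [hD] at hb
    have ha1 : a ∈ K ⊓ Cfsg.sigmaCore M :=
      mem_inf.2 ⟨(Subgroup.mul_mem_cancel_right _ hb.1).1 hk, (heq ▸ ha : a ∈ S₀).1⟩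
    rw [kstar_inf_eq_bot hK, mem_bot] at ha1
    rw [ha1, one_mul]
    exact hb.2

/-- A maximal subgroup with the two properties of `M*` is a partner. -/
theorem Partner.of_eq_hall (hK : Cfsg.IsPiHallOf (Cfsg.kappa M) K M) (hK1 : K ≠ ⊥)
    (hL : IsCoatom L)
    (he : K = Cfsg.sigmaCore L ⊓ centralizer (((S₀ : Subgroup G)) : Set G))
    (hh : Cfsg.IsPiHallOf (Cfsg.kappa L) S₀ L) : Partner M K L := by
  have hKL : K ≤ Cfsg.sigmaCore L := he.le.trans inf_le_left
  refine ⟨hL, fun g e => ?_, hKL, he, hh⟩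
  obtain ⟨p, _, X, hX, hXc⟩ := exists_prime_subgroup hK1
  have hs : p ∈ Cfsg.sigma L :=
    isPiSubgroup_sigmaCore L p Fact.out (dvd_card_of_card_le (hX.trans hKL) hXc)
  rw [e, sigma_map_conj] at hs
  exact kappa_not_sigma (hK.2.1 p Fact.out (dvd_card_of_card_le hX hXc)) hs

namespace Partner

theorem symm (h : Partner M K L) (hM : IsCoatom M) (hK : Cfsg.IsPiHallOf (Cfsg.kappa M) K M) :
    Partner L S₀ M where
  coatom := hM
  nonconj := not_conj_symm h.nonconj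
  K_le := inf_le_left
  eq := by rw [← h.eq]
  hall := by rw [← h.eq]; exact hK

theorem disjoint (h : Partner M K L) (hM : IsCoatom M) :
    Disjoint (Cfsg.sigma M) (Cfsg.sigma L) :=
  disjoint_sigma F hG hM h.coatom h.nonconj

theorem pTypeData (h : Partner M K L) (hM : IsCoatom M) (hK : Cfsg.IsPiHallOf (Cfsg.kappa M) K M)
    (hK1 : K ≠ ⊥) : ∃ E' U' : Subgroup G, PTypeData L E' S₀ U' :=
  exists_pTypeData F hG h.coatom h.hall (kstar_ne_bot F hG hM hK hK1)

/-- `N(X) ≤ M*` for `X ≤ K` of prime order. -/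
theorem normalizer_le (h : Partner M K L) (hM : IsCoatom M)
    (hK : Cfsg.IsPiHallOf (Cfsg.kappa M) K M) (hK1 : K ≠ ⊥) [Fact p.Prime] (hY : Y ≤ K)
    (hYc : Nat.card Y = p) : normalizer (Y : Set G) ≤ L := by
  obtain ⟨E', U', d'⟩ := h.pTypeData F hG hM hK hK1
  exact d'.normalizer_le_of_kstar F hG h.coatom h.hall (kstar_ne_bot F hG hM hK hK1)
    (hY.trans h.eq.le) hYc

/-- The partner is unique. -/
theorem unique {L' : Subgroup G} (h : Partner M K L) (h' : Partner M K L') (hM : IsCoatom M)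
    (hK : Cfsg.IsPiHallOf (Cfsg.kappa M) K M) (hK1 : K ≠ ⊥) : L = L' := by
  obtain ⟨p, _, X, hX, hXc⟩ := exists_prime_subgroup hK1
  exact kappa_normalizer_unique F hG hM (hK.2.1 p Fact.out (dvd_card_of_card_le hX hXc))
    (hX.trans hK.1) hXc h'.coatom (h'.normalizer_le F hG hM hK hK1 hX hXc) h.coatom
    (h.normalizer_le F hG hM hK hK1 hX hXc)

/-- `M*` is the only maximal subgroup containing `C(Y)` for `Y ≤ K` of prime order. -/
theorem centralizer_le (h : Partner M K L) (hM : IsCoatom M)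
    (hK : Cfsg.IsPiHallOf (Cfsg.kappa M) K M) (hK1 : K ≠ ⊥) [Fact p.Prime] (hY : Y ≤ K)
    (hYc : Nat.card Y = p) : centralizer (Y : Set G) ≤ L ∧
      ∀ H : Subgroup G, IsCoatom H → centralizer (Y : Set G) ≤ H → H = L := by
  obtain ⟨E', U', d'⟩ := h.pTypeData F hG hM hK hK1
  obtain ⟨h1, h2, -⟩ := d'.kstar_unique F hG h.coatom h.hall (kstar_ne_bot F hG hM hK hK1)
    (hY.trans h.eq.le) hYc
  exact ⟨h1, h2⟩

/-- `M` and `M*` are not both of type `P₁`. -/
theorem not_p1 (h : Partner M K L) (hM : IsCoatom M) (hK : Cfsg.IsPiHallOf (Cfsg.kappa M) K M)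
    (hK1 : K ≠ ⊥) : ¬ IsP1 M ∨ ¬ IsP1 L := by
  obtain ⟨E, U, d⟩ := exists_pTypeData F hG hM hK hK1
  rcases exists_not_p1 F hG d hM hK hK1 with h1 | ⟨p, X, L', hp, hX, hXc, hL', hN, hP⟩
  · exact Or.inl h1
  · haveI := Fact.mk hp
    rw [kappa_normalizer_unique F hG hM (d.kappa_of_prime F hG hK hX hXc hp) (hX.trans hK.1) hXc
      h.coatom (h.normalizer_le F hG hM hK hK1 hX hXc) hL' hN] at hP
    exact Or.inr hP

/-- If `M` is not of type `P₁` then `|K|` is prime and `M_σ` is nilpotent. -/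
theorem _root_.CfsgLib.OddOrder.BG14.prime_card_of_not_p1 (hM : IsCoatom M)
    (hK : Cfsg.IsPiHallOf (Cfsg.kappa M) K M) (hK1 : K ≠ ⊥) (hP : ¬ IsP1 M) :
    (Nat.card K).Prime ∧ Group.IsNilpotent (Cfsg.sigmaCore M) := by
  obtain ⟨E, U, d⟩ := exists_pTypeData F hG hM hK hK1
  have hU : U ≠ ⊥ := fun e => hP ((d.U_eq_bot_iff F hG hM hK).1 e)
  exact ⟨d.prime_card F hG hM hK hK1 hU, d.nilpotent_of_U F hG hM hU⟩

theorem isCyclic (h : Partner M K L) (hM : IsCoatom M) (hK : Cfsg.IsPiHallOf (Cfsg.kappa M) K M)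
    (hK1 : K ≠ ⊥) : IsCyclic K := by
  rcases h.not_p1 F hG hM hK hK1 with hP | hP
  · haveI := Fact.mk (prime_card_of_not_p1 F hG hM hK hK1 hP).1
    exact isCyclic_of_prime_card (α := K) rfl
  · haveI := (prime_card_of_not_p1 F hG h.coatom h.hall (kstar_ne_bot F hG hM hK hK1) hP).2
    haveI : Group.IsNilpotent ↥(K.subgroupOf (Cfsg.sigmaCore L)) := inferInstance
    haveI : Group.IsNilpotent K :=
      Group.nilpotent_of_mulEquiv (subgroupOfEquivOfLe h.K_le)
    haveI : IsZGroup K := ⟨fun q hq P => by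
      haveI := Fact.mk hq
      by_cases hd : q ∣ Nat.card K
      · haveI : IsCyclic ↥((P : Subgroup K).map K.subtype) :=
          isCyclic_of_pRankLE_one ((map_subtype_le _).trans hK.1) (P.2.map _)
            (minSimple_prime_ne_two_subgroup hG hd) (kappa_pRankLE_one (hK.2.1 q hq hd))
        exact isCyclic_of_surjective _
          ((P : Subgroup K).equivMapOfInjective _ K.subtype_injective).symm.surjective
      · haveI : Subsingleton (P : Subgroup K) := Finite.card_le_one_iff_subsingleton.1 (le_of_eq (by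
          obtain ⟨n, hn⟩ := IsPGroup.iff_card.1 P.2
          rcases n with _ | n
          · simpa using hn
          · exact absurd ((hn ▸ dvd_pow_self q (Nat.succ_ne_zero n)).trans
              (P : Subgroup K).card_subgroup_dvd_card) hd))
        infer_instance⟩
    infer_instance

end Partner

/-- A Hall `κ(M)`-subgroup is cyclic. -/
theorem kappa_hall_isCyclic (hM : IsCoatom M) (hK : Cfsg.IsPiHallOf (Cfsg.kappa M) K M) :
    IsCyclic K := by
  by_cases hK1 : K = ⊥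
  · subst hK1; infer_instance
  obtain ⟨L, hL⟩ := exists_partner F hG hM hK hK1
  exact hL.isCyclic F hG hM hK hK1

/-- BG 14.7 (d): `κ(M) = τ₁(M)`. -/
theorem kappa_eq_tau1 (hM : IsCoatom M) (hK : Cfsg.IsPiHallOf (Cfsg.kappa M) K M) (hK1 : K ≠ ⊥) :
    Cfsg.kappa M = Cfsg.tau1 M := by
  obtain ⟨E, hKE, hE⟩ := exists_complIn_ge F.bg12 hG hM hK.1
    fun s hs hd => kappa_not_sigma (hK.2.1 s hs hd)
  refine (pType_tau1 F hG hM hE hKE hK hK1 fun r hr =>
    (kappa_tau13 F hG hr).resolve_right fun hr3 => ?_).1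
  have d := pType_tau3 F hG hM hE hKE hK hr hr3
  have hEK : K = E := by simpa using d.sup
  subst hEK
  haveI := Fact.mk hr.1
  obtain ⟨x, hx⟩ := exists_prime_orderOf_dvd_card' (G := K) r
    (dvd_card_complIn F hG hM hE (kappa_not_sigma hr) hr.2.1)
  have hR : Nat.card (zpowers (x : G)) = r := by
    rw [Nat.card_zpowers, Subgroup.orderOf_coe, hx]
  haveI := kappa_hall_isCyclic F hG hM hK
  have hc : ⁅K, K⁆ = ⊥ := commutator_eq_bot_iff_le_centralizer.2
    (le_centralizer_self IsCyclic.isMulCommutative)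
  have h1 : zpowers (x : G) ≤ K ⊓ ⁅M, M⁆ :=
    le_inf (zpowers_le.2 x.2) (tau3_prime F hG hM hE hr3 (zpowers_le.2 x.2) hR).1
  rw [inf_commutator_eq F hG hM hE, hc] at h1
  exact BG11.ne_bot_of_card_prime hR (le_bot_iff.1 h1)

namespace Partner

/-- `K K*` is cyclic. -/
theorem isCyclic_sup (h : Partner M K L) (hM : IsCoatom M)
    (hK : Cfsg.IsPiHallOf (Cfsg.kappa M) K M) (hK1 : K ≠ ⊥) : IsCyclic ↥(K ⊔ S₀) := by
  haveI := h.isCyclic F hG hM hK hK1
  haveI : IsCyclic ↥S₀ := kappa_hall_isCyclic F hG h.coatom h.hall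
  obtain ⟨a, ha⟩ := IsCyclic.exists_ofOrder_eq_natCard (α := K)
  obtain ⟨b, hb⟩ := IsCyclic.exists_ofOrder_eq_natCard (α := ↥S₀)
  rw [← Subgroup.orderOf_coe] at ha hb
  refine isCyclic_of_orderOf_eq_card ⟨(a : G) * b, mul_mem_sup a.2 b.2⟩ ?_
  rw [Subgroup.orderOf_mk, card_kstar_sup hK,
    (kstar_commute a.2 b.2).orderOf_mul_eq_mul_orderOf_of_coprime, ha, hb]
  rw [ha, hb]
  exact (coprime_of_isPiSubgroup_not (isPiSubgroup_mono inf_le_left (isPiSubgroup_sigmaCore M))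
    fun r hr hd => kappa_not_sigma (hK.2.1 r hr hd)).symm

theorem sigmaCore_inf_le (h : Partner M K L) (hM : IsCoatom M)
    (hK : Cfsg.IsPiHallOf (Cfsg.kappa M) K M) : Cfsg.sigmaCore M ⊓ L ≤ S₀ :=
  le_inf inf_le_left ((inf_sigmaCore_commute (h.disjoint F hG hM)).trans
    (Subgroup.centralizer_le (SetLike.coe_subset_coe.2 (le_inf h.K_le hK.1))))

/-- BG 14.7 (b): `M ∩ M* = K K*`. -/
theorem inf_eq (h : Partner M K L) (hM : IsCoatom M)
    (hK : Cfsg.IsPiHallOf (Cfsg.kappa M) K M) (hK1 : K ≠ ⊥) : M ⊓ L = K ⊔ S₀ := by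
  have hY : Cfsg.sigmaCore L ⊓ M = K := by
    refine le_antisymm ?_ (le_inf h.K_le hK.1)
    exact ((h.symm F hG hM hK).sigmaCore_inf_le F hG h.coatom h.hall).trans h.eq.ge
  refine le_antisymm ?_ (sup_le (le_inf hK.1 (h.K_le.trans (sigmaCore_le L)))
    (le_inf (inf_le_left.trans (sigmaCore_le M)) h.hall.1))
  obtain ⟨E, U, d⟩ := exists_pTypeData F hG hM hK hK1
  obtain ⟨p, _, X, hX, hXc⟩ := exists_prime_subgroup hK1
  rw [← d.inf_normalizer_K F hG hK hX hXc]
  refine le_inf inf_le_left ?_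
  conv_rhs => rw [← hY]
  exact (le_inf (inf_le_right.trans (le_normalizer_sigmaCore L))
    (inf_le_left.trans le_normalizer)).trans inf_normalizer_le_normalizer_inf

/-- `K*` is a Hall `σ(M)`-subgroup of `M*`. -/
theorem hall_sigma (h : Partner M K L) (hM : IsCoatom M)
    (hK : Cfsg.IsPiHallOf (Cfsg.kappa M) K M) (hK1 : K ≠ ⊥) :
    Cfsg.IsPiHallOf (Cfsg.sigma M) S₀ L := by
  obtain ⟨E, U, d⟩ := exists_pTypeData F hG hM hK hK1
  obtain ⟨H, hH, hSH⟩ := exists_isPiHallOf_ge (minSimple_coatom_solvable hG h.coatom) h.hall.1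
    (isPiSubgroup_mono inf_le_left (isPiSubgroup_sigmaCore M) :
      IsPiSubgroup (Cfsg.sigma M) S₀)
  have hle : H ≤ Cfsg.sigmaCore M := d.le_sigmaCore_of_kstar F hG hM hK hK1 hH.2.1
    (by rw [inf_eq_right.2 hSH]; exact kstar_ne_bot F hG hM hK hK1)
  have heq : H = S₀ := le_antisymm ((le_inf hle hH.1).trans (h.sigmaCore_inf_le F hG hM hK)) hSH
  exact heq ▸ hH

theorem sup_le_centralizer (h : Partner M K L) (hM : IsCoatom M)
    (hK : Cfsg.IsPiHallOf (Cfsg.kappa M) K M) (hK1 : K ≠ ⊥) {x : G} (hx : x ∈ K ⊔ S₀) :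
    K ⊔ S₀ ≤ centralizer ({x} : Set G) := by
  haveI := h.isCyclic_sup F hG hM hK hK1
  exact (le_centralizer_self IsCyclic.isMulCommutative).trans
    (centralizer_subgroup_le_singleton hx)

theorem inf_centralizer (h : Partner M K L) (hM : IsCoatom M)
    (hK : Cfsg.IsPiHallOf (Cfsg.kappa M) K M) (hK1 : K ≠ ⊥) {x : G} (hx : x ∈ K) (hx1 : x ≠ 1) :
    M ⊓ centralizer ({x} : Set G) = K ⊔ S₀ := by
  obtain ⟨E, U, d⟩ := exists_pTypeData F hG hM hK hK1
  refine le_antisymm ?_ (le_inf (sup_le hK.1 (inf_le_left.trans (sigmaCore_le M)))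
    (h.sup_le_centralizer F hG hM hK hK1 (mem_sup_left hx)))
  obtain ⟨q, _, X, hX, hXc⟩ := exists_prime_subgroup (S := zpowers x) (by simpa using hx1)
  rw [← d.inf_normalizer F hG hK (hX.trans (zpowers_le.2 hx)) hXc, ← centralizer_zpowers]
  exact inf_le_inf_left _ ((Subgroup.centralizer_le (SetLike.coe_subset_coe.2 hX)).trans
    (centralizer_le_normalizer _))

theorem inf_centralizer' (h : Partner M K L) (hM : IsCoatom M)
    (hK : Cfsg.IsPiHallOf (Cfsg.kappa M) K M) (hK1 : K ≠ ⊥) {y : G} (hy : y ∈ S₀) (hy1 : y ≠ 1) :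
    L ⊓ centralizer ({y} : Set G) = K ⊔ S₀ := by
  rw [(h.symm F hG hM hK).inf_centralizer F hG h.coatom h.hall (kstar_ne_bot F hG hM hK hK1) hy hy1,
    ← h.eq, sup_comm]

theorem centralizer_mul (h : Partner M K L) (hM : IsCoatom M)
    (hK : Cfsg.IsPiHallOf (Cfsg.kappa M) K M) (hK1 : K ≠ ⊥) {x y : G} (hx : x ∈ K) (hx1 : x ≠ 1)
    (hy : y ∈ S₀) (hy1 : y ≠ 1) : centralizer ({x * y} : Set G) = K ⊔ S₀ := by
  obtain ⟨E, U, d⟩ := exists_pTypeData F hG hM hK hK1
  refine le_antisymm ?_ (h.sup_le_centralizer F hG hM hK hK1 (mul_mem_sup hx hy))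
  have hparts := PiClasses69.piPart_of_commute (Cfsg.sigma M) (isPi_of_mem_sigmaCore hy.1)
    (isPiCompl_of_mem_hall hK hx) (kstar_commute hx hy).symm
  rw [← (kstar_commute hx hy).eq] at hparts
  have hyz : PiClasses69.piPart (Cfsg.sigma M) (x * y) ∈ zpowers (x * y) :=
    pow_mem (mem_zpowers _) _
  have hxz : PiClasses69.piComplPart (Cfsg.sigma M) (x * y) ∈ zpowers (x * y) :=
    mul_mem (inv_mem (pow_mem (mem_zpowers _) _)) (mem_zpowers _)
  rw [hparts.1] at hyz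
  rw [hparts.2] at hxz
  rw [← h.inf_centralizer F hG hM hK hK1 hx hx1]
  refine le_inf ?_ (centralizer_singleton_le_of_mem_zpowers hxz)
  obtain ⟨q, _, Q, hQ, hQc⟩ := exists_prime_subgroup (S := zpowers y) (by simpa using hy1)
  refine (centralizer_singleton_le_of_mem_zpowers hyz).trans ?_
  rw [← centralizer_zpowers]
  exact ((Subgroup.centralizer_le (SetLike.coe_subset_coe.2 hQ)).trans
    (centralizer_le_normalizer _)).trans
    (d.normalizer_le_of_kstar F hG hM hK hK1 (hQ.trans (zpowers_le.2 hy)) hQc)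

theorem zhat_not_mem_conj (hM : IsCoatom M) (hK : Cfsg.IsPiHallOf (Cfsg.kappa M) K M)
    (hK1 : K ≠ ⊥) {g z : G} (hg : g ∉ M) (hz : z ∈ zhat K S₀) :
    z ∉ M.map (MulAut.conj g).toMonoidHom := by
  intro hzg
  obtain ⟨E, U, d⟩ := exists_pTypeData F hG hM hK hK1
  obtain ⟨k, hk, s, hs, -, hs1, -, hps, -⟩ := zhat_mem hK hz
  refine hg (d.kstar_inf_conj F hG hM hK hK1 fun e => hs1 (mem_bot.1 (e ▸ mem_inf.2 ⟨hs, ?_⟩)))
  exact hps ▸ pow_mem hzg _

/-- The number of conjugates of `Ẑ`. -/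
theorem count (hM : IsCoatom M) (hK : Cfsg.IsPiHallOf (Cfsg.kappa M) K M) (hK1 : K ≠ ⊥) :
    Nat.card K * Nat.card ↥S₀ * Set.ncard (conjUnion (zhat K S₀)) =
      (Nat.card K * Nat.card ↥S₀ - Nat.card K - Nat.card ↥S₀ + 1) * Nat.card G ∧
    Nat.card G < 2 * Set.ncard (conjUnion (zhat K S₀)) := by
  obtain ⟨E, U, d⟩ := exists_pTypeData F hG hM hK hK1
  have h1 := ncard_conjUnion_zhat F hG d hM hK hK1
  have h2 := ncard_zhat (M := M) hK
  have hcop : (Nat.card K).Coprime (Nat.card ↥S₀) := (coprime_of_isPiSubgroup_not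
    (isPiSubgroup_mono inf_le_left (isPiSubgroup_sigmaCore M))
    fun r hr hd => kappa_not_sigma (hK.2.1 r hr hd)).symm
  obtain ⟨i, hi⟩ : Odd (Nat.card K) := minSimple_odd_subgroup hG K
  obtain ⟨j, hj⟩ : Odd (Nat.card ↥S₀) := minSimple_odd_subgroup hG S₀
  have hk1 : Nat.card K ≠ 1 := fun e => hK1 (Subgroup.card_eq_one.1 e)
  have hs1 : Nat.card ↥S₀ ≠ 1 := fun e =>
    kstar_ne_bot F hG hM hK hK1 (Subgroup.card_eq_one.1 e)
  have hne : Nat.card K ≠ Nat.card ↥S₀ := fun e => hk1 (by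
    rw [← e, Nat.coprime_self] at hcop; exact hcop)
  have hG0 : 0 < Nat.card G := Nat.card_pos
  generalize Set.ncard (conjUnion (zhat K S₀)) = C at *
  generalize Set.ncard (zhat K S₀) = T at *
  generalize Nat.card K = k at *
  generalize Nat.card ↥S₀ = s at *
  generalize Nat.card G = n at *
  have hks : k + s ≤ k * s := by
    have := Nat.mul_le_mul (show 2 ≤ k by omega) (le_refl s)
    have := Nat.mul_le_mul (le_refl k) (show 2 ≤ s by omega)
    omega
  refine ⟨?_, ?_⟩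
  · rw [show k * s - k - s + 1 = T by omega, mul_comm, h1]
  · have hT : k * s < 2 * T := by
      have : 1 ≤ i := by omega
      have : 1 ≤ j := by omega
      rcases Nat.lt_or_ge i j with h | h
      · nlinarith [Nat.mul_le_mul_left i h]
      · have : j < i := by omega
        nlinarith [Nat.mul_le_mul_right j this]
    by_contra hle
    have h4 := Nat.mul_le_mul_right (k * s) (Nat.not_lt.1 hle)
    nlinarith [Nat.mul_lt_mul_of_lt_of_le hT le_rfl hG0]

/-- BG 14.7 (f): the maximal subgroups with `κ` not empty are conjugate to `M` or to `M*`. -/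
theorem conj_cases (h : Partner M K L) (hM : IsCoatom M)
    (hK : Cfsg.IsPiHallOf (Cfsg.kappa M) K M) (hK1 : K ≠ ⊥) {H : Subgroup G} (hH : IsCoatom H)
    (hne : (Cfsg.kappa H).Nonempty) :
    ∃ g : G, H = M.map (MulAut.conj g).toMonoidHom ∨ H = L.map (MulAut.conj g).toMonoidHom := by
  obtain ⟨p, hp⟩ := hne
  obtain ⟨K', hK'⟩ := exists_isPiHallOf (Cfsg.kappa H) (minSimple_coatom_solvable hG hH)
  have hK'1 : K' ≠ ⊥ := fun e => hK'.2.2 p hp.1 hp
    (by rw [e, relIndex_bot_left]; exact hp.2.1)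
  have h1 := (count F hG hM hK hK1).2
  have h2 := (count F hG hH hK' hK'1).2
  obtain ⟨a, ⟨g, z, hz, rfl⟩, g', z', hz', e⟩ :
      (conjUnion (zhat K S₀) ∩ conjUnion (zhat K' (Cfsg.sigmaCore H ⊓ centralizer (K' : Set G)))).Nonempty := by
    rw [Set.nonempty_iff_ne_empty]
    intro e
    have h3 := Set.ncard_le_ncard (Set.subset_univ (conjUnion (zhat K S₀) ∪ conjUnion (zhat K' (Cfsg.sigmaCore H ⊓ centralizer (K' : Set G)))))
      (Set.toFinite _)
    rw [Set.ncard_union_eq (Set.disjoint_iff_inter_eq_empty.2 e) (Set.toFinite _) (Set.toFinite _),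
      Set.ncard_univ] at h3
    omega
  obtain ⟨k', -, s', hs', -, hs'1, -, hps', -⟩ := zhat_mem hK' hz'
  obtain ⟨r, hr, hrd⟩ := Nat.exists_prime_and_dvd (mt orderOf_eq_one_iff.1 hs'1)
  have hrH : r ∈ Cfsg.sigma H := isPi_of_mem_sigmaCore hs'.1 r hr hrd
  have hord : ∀ g x : G, orderOf (g * x * g⁻¹) = orderOf x := fun g x => by
    rw [← MulAut.conj_apply, MulEquiv.orderOf_eq]
  have hrZ : r ∣ Nat.card K * Nat.card ↥S₀ := by
    rw [← card_kstar_sup hK]
    refine ((hps' ▸ hrd).trans (orderOf_pow_dvd _)).trans ?_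
    rw [← hord g' z', ← e, hord]
    exact (K ⊔ S₀).orderOf_dvd_natCard hz.1
  rcases hr.dvd_mul.1 hrZ with h3 | h3
  · obtain ⟨c, hc⟩ := exists_conj_of_sigma F hG h.coatom hH
      (isPiSubgroup_sigmaCore L r hr (h3.trans (card_dvd_of_le h.K_le))) hrH
    exact ⟨c, Or.inr hc⟩
  · obtain ⟨c, hc⟩ := exists_conj_of_sigma F hG hM hH
      (isPiSubgroup_sigmaCore M r hr (h3.trans (card_dvd_of_le inf_le_left))) hrH
    exact ⟨c, Or.inl hc⟩

end Partner

omit F hG in
/-- A standard factorisation with `U = 1` is of type `P₁`. -/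
theorem isP1_of_decomposition (hV : Cfsg.IsSigmaDecomposition M K (⊥ : Subgroup G)) : IsP1 M := by
  intro r hr hd hs
  have hsup : M ≤ Cfsg.sigmaCore M ⊔ K := fun m hm => by
    obtain ⟨a, ha, b, hb, rfl⟩ := hV.compl.2.2.2 m hm
    rw [mem_bot.1 ha, one_mul, sup_comm]
    exact hb
  rcases hr.dvd_mul.1 ((hd.trans (card_dvd_of_le hsup)).trans
    (BG13.card_sup_dvd_mul (hV.hall.1.trans (le_normalizer_sigmaCore M)))) with h | h
  · exact absurd (isPiSubgroup_sigmaCore M r hr h) hs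
  · exact hV.hall.2.1 r hr h

end CfsgLib.OddOrder.BG14
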