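import Cfsg.Agent.OddOrder.BG14.KappaTauTwo

/-!
# Consequences of BG 13.13, and BG 13.12
-/

set_option autoImplicit false
set_option linter.style.haveILetI false
set_option linter.unusedSectionVars false

namespace CfsgLib.OddOrder.BG14

open Cfsg Subgroup
open CfsgLib.OddOrder
open CfsgLib.OddOrder.BG11
open CfsgLib.OddOrder.BG13

variable {G : Type*} [Group G] [Finite G] {p q r : ℕ} {M H P Q R : Subgroup G}
variable [Fact p.Prime] (F : BG13Facts G) (hG : Cfsg.IsMinSimpleOddOrder G)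
include F hG

theorem kappa_normalizer_nonconj (hM : IsCoatom M) (hp : p ∈ Cfsg.kappa M) (hPM : P ≤ M)
    (hP : Nat.card P = p) (hH : IsCoatom H) (hN : normalizer (P : Set G) ≤ H) :
    (∀ g : G, H ≠ M.map (MulAut.conj g).toMonoidHom) ∧
      Disjoint (Cfsg.sigma M) (Cfsg.sigma H) ∧ P ≤ Cfsg.sigmaCore H := by
  have hs := (kappa_sigma_normalizer F hG hM hp hPM hP hH hN).1
  have hnc : ∀ g : G, H ≠ M.map (MulAut.conj g).toMonoidHom := fun g e =>
    kappa_not_sigma hp (by rw [e, sigma_map_conj] at hs; exact hs)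
  exact ⟨hnc, disjoint_sigma F hG hM hH hnc, pGroup_le_sigmaCore F.bg12.bg10 hH hs
    (le_normalizer.trans hN) (isPGroup_of_card_prime hP)⟩

/-- The maximal subgroup over `N(P)`, `#P = p ∈ κ(M)`, is unique. -/
theorem kappa_normalizer_unique (hM : IsCoatom M) (hp : p ∈ Cfsg.kappa M) (hPM : P ≤ M)
    (hP : Nat.card P = p) (hH : IsCoatom H) (hN : normalizer (P : Set G) ≤ H) {L : Subgroup G}
    (hL : IsCoatom L) (hNL : normalizer (P : Set G) ≤ L) : L = H := by
  have h1 := (kappa_sigma_normalizer F hG hM hp hPM hP hH hN).1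
  obtain ⟨g, hg⟩ := exists_conj_of_sigma F hG hH hL h1
    (kappa_sigma_normalizer F hG hM hp hPM hP hL hNL).1
  exact eq_of_conj_of_normalizer_le F.bg12.bg10 hG hH h1 (isPGroup_of_card_prime hP)
    (BG11.ne_bot_of_card_prime hP) (le_normalizer.trans hN) hNL hg

/-- A subgroup `Q` of prime order of `C_{M_σ}(P)` has `q ∈ κ(H)` and `N(Q) ≤ M`. -/
theorem kappa_fixed_prime [Fact q.Prime] (hM : IsCoatom M) (hp : p ∈ Cfsg.kappa M) (hPM : P ≤ M)
    (hP : Nat.card P = p) (hH : IsCoatom H) (hN : normalizer (P : Set G) ≤ H)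
    (hQ : Q ≤ Cfsg.sigmaCore M ⊓ centralizer (P : Set G)) (hQc : Nat.card Q = q) :
    q ∈ Cfsg.kappa H ∧ normalizer (Q : Set G) ≤ M := by
  obtain ⟨hnc, hdis, hPH⟩ := kappa_normalizer_nonconj F hG hM hp hPM hP hH hN
  have hQH : Q ≤ H := (hQ.trans inf_le_right).trans ((centralizer_le_normalizer _).trans hN)
  have hqM : q ∈ Cfsg.sigma M :=
    isPiSubgroup_sigmaCore M q Fact.out (hQc ▸ card_dvd_of_le (hQ.trans inf_le_left))
  have hqH : q ∉ Cfsg.sigma H := Set.disjoint_left.1 hdis hqM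
  have hQM : Q ≤ M := (hQ.trans inf_le_left).trans (sigmaCore_le M)
  have hfix : Cfsg.sigmaCore H ⊓ centralizer (Q : Set G) ≠ ⊥ := fun e =>
    BG11.ne_bot_of_card_prime hP
      (le_bot_iff.1 (e ▸ le_inf hPH (le_centralizer_iff.1 (hQ.trans inf_le_right))))
  obtain ⟨K, hK, hNK⟩ := minSimple_exists_coatom hG (minSimple_normalizer_ne_top hG
    (BG11.ne_bot_of_card_prime hQc) (minSimple_ne_top_of_isPGroup hG (isPGroup_of_card_prime hQc)))
  have hκ : q ∈ Cfsg.kappa H := by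
    refine (kappa_or_tau2 F hG hH hqH hQH hQc hfix).resolve_right fun h2 => ?_
    obtain ⟨-, huniq⟩ := tau2_line_unique F hG hH h2 hQH hQc hfix
    have hKH := huniq K hK ((centralizer_le_normalizer _).trans hNK)
    obtain ⟨-, ⟨h, -⟩ | ⟨-, -, hbot, -⟩⟩ :=
      cover F.bg12 hG hM hqM hQc hQM hH (ne_of_not_conj hnc) (hKH ▸ hNK)
    · exact hqH h
    · exact BG11.ne_bot_of_card_prime hP (le_bot_iff.1 (hbot ▸ le_inf hPH hPM))
  refine ⟨hκ, ?_⟩
  by_cases hKM : K = M
  · exact hKM ▸ hNK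
  exfalso
  have hqK := (kappa_sigma_normalizer F hG hH hκ hQH hQc hK hNK).1
  obtain ⟨hnc', -⟩ := cover F.bg12 hG hM hqM hQc hQM hK hKM hNK
  exact Set.disjoint_left.1 (disjoint_sigma F hG hM hK hnc') hqM hqK

/-- BG 13.12: a subgroup of order `p ∈ κ(M)` centralizes no subgroup of order `r ∈ τ₂(M)`. -/
theorem kappa_tau2_no_fix [Fact r.Prime] (hM : IsCoatom M) (hp : p ∈ Cfsg.kappa M)
    (hPM : P ≤ M) (hP : Nat.card P = p) (hr : r ∈ Cfsg.tau2 M) (hR : Nat.card R = r)
    (hRM : R ≤ M ⊓ centralizer (P : Set G)) : False := by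
  have hfix := kappa_fixed hp hPM hP
  rcases kappa_tau13 F hG hp with hp1 | hp3
  swap
  · exact Set.eq_empty_iff_forall_notMem.1
      (tau2_empty_of_tau3_fixed F hG hM hp3 hPM hP hfix) r hr
  obtain ⟨E, hU, hE⟩ := exists_complIn_ge F.bg12 hG hM
    (sup_le hPM (hRM.trans inf_le_left) : P ⊔ R ≤ M) fun s hs hd => by
      rcases hs.dvd_mul.1 (hd.trans (BG13.card_sup_dvd_mul
        ((hRM.trans inf_le_right).trans (centralizer_le_normalizer _)))) with h | h
      · rw [hP, Nat.prime_dvd_prime_iff_eq hs Fact.out] at h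
        exact h ▸ kappa_not_sigma hp
      · rw [hR, Nat.prime_dvd_prime_iff_eq hs Fact.out] at h
        exact h ▸ hr.2.1
  have h28 := F.tauOneFix M hM E hE p hp1 P (le_sup_left.trans hU) hP R
    (le_inf (le_sup_right.trans hU) (hRM.trans inf_le_right)) (by rw [hR]; exact Fact.out)
  have hfixR : Cfsg.sigmaCore M ⊓ centralizer (R : Set G) ≠ ⊥ := fun e =>
    hfix (le_bot_iff.1 (e ▸ h28))
  obtain ⟨-, huniq⟩ := tau2_line_unique F hG hM hr (hRM.trans inf_le_left) hR hfixR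
  obtain ⟨H, hH, hN, hne, hnc, -⟩ :=
    exists_coatom_normalizer F hG hM (kappa_not_sigma hp) (kappa_pRankLE_one hp) hP
  obtain ⟨-, -, hPH⟩ := kappa_normalizer_nonconj F hG hM hp hPM hP hH hN
  have hNR : normalizer (R : Set G) ≤ M := by
    obtain ⟨K, hK, hNK⟩ := minSimple_exists_coatom hG (minSimple_normalizer_ne_top hG
      (BG11.ne_bot_of_card_prime hR) (minSimple_ne_top_of_isPGroup hG (isPGroup_of_card_prime hR)))
    exact huniq K hK ((centralizer_le_normalizer _).trans hNK) ▸ hNK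
  have hCH : centralizer (P : Set G) ≤ H := (centralizer_le_normalizer _).trans hN
  have hRH : R ≤ H := (hRM.trans inf_le_right).trans hCH
  by_cases hrH : r ∈ Cfsg.sigma H
  · obtain ⟨-, ⟨h, -⟩ | ⟨-, -, hbot, -⟩⟩ := cover F.bg12 hG hH hrH hR hRH hM hne.symm hNR
    · exact hr.2.1 h
    · exact hfix (le_bot_iff.1 (hbot ▸ le_inf inf_le_left (inf_le_right.trans hCH)))
  have hfixH : Cfsg.sigmaCore H ⊓ centralizer (R : Set G) ≠ ⊥ := fun e =>
    BG11.ne_bot_of_card_prime hP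
      (le_bot_iff.1 (e ▸ le_inf hPH (le_centralizer_iff.1 (hRM.trans inf_le_right))))
  rcases kappa_or_tau2 F hG hH hrH hRH hR hfixH with h | h
  · exact hr.2.1 (kappa_sigma_normalizer F hG hH h hRH hR hM hNR).1
  · exact hne (huniq H hH (tau2_line_unique F hG hH h hRH hR hfixH).1)

end CfsgLib.OddOrder.BG14
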