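import Cfsg.Agent.OddOrder.BG14.Signalizer
import Cfsg.Agent.OddOrder.BG14.KappaSigma

/-!
# The hypotheses `FixFacts` of 14.4 hold
-/

set_option autoImplicit false
set_option linter.style.haveILetI false

namespace CfsgLib.OddOrder.BG14

open Cfsg Subgroup
open CfsgLib.OddOrder
open CfsgLib.OddOrder.BG11
open CfsgLib.OddOrder.BG13

variable {G : Type*} [Group G] [Finite G]

theorem fixFacts (F : BG13Facts G) (hG : Cfsg.IsMinSimpleOddOrder G) : FixFacts G where
  tauThree M hM E hE r hr R hRE hR hfix := by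
    haveI := Fact.mk hr.1
    exact tau2_empty_of_tau3_fixed F hG hM hr (hRE.trans hE.1) hR hfix
  tauOne M hM E hE p hp P hPE hP r hr A hAE hA _ hAP := by
    by_contra hfix
    haveI := Fact.mk hp.1
    haveI := Fact.mk hr.1
    obtain ⟨R, hR, hRc⟩ := exists_card_prime_le
      ((isPGroup_of_isElementaryAbelian hA).to_le inf_le_left) hAP
    exact kappa_tau2_no_fix F hG hM (mem_kappa_of_fixed
        (minSimple_prime_ne_two_subgroup hG (dvd_card_of_card_le (le_refl P) hP)) hp.2.1 hp.2.2.2.2
        (hPE.trans hE.1) hP hfix) (hPE.trans hE.1) hP hr hRc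
      (le_inf ((hR.trans inf_le_left).trans (hAE.trans hE.1)) (hR.trans inf_le_right))

end CfsgLib.OddOrder.BG14
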