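import Cfsg.Agent.OddOrder.BG14.SupportCount
import Cfsg.Agent.OddOrder.BG14.SupportFacts
import Cfsg.Agent.S1454

/-!
# BG 14.11: a maximal subgroup covered by `N` when `σ(N)` meets `π(M)`

If `N` covers `C(x)`, `x ∈ M_σ`, then `τ₃(M)` is empty; if moreover some prime of `σ(N)` divides
`|M|` then `κ(M)` and `τ₂(M)` are empty.
-/

set_option autoImplicit false
set_option linter.style.haveILetI false
set_option linter.unusedSectionVars false

namespace CfsgLib.OddOrder.BG14

open Cfsg Subgroup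
open CfsgLib.OddOrder
open CfsgLib.OddOrder.BG11
open CfsgLib.OddOrder.BG13
open CfsgLib.ConjFunctor (IsSylowIn exists_isSylowIn_ge)

variable {G : Type*} [Group G] [Finite G] {p q k t : ℕ} {M N E : Subgroup G} {x : G}
variable {X A : Subgroup G}
variable (F : BG13Facts G) (hG : Cfsg.IsMinSimpleOddOrder G)
include F hG

/-- For `q ∈ σ(M) \ β(M)` a complement `E` normalizes a Sylow `q`-subgroup of `M` and `E'`
centralizes it. -/
theorem exists_core_sylow [Fact q.Prime] (hM : IsCoatom M) (hq : q ∈ Cfsg.sigma M)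
    (hqb : q ∉ Cfsg.beta M) (hE : Cfsg.IsComplIn E (Cfsg.sigmaCore M) M) :
    ∃ T : Subgroup G, IsSylowIn q T M ∧ T ≤ Cfsg.sigmaCore M ∧ E ≤ normalizer (T : Set G) ∧
      Cfsg.IsNarrow q T ∧ ⁅E, E⁆ ≤ centralizer (T : Set G) := by
  have hsolE : Group.IsSolvable E := minSimple_solvable hG (ne_top_of_le_ne_top hM.1 hE.1)
  obtain ⟨S, hES⟩ := Coprime.exists_invariant_sylow (hE.1.trans (le_normalizer_sigmaCore M))
    (coprime_of_isPiSubgroup_not (isPiSubgroup_sigmaCore M)
      fun r hr hd => complIn_not_sigma F hG hM hE hr hd).symm (Or.inl hsolE) q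
  have hle : (S : Subgroup _).map (Cfsg.sigmaCore M).subtype ≤ Cfsg.sigmaCore M := map_subtype_le _
  obtain ⟨T, hST, hT⟩ := exists_isSylowIn_ge (hle.trans (sigmaCore_le M)) (S.2.map _)
  have hTS : T = (S : Subgroup _).map (Cfsg.sigmaCore M).subtype :=
    (BG11.isSylowIn_map_subtype S).eq_of_le hST
      (pGroup_le_sigmaCore F.bg12.bg10 hM hq hT.le hT.isPGroup) hT.isPGroup
  subst hTS
  have hn : Cfsg.IsNarrow q ↥((S : Subgroup _).map (Cfsg.sigmaCore M).subtype) :=
    BG5.isNarrow_of_mulEquiv (subgroupOfEquivOfLe hT.le) (sylow_narrow_of_not_beta hG hM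
      (dvd_card_of_sigma hq) hqb ((hT.isPGroup.comap_subtype (K := M)).toSylow hT.not_dvd))
  refine ⟨_, hT, hle, hES, hn, commutator_le_centralizer_of_narrow
    (minSimple_prime_ne_two_subgroup hG (dvd_card_of_sigma hq)) hT.isPGroup hn hES hsolE
    (minSimple_odd_subgroup hG E) ?_⟩
  exact ((Fact.out : q.Prime).coprime_iff_not_dvd.2
    fun hd => complIn_not_sigma F hG hM hE Fact.out hd hq).symm

/-- `t < q` for `t ∈ τ₂(M)` and `q ∈ σ(M) \ β(M)`. -/
theorem tau2_lt [Fact q.Prime] [Fact t.Prime] (hM : IsCoatom M) (ht : t ∈ Cfsg.tau2 M)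
    (hq : q ∈ Cfsg.sigma M) (hqb : q ∉ Cfsg.beta M) : t < q := by
  obtain ⟨E, hE⟩ := exists_complIn F hG hM
  obtain ⟨B, hBE, hB, hBc⟩ := exists_plane_complIn F hG hM ht hE
  obtain ⟨T, hT, hTs, hET, hn, -⟩ := exists_core_sylow F hG hM hq hqb hE
  have hnc : ¬ B ≤ centralizer (T : Set G) := fun h => by
    have h1 : T ≤ Cfsg.sigmaCore M ⊓ centralizer (B : Set G) :=
      le_inf hTs (le_centralizer_iff.1 h)
    rw [(F.tauTwoPlane M hM t ht B (hBE.trans hE.1) hB hBc).2.1, le_bot_iff] at h1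
    exact hT.not_dvd (by rw [h1, relIndex_bot_left]; exact dvd_card_of_sigma hq)
  obtain ⟨b, hb, hbT⟩ := SetLike.not_le_iff_exists.1 hnc
  have hb1 : b ≠ 1 := fun e => hbT (e ▸ one_mem _)
  have hord : orderOf b = t := orderOf_eq_prime (hB.2 b hb) hb1
  have hbc : Nat.card (zpowers b) = t := by rw [Nat.card_zpowers, hord]
  have hbE : zpowers b ≤ E := zpowers_le.2 (hBE hb)
  have hfaith : zpowers b ⊓ centralizer (T : Set G) = ⊥ := by
    refine Subgroup.card_eq_one.1 (((Nat.dvd_prime (Fact.out : t.Prime)).1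
      (hbc ▸ card_dvd_of_le (inf_le_left : zpowers b ⊓ centralizer (T : Set G) ≤ _))).resolve_right
      fun h => hbT ?_)
    have h1 := eq_of_le_of_card_ge (inf_le_left : zpowers b ⊓ centralizer (T : Set G) ≤ _)
      (by rw [h, hbc])
    exact (inf_eq_left.1 h1) (mem_zpowers b)
  have h3 := (Cfsg.Agent.S1454.result q (minSimple_prime_ne_two_subgroup hG (dvd_card_of_sigma hq))
    T (zpowers b) hT.isPGroup hn (hbE.trans hET)
    (minSimple_solvable hG (ne_top_of_le_ne_top hM.1 (hbE.trans hE.1)))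
    (minSimple_odd_subgroup hG _) hfaith).2.2
  rw [hbc] at h3
  have hq2 := (Fact.out : q.Prime).two_le
  by_cases hd : t ∣ q * (q - 1)
  · rcases (Fact.out : t.Prime).dvd_mul.1 hd with h | h
    · exact absurd ((Nat.prime_dvd_prime_iff_eq Fact.out Fact.out).1 h ▸ hq) ht.2.1
    · have := Nat.le_of_dvd (by omega) h
      omega
  · have := Nat.le_of_dvd (by omega) (h3 Fact.out hd).1
    omega

variable [Fact q.Prime]

theorem Cover.not_beta (h : Cover q M N x X A) : q ∉ Cfsg.beta M :=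
  tau2_not_beta F hG h.coatomN h.tau2 M

/-- If `N` covers `C(x)` then `τ₃(M)` is empty. -/
theorem Cover.tau3_empty (h : Cover q M N x X A) : Cfsg.tau3 M = ∅ := by
  refine Set.eq_empty_iff_forall_notMem.2 fun k hk => ?_
  haveI := Fact.mk hk.1
  obtain ⟨E, hE⟩ := exists_complIn F hG h.coatomM
  have hd : k ∣ Nat.card E := dvd_card_complIn F hG h.coatomM hE hk.2.1
    (hk.2.2.1.trans (card_dvd_of_le (commutator_le_self M)))
  obtain ⟨z, hz⟩ := exists_prime_orderOf_dvd_card' (G := E) k hd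
  have hK : Nat.card (zpowers (z : G)) = k := by rw [Nat.card_zpowers, orderOf_coe, hz]
  have hKE : zpowers (z : G) ≤ E := zpowers_le.2 z.2
  set K := zpowers (z : G)
  obtain ⟨T, hT, hTs, -, -, hcT⟩ := exists_core_sylow F hG h.coatomM h.sigma
    (Cover.not_beta F hG h) hE
  have hTK : T ≤ Cfsg.sigmaCore M ⊓ centralizer (K : Set G) := le_inf hTs (le_centralizer_iff.1
    ((tau3_subgroup F hG h.coatomM hE hKE (isPiSubgroup_of_card_prime hK hk)).2.1.trans hcT))
  obtain ⟨B, hBT, hB, hBc⟩ := exists_plane_le_sylow hT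
    (not_pRankLE_one_of_card_sq (h.A_le.trans inf_le_left) h.elementary h.card_A)
  have hB1 : B ≠ ⊥ := fun e => by
    rw [e, card_bot] at hBc
    exact (Fact.out : q.Prime).ne_one ((Nat.pow_eq_one.1 hBc.symm).resolve_right two_ne_zero)
  have hκ : k ∈ Cfsg.kappa M := mem_kappa_of_fixed
    (minSimple_prime_ne_two_subgroup hG (dvd_card_of_card_le le_rfl hK)) hk.2.1 hk.2.2.2
    (hKE.trans hE.1) hK fun e => hB1 (le_bot_iff.1 (e ▸ hBT.trans hTK))
  obtain ⟨H, hH, hNH⟩ := minSimple_exists_coatom hG (minSimple_normalizer_ne_top hG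
    (BG11.ne_bot_of_card_prime hK) (minSimple_ne_top_of_isPGroup hG (isPGroup_of_card_prime hK)))
  obtain ⟨Q, hQB, hQ⟩ := exists_card_prime_le (isPGroup_of_isElementaryAbelian hB) hB1
  exact not_pRankLE_one_of_card_sq
    ((hBT.trans (hTK.trans inf_le_right)).trans ((centralizer_le_normalizer _).trans hNH)) hB hBc
    (kappa_pRankLE_one (kappa_fixed_prime F hG h.coatomM hκ (hKE.trans hE.1) hK hH hNH
      (hQB.trans (hBT.trans hTK)) hQ).1)

/-- A prime of `σ(N)` is not in `τ₂(M)`. -/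
theorem Cover.not_tau2 (h : Cover q M N x X A) [Fact p.Prime] (hpN : p ∈ Cfsg.sigma N) :
    p ∉ Cfsg.tau2 M := fun hp => by
  have h1 := tau2_lt F hG h.coatomM hp h.sigma (Cover.not_beta F hG h)
  have h2 := tau2_lt F hG h.coatomN h.tau2 hpN (tau2_not_beta F hG h.coatomM hp N)
  omega

/-- A prime of `σ(N)` is not in `κ(M)`. -/
theorem Cover.not_kappa (h : Cover q M N x X A) [Fact p.Prime] (hpN : p ∈ Cfsg.sigma N) :
    p ∉ Cfsg.kappa M := fun hp => by
  obtain ⟨u, hu⟩ := exists_prime_orderOf_dvd_card' (G := M) p hp.2.1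
  have hP : Nat.card (zpowers (u : G)) = p := by rw [Nat.card_zpowers, orderOf_coe, hu]
  have hPM : zpowers (u : G) ≤ M := zpowers_le.2 u.2
  set P := zpowers (u : G)
  obtain ⟨H, hH, hNH⟩ := minSimple_exists_coatom hG (minSimple_normalizer_ne_top hG
    (BG11.ne_bot_of_card_prime hP) (minSimple_ne_top_of_isPGroup hG (isPGroup_of_card_prime hP)))
  obtain ⟨hnc, hdis, hPH⟩ := kappa_normalizer_nonconj F hG h.coatomM hp hPM hP hH hNH
  obtain ⟨c, hc⟩ := exists_conj_of_sigma F hG h.coatomN hH hpN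
    (kappa_sigma_normalizer F hG h.coatomM hp hPM hP hH hNH).1
  obtain ⟨r, hr, hrd⟩ := Nat.exists_prime_and_dvd fun e =>
    kappa_fixed hp hPM hP (Subgroup.card_eq_one.1 e)
  haveI := Fact.mk hr
  obtain ⟨y', hy'⟩ := exists_prime_orderOf_dvd_card'
    (G := ↥(Cfsg.sigmaCore M ⊓ centralizer (P : Set G))) r hrd
  set y : G := (y' : G)
  have hy : y ∈ Cfsg.sigmaCore M ⊓ centralizer (P : Set G) := y'.2
  have hyo : orderOf y = r := by rw [orderOf_coe, hy']
  have hy1 : y ≠ 1 := fun e => hr.ne_one (by rw [← hyo, e, orderOf_one])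
  have hCy : centralizer ({y} : Set G) ≤ M := by
    have h1 := (kappa_fixed_prime F hG h.coatomM hp hPM hP hH hNH (zpowers_le.2 hy)
      (by rw [Nat.card_zpowers, hyo])).2
    rw [← centralizer_zpowers]
    exact (centralizer_le_normalizer _).trans h1
  have hrH : r ∉ Cfsg.sigma H :=
    Set.disjoint_left.1 hdis (prime_dvd_orderOf_mem_sigma hy.1 hr (hyo ▸ dvd_rfl))
  have hyH : y ∈ H := hNH (centralizer_le_normalizer _ hy.2)
  haveI := minSimple_coatom_solvable hG h.coatomN
  obtain ⟨n, hn, hle⟩ := exists_conj_le_of_relIndex (π := {s | s ∉ Cfsg.sigma N}) (L := M ⊓ N)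
    (U := (zpowers y).map (MulAut.conj c⁻¹).toMonoidHom) inf_le_right (by
      have h1 := map_mono (f := (MulAut.conj c⁻¹).toMonoidHom) (zpowers_le.2 hyH)
      rwa [hc, map_conj_map_conj, inv_mul_cancel, map_conj_one] at h1)
    (fun s hs hd => by
      rw [card_map_conj, Nat.card_zpowers, hyo, Nat.prime_dvd_prime_iff_eq hs hr] at hd
      rw [hc, sigma_map_conj] at hrH
      exact hd ▸ hrH)
    fun s hs hd hs' => hs' (isPiSubgroup_sigmaCore N s hs
      (hd.trans (complIn_relIndex F hG h.coatomN h.compl)))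
  rw [map_conj_map_conj] at hle
  set g := (n * c⁻¹)⁻¹ with hg
  have hyg : y ∈ M.map (MulAut.conj g).toMonoidHom := by
    have h1 := map_mono (f := (MulAut.conj g).toMonoidHom) (hle.trans inf_le_left)
    rw [map_conj_map_conj, inv_mul_cancel, map_conj_one] at h1
    exact h1 (mem_zpowers y)
  have hMg := eq_of_mem_conj_of_centralizer_le F (fixFacts F hG) hG h.coatomM hy.1 hy1 hCy hyg
  have hPg : P.map (MulAut.conj g⁻¹).toMonoidHom ≤ M := by
    have h1 := map_mono (f := (MulAut.conj g⁻¹).toMonoidHom) (hPM.trans hMg.ge)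
    rwa [map_conj_map_conj, inv_mul_cancel, map_conj_one] at h1
  have hNg : N.map (MulAut.conj g).toMonoidHom = H := by
    rw [hg, mul_inv_rev, inv_inv, ← map_conj_map_conj (g := c),
      map_conj_eq_self_of_mem (inv_mem hn), hc]
  have hPN : P.map (MulAut.conj g⁻¹).toMonoidHom ≤ Cfsg.sigmaCore N := by
    have h1 := map_mono (f := (MulAut.conj g⁻¹).toMonoidHom) hPH
    rwa [← hNg, sigmaCore_map_conj F.bg12.bg10 h.coatomN g, map_conj_map_conj, inv_mul_cancel,
      map_conj_one] at h1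
  have h2 : P.map (MulAut.conj g⁻¹).toMonoidHom ≤ ⊥ :=
    h.compl.2.2.1 ▸ le_inf (le_inf hPg (hPN.trans (sigmaCore_le N))) hPN
  exact BG11.ne_bot_of_card_prime (by rw [card_map_conj, hP]) (le_bot_iff.1 h2)

/-- BG 14.11 (a) (S1436, first part). -/
theorem Cover.kappa_tau2_empty (h : Cover q M N x X A) (hx : x ∈ Cfsg.sigmaCore M) [Fact p.Prime]
    (hpN : p ∈ Cfsg.sigma N) (hpd : p ∣ Nat.card M) :
    Cfsg.kappa M = ∅ ∧ Cfsg.tau2 M = ∅ := by
  have hM := h.coatomM
  have hpM : p ∉ Cfsg.sigma M := fun hs =>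
    Set.disjoint_left.1 (disjoint_sigma F hG hM h.coatomN h.not_conj) hs hpN
  have hp1 : p ∈ Cfsg.tau1 M := by
    rcases tau_cases F hG hM Fact.out hpd hpM with e | e | e
    · exact e
    · exact absurd e (Cover.not_tau2 F hG h hpN)
    · exact absurd e (Cover.tau3_empty F hG h ▸ Set.notMem_empty p)
  obtain ⟨u, hu⟩ := exists_prime_orderOf_dvd_card' (G := M) p hpd
  have hP : Nat.card (zpowers (u : G)) = p := by rw [Nat.card_zpowers, orderOf_coe, hu]
  have hPM : zpowers (u : G) ≤ M := zpowers_le.2 u.2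
  set P := zpowers (u : G)
  have hreg : Cfsg.sigmaCore M ⊓ centralizer (P : Set G) = ⊥ := by
    by_contra hfix
    exact Cover.not_kappa F hG h hpN (mem_kappa_of_fixed
      (minSimple_prime_ne_two_subgroup hG hpd) hpM hp1.2.2.2.2 hPM hP hfix)
  obtain ⟨E, hPE, hE⟩ := complIn_of_prime F hG hM hpM hPM hP
  refine ⟨Set.eq_empty_iff_forall_notMem.2 fun k hk => ?_,
    Set.eq_empty_iff_forall_notMem.2 fun t ht => ?_⟩
  · haveI := Fact.mk hk.1
    have hk1 : k ∈ Cfsg.tau1 M :=
      (kappa_tau13 F hG hk).resolve_right (Cover.tau3_empty F hG h ▸ Set.notMem_empty k)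
    obtain ⟨E₁, hE₁, hPE₁⟩ := exists_isPiHallOf_ge
      (minSimple_solvable hG (ne_top_of_le_ne_top hM.1 hE.1)) hPE
      (isPiSubgroup_of_card_prime hP hp1)
    have hkd : k ∣ Nat.card E₁ := by
      have h1 := dvd_card_complIn F hG hM hE (kappa_not_sigma hk) hk.2.1
      rw [← card_mul_relIndex hE₁.1] at h1
      exact ((Fact.out : k.Prime).dvd_mul.1 h1).resolve_right (hE₁.2.2 k Fact.out hk1)
    obtain ⟨z, hz⟩ := exists_prime_orderOf_dvd_card' (G := E₁) k hkd
    have hK : Nat.card (zpowers (z : G)) = k := by rw [Nat.card_zpowers, orderOf_coe, hz]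
    have hKE₁ : zpowers (z : G) ≤ E₁ := zpowers_le.2 z.2
    haveI hc : IsCyclic E₁ := (F.complStructure M hM E hE).1 E₁ hE₁
    have hPK : P ≤ centralizer (zpowers (z : G) : Set G) := fun a ha =>
      mem_centralizer_iff.2 fun b hb => congrArg Subtype.val
        (IsMulCommutative.is_comm.comm (⟨b, hKE₁ hb⟩ : E₁) ⟨a, hPE₁ ha⟩)
    have h28 := F.tauOneFix M hM E hE k hk1 _ (hKE₁.trans hE₁.1) hK P (le_inf hPE hPK)
      (by rw [hP]; exact Fact.out)
    exact kappa_fixed hk ((hKE₁.trans hE₁.1).trans hE.1) hK (le_bot_iff.1 (hreg ▸ h28))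
  · haveI := Fact.mk ht.1
    obtain ⟨B, hBE, hB, hBc⟩ := exists_plane_complIn F hG hM ht hE
    haveI := hB.1
    have hBp := isPGroup_of_isElementaryAbelian hB
    have hB1 : B ≠ ⊥ := fun e => by
      rw [e, card_bot] at hBc
      exact (Fact.out : t.Prime).ne_one ((Nat.pow_eq_one.1 hBc.symm).resolve_right two_ne_zero)
    obtain ⟨L, hL, hNL⟩ := minSimple_exists_coatom hG (minSimple_normalizer_ne_top hG hB1
      (minSimple_ne_top_of_isPGroup hG hBp))
    obtain ⟨htL, -, -, hEL, hBL⟩ := plane_sigma F hG hM hE ht hBE hB hBc hL hNL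
    have hLN : ∀ g : G, L ≠ N.map (MulAut.conj g).toMonoidHom := fun g e =>
      Cover.not_tau2 F hG h (by rwa [e, sigma_map_conj] at htL) ht
    have hpL : p ∉ Cfsg.sigma L := fun hs => by
      obtain ⟨g, hg⟩ := exists_conj_of_sigma F hG h.coatomN hL hpN hs
      exact hLN g hg
    have hp1L : Cfsg.PRankLE p 1 L := by
      by_contra hr
      have hp2 : p ∈ Cfsg.tau2 L :=
        ⟨Fact.out, hpL, pRankLE_two_of_not_sigma F.bg12.bg10 hL hpL, hr⟩
      have h1 := tau2_lt F hG hL hp2 htL (tau2_not_beta F hG hM ht L)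
      have h2 := tau2_lt F hG hM ht h.sigma (Cover.not_beta F hG h)
      have h3 := tau2_lt F hG h.coatomN h.tau2 hpN (tau2_not_beta F hG hL hp2 N)
      omega
    have hn : P ≤ normalizer (B : Set G) :=
      hPE.trans (F.bg12.tauTwoCompl M hM E hE t ht B hBE hB hBc).1
    have hcop : (Nat.card P).Coprime (Nat.card B) := by
      rw [hP, hBc]
      exact ((Nat.coprime_primes Fact.out Fact.out).2
        fun e : p = t => ht.2.2.2 (e ▸ hp1.2.2.2.2)).pow_right 2
    have hinf := Coprime.inf_centralizer_inf_commutator_eq_bot hn hcop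
    have hsup := Coprime.inf_centralizer_sup_commutator_eq hn hcop
    set C := B ⊓ centralizer (P : Set G) with hC
    have hDB : ⁅B, P⁆ ≤ B := Coprime.commutator_le_of_le_normalizer hn
    set D := ⁅B, P⁆ with hD
    have hPn : P ≤ normalizer (D : Set G) :=
      le_sup_right.trans (Coprime.sup_le_normalizer_commutator B P)
    have hDPE : D ⊔ P ≤ E := sup_le (hDB.trans hBE) hPE
    have hDc : Cfsg.sigmaCore M ≤ centralizer (D : Set G) := by
      have hw := frobenius_fixed_point_formula (U := D) (E := P) (H := Cfsg.sigmaCore M)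
        (le_bot_iff.1 ((inf_le_inf_right _ hDB).trans
          (Coprime.inf_eq_bot_of_coprime hcop.symm).le)) hPn
        (fun e he he1 v hv hev => by
          have h1 : v ∈ C ⊓ D := mem_inf.2 ⟨mem_inf.2 ⟨hDB hv, by
            rw [centralizer_eq_singleton_of_card hP he he1, mem_centralizer_singleton_iff]
            exact hev.symm⟩, hv⟩
          rw [hinf, mem_bot] at h1
          exact h1)
        ((hDPE.trans hE.1).trans (le_normalizer_sigmaCore M))
        (minSimple_solvable hG (ne_top_of_le_ne_top hM.1 (sigmaCore_le M)))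
        (coprime_of_isPiSubgroup_not (isPiSubgroup_sigmaCore M)
          fun r hr hd => complIn_not_sigma F hG hM hE hr (hd.trans (card_dvd_of_le hDPE))).symm
      rw [le_bot_iff.1 ((inf_le_inf_left _ (Subgroup.centralizer_le (SetLike.coe_subset_coe.2 (le_sup_right : P ≤ D ⊔ P)))).trans hreg.le),
        hreg, card_bot, one_pow, one_mul, one_mul] at hw
      exact inf_eq_left.1 (eq_of_le_of_card_ge inf_le_left hw.le)
    have hC1 : C ≠ ⊥ := fun e => by
      rw [e, bot_sup_eq] at hsup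
      rw [hsup] at hDc
      have h1 := (F.tauTwoPlane M hM t ht B (hBE.trans hE.1) hB hBc).2.1
      rw [inf_eq_left.2 hDc] at h1
      have hx1 : x = 1 := mem_bot.1 (h1 ▸ hx)
      have hX := h.le_zpowers
      rw [hx1, zpowers_one_eq_bot, le_bot_iff] at hX
      exact BG11.ne_bot_of_card_prime h.card_X hX
    obtain ⟨R, hRC, hR⟩ := exists_card_prime_le (hBp.to_le inf_le_left) hC1
    have hPL : P ≤ L := hPE.trans hEL
    have hκL : p ∈ Cfsg.kappa L := mem_kappa_of_fixed (minSimple_prime_ne_two_subgroup hG hpd)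
      hpL hp1L hPL hP fun e => BG11.ne_bot_of_card_prime hR (le_bot_iff.1
        (e ▸ le_inf ((hRC.trans inf_le_left).trans hBL) (hRC.trans inf_le_right)))
    obtain ⟨H, hH, hNH⟩ := minSimple_exists_coatom hG (minSimple_normalizer_ne_top hG
      (BG11.ne_bot_of_card_prime hP) (minSimple_ne_top_of_isPGroup hG (isPGroup_of_card_prime hP)))
    obtain ⟨c, hc⟩ := exists_conj_of_sigma F hG h.coatomN hH hpN
      (kappa_sigma_normalizer F hG hL hκL hPL hP hH hNH).1
    obtain ⟨htH, hNR⟩ := kappa_fixed_prime F hG hL hκL hPL hP hH hNH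
      (le_inf ((hRC.trans inf_le_left).trans hBL) (hRC.trans inf_le_right)) hR
    have hCH : centralizer (P : Set G) ≤ H := (centralizer_le_normalizer _).trans hNH
    by_cases hD1 : D = ⊥
    · rw [hD1, sup_bot_eq] at hsup
      exact not_pRankLE_one_of_card_sq ((hsup.ge.trans inf_le_right).trans hCH) hB hBc
        (kappa_pRankLE_one htH)
    obtain ⟨R', hR'D, hR'⟩ := exists_card_prime_le (hBp.to_le hDB) hD1
    have hR'C : Cfsg.sigmaCore M ≤ centralizer (R' : Set G) := hDc.trans (Subgroup.centralizer_le hR'D)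
    have hR'N : R' ≤ N := fun a ha => Cover.centralizer_le F hG h
      (mem_centralizer_singleton_iff.2 (mem_centralizer_iff.1 (hR'C hx) a ha))
    have hR'H : R'.map (MulAut.conj c).toMonoidHom ≤ H := hc ▸ map_mono hR'N
    obtain ⟨S, hRS, hS⟩ := exists_isSylowIn_ge ((hRC.trans inf_le_right).trans hCH)
      (isPGroup_of_card_prime hR)
    obtain ⟨a, -, ha⟩ := hS.exists_cj_le hR'H (isPGroup_of_card_prime (by rw [card_map_conj, hR']))
    change (R'.map (MulAut.conj c).toMonoidHom).map (MulAut.conj a).toMonoidHom ≤ S at ha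
    rw [map_conj_map_conj] at ha
    have heq : R'.map (MulAut.conj (a * c)).toMonoidHom = R := eq_of_card_prime_of_isCyclic
      (isCyclic_of_pRankLE_one hS.le hS.isPGroup
        (minSimple_prime_ne_two_subgroup hG (dvd_card_of_card_le le_rfl hR))
        (kappa_pRankLE_one htH)) ha hRS (by rw [card_map_conj, hR']) hR
    have hCR : centralizer (R' : Set G) ≤ L.map (MulAut.conj (a * c)⁻¹).toMonoidHom := by
      intro z hz
      rw [mem_map_conj_iff, inv_inv]
      refine hNR (centralizer_le_normalizer _ (mem_centralizer_iff.2 fun w hw => ?_))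
      rw [SetLike.mem_coe, ← heq] at hw
      obtain ⟨v, hv, rfl⟩ := hw
      have h1 : v * z = z * v := mem_centralizer_iff.1 hz v hv
      show (a * c) * v * (a * c)⁻¹ * _ = _ * ((a * c) * v * (a * c)⁻¹)
      calc a * c * v * (a * c)⁻¹ * (a * c * z * (a * c)⁻¹) = a * c * (v * z) * (a * c)⁻¹ := by group
        _ = a * c * z * (a * c)⁻¹ * (a * c * v * (a * c)⁻¹) := by rw [h1]; group
    have hfix : Cfsg.sigmaCore M ⊓ centralizer (R' : Set G) ≠ ⊥ := fun e => by
      rw [inf_eq_left.2 hR'C] at e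
      have hx1 : x = 1 := mem_bot.1 (e ▸ hx)
      have hX := h.le_zpowers
      rw [hx1, zpowers_one_eq_bot, le_bot_iff] at hX
      exact BG11.ne_bot_of_card_prime h.card_X hX
    have hML := (tau2_line_unique F hG hM ht ((hR'D.trans hDB).trans (hBE.trans hE.1)) hR'
      hfix).2 _ (isCoatom_map_conj hL _) hCR
    refine ht.2.1 ?_
    rw [← hML, sigma_map_conj]
    exact htL

end CfsgLib.OddOrder.BG14
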