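import Cfsg.Agent.OddOrder.BG14.PType
import Cfsg.Agent.OddOrder.BG14.CoverExclude
import Cfsg.Agent.OddOrder.BG13.SigmaSubgroup

/-!
# BG 14.1, and the properties of `K* = C_{M_σ}(K)`
-/

set_option autoImplicit false
set_option linter.style.haveILetI false
set_option linter.unusedSectionVars false

namespace CfsgLib.OddOrder.BG14

open Cfsg Subgroup
open CfsgLib.OddOrder
open CfsgLib.OddOrder.BG11
open CfsgLib.OddOrder.BG13
open CfsgLib.ConjFunctor (IsSylowIn exists_isSylowIn_ge)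

variable {G : Type*} [Group G] [Finite G] {p q : ℕ} {M E K U X Y : Subgroup G}

/-- A `p`-nilpotent group whose Sylow `p`-subgroup lies in the derived group has none. -/
theorem sylow_eq_bot_of_le_commutator {R : Type*} [Group R] [Finite R] {p : ℕ} [Fact p.Prime]
    (h : Cfsg.HasNormalPComplement p R) {S : Sylow p R}
    (hS : (S : Subgroup R) ≤ _root_.commutator R) : (S : Subgroup R) = ⊥ := by
  obtain ⟨P, N, hN, hc⟩ := h
  haveI := hN
  obtain ⟨r, rfl⟩ := MulAction.exists_smul_eq R P S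
  have hP : (P : Subgroup R) ≤ _root_.commutator R := by
    intro x hx
    have h1 := hS (show r * x * r⁻¹ ∈ (r • P : Sylow p R) from ⟨x, hx, rfl⟩)
    have h2 := Subgroup.Normal.conj_mem (inferInstance : (_root_.commutator R).Normal) _ h1 r⁻¹
    simpa [mul_assoc] using h2
  set f := QuotientGroup.mk' N
  haveI hq : Group.IsNilpotent (R ⧸ N) := by
    refine IsPGroup.isNilpotent (p := p) ?_
    obtain ⟨n, hn⟩ := IsPGroup.iff_card.1 P.2
    refine IsPGroup.of_card (n := n) ?_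
    rw [← hn, ← hc.symm.index_eq_card]
    rfl
  have h1 : _root_.commutator (R ⧸ N) = ⊤ := by
    rw [_root_.commutator_def, ← map_top_of_surjective f (QuotientGroup.mk'_surjective N),
      ← map_commutator, ← _root_.commutator_def]
    refine le_antisymm (map_mono le_top) ?_
    rw [← hc.sup_eq_top, Subgroup.map_sup, show N.map f = ⊥ by
      rw [Subgroup.map_eq_bot_iff]; exact (QuotientGroup.ker_mk' N).ge, bot_sup_eq]
    exact map_mono hP
  have h2 : Subsingleton (R ⧸ N) := by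
    by_contra hns
    haveI := not_subsingleton_iff_nontrivial.1 hns
    exact (Group.IsSolvable.commutator_lt_top_of_nontrivial (R ⧸ N)).ne h1
  have h4 : Nat.card P = 1 := by
    rw [← hc.symm.index_eq_card]
    exact Nat.card_of_subsingleton (1 : R ⧸ N)
  exact Subgroup.card_eq_one.1 ((Nat.card_congr (Sylow.equiv P (r • P)).toEquiv).symm.trans h4)

variable (F : BG13Facts G) (hG : Cfsg.IsMinSimpleOddOrder G)
include F hG

/-- BG 14.1: for `p ∈ π(M) \ (σ(M) ∪ κ(M))` the elements of order `p` of a Sylow subgroup generate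
a group of order at most `p²` regular on `M_σ`, and `M_σ` is nilpotent. -/
theorem regular_of_not_kappa [Fact p.Prime] (hM : IsCoatom M) (hpM : p ∣ Nat.card M)
    (hs : p ∉ Cfsg.sigma M) (hk : p ∉ Cfsg.kappa M) {S : Subgroup G} (hS : IsSylowIn p S M) :
    Nat.card ↥(closure {x : G | x ∈ S ∧ x ^ p = 1}) ≤ p ^ 2 ∧
      Cfsg.sigmaCore M ⊓
        centralizer ((closure {x : G | x ∈ S ∧ x ^ p = 1} : Subgroup G) : Set G) = ⊥ ∧
      Group.IsNilpotent (Cfsg.sigmaCore M) := by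
  by_cases h1 : Cfsg.PRankLE p 1 M
  · obtain ⟨X, hXS, hX⟩ := exists_card_prime_le hS.isPGroup (sylowIn_ne_bot hS hpM)
    have heq : closure {x : G | x ∈ S ∧ x ^ p = 1} = X := by
      refine le_antisymm ((closure_le _).2 fun x hx => ?_)
        fun x hx => subset_closure ⟨hXS hx, orderOf_dvd_iff_pow_eq_one.1 (hX ▸ X.orderOf_dvd_natCard hx)⟩
      by_cases hx1 : x = 1
      · rw [hx1]; exact one_mem _
      have := eq_of_card_prime_of_rank_one hS.isPGroup hS.le h1 (zpowers_le.2 hx.1)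
        (by rw [Nat.card_zpowers]; exact orderOf_eq_prime hx.2 hx1) hXS hX
      exact this ▸ mem_zpowers x
    have hfix : Cfsg.sigmaCore M ⊓ centralizer (X : Set G) = ⊥ := by_contra fun h =>
      hk (mem_kappa_of_fixed (minSimple_prime_ne_two_subgroup hG hpM) hs h1 (hXS.trans hS.le) hX h)
    refine ⟨by rw [heq, hX]; exact Nat.le_self_pow two_ne_zero p, by rw [heq]; exact hfix, ?_⟩
    exact isNilpotent_of_prime_fpf
      (minSimple_solvable hG (ne_top_of_le_ne_top hM.1 (sigmaCore_le M)))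
      ((hXS.trans hS.le).trans (le_normalizer_sigmaCore M)) (by rw [hX]; exact Fact.out) hfix
  · have hp2 : p ∈ Cfsg.tau2 M :=
      ⟨Fact.out, hs, pRankLE_two_of_not_sigma F.bg12.bg10 hM hs, h1⟩
    obtain ⟨A₀, hA₀, hA₀e, hA₀c⟩ := exists_card_sq_of_not_pRankLE_one h1
    obtain ⟨a, -, ha⟩ := hS.exists_cj_le hA₀ (isPGroup_of_isElementaryAbelian hA₀e)
    set A := A₀.map (MulAut.conj a).toMonoidHom
    have hA : Cfsg.IsElementaryAbelian p A := isElementaryAbelian_map _ hA₀e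
    have hAc : Nat.card A = p ^ 2 := by rw [card_map_conj, hA₀c]
    obtain ⟨hsyl, hfix, -⟩ := F.tauTwoPlane M hM p hp2 A (ha.trans hS.le) hA hAc
    have heq : closure {x : G | x ∈ S ∧ x ^ p = 1} = A :=
      le_antisymm ((closure_le _).2 fun x hx => (((hsyl S hS).2 ha) x hx.1).1 hx.2)
        fun x hx => subset_closure ⟨ha hx, hA.2 x hx⟩
    exact ⟨by rw [heq, hAc], by rw [heq]; exact hfix,
      (F.bg12.tauTwo M hM p hp2 A (ha.trans hS.le) hA hAc).1⟩

namespace PTypeData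

theorem kappa_of_prime (d : PTypeData M E K U) (hK : Cfsg.IsPiHallOf (Cfsg.kappa M) K M)
    (hXK : X ≤ K) (hX : Nat.card X = p) (hp : p.Prime) : p ∈ Cfsg.kappa M :=
  hK.2.1 p hp (dvd_card_of_card_le hXK hX)

/-- `K` has only one subgroup of each prime order. -/
theorem prime_unique [Fact p.Prime] (d : PTypeData M E K U)
    (hK : Cfsg.IsPiHallOf (Cfsg.kappa M) K M) (hXK : X ≤ K) (hX : Nat.card X = p) (hYK : Y ≤ K)
    (hY : Nat.card Y = p) : X = Y := by
  by_contra hne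
  have hp1 := kappa_pRankLE_one (d.kappa_of_prime F hG hK hXK hX Fact.out)
  have hn : Y ≤ normalizer (X : Set G) :=
    hYK.trans (d.primeNormal X hXK (by rw [hX]; exact Fact.out))
  have hsq := card_sup_eq_sq hX hY hn hne
  exact hne (eq_of_card_prime_of_rank_one (S := X ⊔ Y) (IsPGroup.of_card hsq)
    ((sup_le hXK hYK).trans hK.1) hp1 le_sup_left hX le_sup_right hY)

theorem fixed_eq [Fact p.Prime] (d : PTypeData M E K U) (hXK : X ≤ K) (hX : Nat.card X = p) :
    Cfsg.sigmaCore M ⊓ centralizer (X : Set G) = Cfsg.sigmaCore M ⊓ centralizer (K : Set G) := by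
  obtain ⟨x, hx, hx1⟩ := exists_mem_ne_one_of_card hX
  rw [centralizer_eq_singleton_of_card hX hx hx1]
  exact d.semiprime x (hXK hx) hx1

theorem fixed_ne_bot [Fact p.Prime] (d : PTypeData M E K U)
    (hK : Cfsg.IsPiHallOf (Cfsg.kappa M) K M) (hXK : X ≤ K) (hX : Nat.card X = p) :
    Cfsg.sigmaCore M ⊓ centralizer (K : Set G) ≠ ⊥ := by
  rw [← d.fixed_eq F hG hXK hX]
  exact kappa_fixed (d.kappa_of_prime F hG hK hXK hX Fact.out) (hXK.trans hK.1) hX

/-- `N_M(X) = K K*` for `X ≤ K` of prime order. -/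
theorem inf_normalizer (d : PTypeData M E K U) (hK : Cfsg.IsPiHallOf (Cfsg.kappa M) K M)
    [Fact p.Prime] (hXK : X ≤ K) (hX : Nat.card X = p) :
    M ⊓ normalizer (X : Set G) = K ⊔ (Cfsg.sigmaCore M ⊓ centralizer (K : Set G)) := by
  have hXE : X ≤ E := hXK.trans d.KE
  refine le_antisymm (fun m hm => ?_) (sup_le (le_inf hK.1
      (d.primeNormal X hXK (by rw [hX]; exact Fact.out)))
    (le_inf (inf_le_left.trans (sigmaCore_le M)) ((inf_le_right.trans
      (centralizer_le (SetLike.coe_subset_coe.2 hXK))).trans (centralizer_le_normalizer _))))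
  obtain ⟨e, he, y, hy, rfl⟩ := d.compl.2.2.2 m hm.1
  obtain ⟨x₀, hx₀, hx₀1⟩ := exists_mem_ne_one_of_card hX
  have hyc : ∀ x ∈ X, y * x * y⁻¹ = x := by
    intro x hx
    have h1 : e⁻¹ * (e * y * x * (e * y)⁻¹) * e ∈ E :=
      mul_mem (mul_mem (inv_mem he) (hXE ((mem_normalizer_iff.1 hm.2 x).1 hx))) he
    have h2 : y * x * y⁻¹ * x⁻¹ ∈ E ⊓ Cfsg.sigmaCore M := by
      refine mem_inf.2 ⟨?_, ?_⟩
      · refine mul_mem ?_ (inv_mem (hXE hx))
        simpa [mul_assoc] using h1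
      · rw [mul_assoc, mul_assoc, ← mul_assoc x]
        exact mul_mem hy ((mem_normalizer_iff.1
          (le_normalizer_sigmaCore M (d.compl.1 (hXE hx))) _).1 (inv_mem hy))
    rw [d.compl.2.2.1, mem_bot, mul_inv_eq_one] at h2
    exact h2
  have hyX : y ∈ centralizer (X : Set G) := mem_centralizer_iff.2 fun x hx => by
    conv_lhs => rw [← hyc x hx]
    group
  have hyK : y ∈ Cfsg.sigmaCore M ⊓ centralizer (K : Set G) :=
    d.fixed_eq F hG hXK hX ▸ mem_inf.2 ⟨hy, hyX⟩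
  have heN : e ∈ normalizer (X : Set G) :=
    (Subgroup.mul_mem_cancel_right _ (centralizer_le_normalizer _ hyX)).1 hm.2
  rw [← d.sup, ← SetLike.mem_coe, coe_mul_of_right_le_normalizer_left _ _ (d.KE.trans d.normU)] at he
  obtain ⟨u, hu, k, hk, rfl⟩ := Set.mem_mul.1 he
  have huN : u ∈ normalizer (X : Set G) :=
    (Subgroup.mul_mem_cancel_right _ (d.primeNormal X hXK (by rw [hX]; exact Fact.out) hk)).1 heN
  have huc : u * x₀ * u⁻¹ * x₀⁻¹ ∈ U ⊓ K := by
    refine mem_inf.2 ⟨?_, hXK (mul_mem ((mem_normalizer_iff.1 huN x₀).1 hx₀) (inv_mem hx₀))⟩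
    rw [mul_assoc, mul_assoc, ← mul_assoc x₀]
    exact mul_mem hu ((mem_normalizer_iff.1 (d.normU (hXE hx₀)) _).1 (inv_mem hu))
  rw [d.inf, mem_bot, mul_inv_eq_one, mul_inv_eq_iff_eq_mul] at huc
  have hu1 : u ∈ U ⊓ centralizer ({x₀} : Set G) :=
    mem_inf.2 ⟨hu, mem_centralizer_singleton_iff.2 huc⟩
  rw [d.semiregular x₀ (hXK hx₀) hx₀1, mem_bot] at hu1
  rw [hu1, one_mul]
  exact mul_mem (mem_sup_left hk) (mem_sup_right hyK)

/-- `N_M(K) = K K*`. -/
theorem inf_normalizer_K (d : PTypeData M E K U) (hK : Cfsg.IsPiHallOf (Cfsg.kappa M) K M)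
    [Fact p.Prime] (hXK : X ≤ K) (hX : Nat.card X = p) :
    M ⊓ normalizer (K : Set G) = K ⊔ (Cfsg.sigmaCore M ⊓ centralizer (K : Set G)) := by
  refine le_antisymm ((le_inf inf_le_left fun m hm => ?_).trans (d.inf_normalizer F hG hK hXK hX).le)
    (sup_le (le_inf hK.1 le_normalizer) (le_inf (inf_le_left.trans (sigmaCore_le M))
      (inf_le_right.trans (centralizer_le_normalizer _))))
  refine map_conj_eq_self_iff.1 (d.prime_unique F hG hK ?_ (by rw [card_map_conj, hX]) hXK hX)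
  exact (map_mono hXK).trans (map_conj_eq_self_iff.2 hm.2).le

/-- `N(Q) ≤ M` for `Q ≤ K*` of prime order. -/
theorem normalizer_le_of_kstar [Fact q.Prime] (d : PTypeData M E K U) (hM : IsCoatom M)
    (hK : Cfsg.IsPiHallOf (Cfsg.kappa M) K M) (hK1 : K ≠ ⊥) {Q : Subgroup G}
    (hQ : Q ≤ Cfsg.sigmaCore M ⊓ centralizer (K : Set G)) (hQc : Nat.card Q = q) :
    normalizer (Q : Set G) ≤ M := by
  obtain ⟨p, _, X, hXK, hX⟩ := exists_prime_subgroup hK1
  obtain ⟨H, hH, hNH⟩ := minSimple_exists_coatom hG (minSimple_normalizer_ne_top hG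
    (BG11.ne_bot_of_card_prime hX) (minSimple_ne_top_of_isPGroup hG (isPGroup_of_card_prime hX)))
  rw [← d.fixed_eq F hG hXK hX] at hQ
  exact (kappa_fixed_prime F hG hM (d.kappa_of_prime F hG hK hXK hX Fact.out) (hXK.trans hK.1) hX
    hH hNH hQ hQc).2

/-- A conjugate of `M` meeting `K*` non-trivially is `M`. -/
theorem kstar_inf_conj (d : PTypeData M E K U) (hM : IsCoatom M)
    (hK : Cfsg.IsPiHallOf (Cfsg.kappa M) K M) (hK1 : K ≠ ⊥) {g : G}
    (h : (Cfsg.sigmaCore M ⊓ centralizer (K : Set G)) ⊓ M.map (MulAut.conj g).toMonoidHom ≠ ⊥) :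
    g ∈ M := by
  obtain ⟨q, _, Q, hQ, hQc⟩ := exists_prime_subgroup h
  have hQM : Q ≤ M := ((hQ.trans inf_le_left).trans inf_le_left).trans (sigmaCore_le M)
  have hq : q ∈ Cfsg.sigma M := isPiSubgroup_sigmaCore M q Fact.out
    (dvd_card_of_card_le ((hQ.trans inf_le_left).trans inf_le_left) hQc)
  obtain ⟨m, hm, c, hc, he⟩ := F.bg12.bg10.fusion M hM q hq Q (isPGroup_of_card_prime hQc)
    (BG11.ne_bot_of_card_prime hQc) hQM g⁻¹ (by
      have := map_mono (f := (MulAut.conj g⁻¹).toMonoidHom) (hQ.trans inf_le_right)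
      rwa [map_conj_map_conj, inv_mul_cancel, map_conj_one] at this)
  rw [← inv_mem_iff, he]
  exact mul_mem hm (d.normalizer_le_of_kstar F hG hM hK hK1 (hQ.trans inf_le_left) hQc
    (centralizer_le_normalizer _ hc))

/-- `K ∩ K^g = 1` for `g ∈ M` outside `K K*`. -/
theorem inf_map_conj (d : PTypeData M E K U) (hK : Cfsg.IsPiHallOf (Cfsg.kappa M) K M) {g : G}
    (hg : g ∈ M) (hgZ : g ∉ K ⊔ (Cfsg.sigmaCore M ⊓ centralizer (K : Set G))) :
    K ⊓ K.map (MulAut.conj g).toMonoidHom = ⊥ := by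
  by_contra h
  obtain ⟨p, _, X, hX, hXc⟩ := exists_prime_subgroup h
  have h1 : X.map (MulAut.conj g⁻¹).toMonoidHom ≤ K := by
    have := map_mono (f := (MulAut.conj g⁻¹).toMonoidHom) (hX.trans inf_le_right)
    rwa [map_conj_map_conj, inv_mul_cancel, map_conj_one] at this
  have h2 := d.prime_unique F hG hK h1 (by rw [card_map_conj, hXc]) (hX.trans inf_le_left) hXc
  refine hgZ ((Subgroup.inv_mem_iff _).1 ?_)
  rw [← d.inf_normalizer F hG hK (hX.trans inf_le_left) hXc]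
  exact mem_inf.2 ⟨M.inv_mem hg, map_conj_eq_self_iff.1 h2⟩

/-- A `σ(M)`-subgroup meeting `K*` non-trivially lies in `M_σ`. -/
theorem le_sigmaCore_of_kstar (d : PTypeData M E K U) (hM : IsCoatom M)
    (hK : Cfsg.IsPiHallOf (Cfsg.kappa M) K M) (hK1 : K ≠ ⊥) (hY : IsPiSubgroup (Cfsg.sigma M) Y)
    (hYK : Y ⊓ (Cfsg.sigmaCore M ⊓ centralizer (K : Set G)) ≠ ⊥) : Y ≤ Cfsg.sigmaCore M := by
  obtain ⟨g, hg⟩ := BG13.exists_conj_le_sigmaCore F.bg12 hG hM
    (fun e => hYK (by rw [e, bot_inf_eq])) hY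
  have hgM : g⁻¹ ∈ M := by
    refine d.kstar_inf_conj F hG hM hK hK1 fun e => hYK (le_bot_iff.1 (e ▸ le_inf inf_le_right ?_))
    have h1 := map_mono (f := (MulAut.conj g⁻¹).toMonoidHom) (hg.trans (sigmaCore_le M))
    rw [map_conj_map_conj, inv_mul_cancel, map_conj_one] at h1
    exact inf_le_left.trans h1
  have h2 := map_mono (f := (MulAut.conj g⁻¹).toMonoidHom) hg
  rw [map_conj_map_conj, inv_mul_cancel, map_conj_one,
    map_conj_eq_self_iff.2 (le_normalizer_sigmaCore M hgM)] at h2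
  exact h2

theorem nilpotent_of_U (d : PTypeData M E K U) (hM : IsCoatom M) (hU : U ≠ ⊥) :
    Group.IsNilpotent (Cfsg.sigmaCore M) := by
  obtain ⟨r, _, R, hR, hRc⟩ := exists_prime_subgroup hU
  obtain ⟨-, hk, hs⟩ := d.hallU.2.1 r Fact.out (dvd_card_of_card_le hR hRc)
  obtain ⟨S, -, hS⟩ := exists_isSylowIn_ge (hR.trans d.hallU.1) (isPGroup_of_card_prime hRc)
  exact (regular_of_not_kappa F hG hM (dvd_card_of_card_le (hR.trans d.hallU.1) hRc) hs hk hS).2.2

/-- Outside `β(M)`, the `p`-elements of `K*` lie in `C(E)`. -/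
theorem kstar_sylow_le_centralizer [Fact p.Prime] (d : PTypeData M E K U) (hM : IsCoatom M)
    (hK : Cfsg.IsPiHallOf (Cfsg.kappa M) K M) (hK1 : K ≠ ⊥)
    (hp : p ∈ Cfsg.sigma M) (hpb : p ∉ Cfsg.beta M) (hX : IsPGroup p X)
    (hXK : X ≤ Cfsg.sigmaCore M ⊓ centralizer (K : Set G)) : X ≤ centralizer (E : Set G) := by
  refine le_centralizer_iff.1 (d.sup ▸ sup_le ?_ (le_centralizer_iff.1 (hXK.trans inf_le_right)))
  by_cases hU : U = ⊥
  · rw [hU]; exact bot_le
  have hnil := d.nilpotent_of_U F hG hM hU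
  obtain ⟨T, hT, hTs, -, -, hEc⟩ := exists_core_sylow F hG hM hp hpb d.compl
  haveI := d.commU
  obtain ⟨k, hk, hk1⟩ := (bot_or_exists_ne_one K).resolve_left hK1
  have hcop : (Nat.card K).Coprime (Nat.card U) := Nat.coprime_of_dvd fun r hr h1 h2 =>
    (d.hallU.2.1 r hr h2).2.1 (hK.2.1 r hr h1)
  have hUd : U ≤ ⁅E, E⁆ := by
    have h := Coprime.inf_centralizer_sup_commutator_eq (d.KE.trans d.normU) hcop
    have h0 : U ⊓ centralizer (K : Set G) = ⊥ := le_bot_iff.1
      ((d.semiregular k hk hk1) ▸ inf_le_inf_left _ (centralizer_subgroup_le_singleton hk))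
    rw [h0, bot_sup_eq] at h
    exact h.ge.trans (commutator_mono d.UE d.KE)
  have hXT : X ≤ T := by
    have hTn : Cfsg.sigmaCore M ≤ normalizer (T : Set G) := by
      refine le_normalizer_of_nilpotent_hall hnil hTs ?_
      obtain ⟨n, hn⟩ := IsPGroup.iff_card.1 hT.isPGroup
      rw [hn]
      exact ((Fact.out : p.Prime).coprime_iff_not_dvd.2
        (hT.of_le hTs (sigmaCore_le M)).not_dvd).pow_left n
    exact le_sup_right.trans (hT.eq_of_le le_sup_left
      (sup_le hT.le ((hXK.trans inf_le_left).trans (sigmaCore_le M)))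
      (IsPGroup.to_sup_of_normal_left' hT.isPGroup hX ((hXK.trans inf_le_left).trans hTn))).le
  exact (hUd.trans hEc).trans (centralizer_le (SetLike.coe_subset_coe.2 hXT))

/-- The uniqueness theorems for `K*`: (BG 14.2 (e)). -/
theorem kstar_unique [Fact p.Prime] (d : PTypeData M E K U) (hM : IsCoatom M)
    (hK : Cfsg.IsPiHallOf (Cfsg.kappa M) K M) (hK1 : K ≠ ⊥)
    (hX : X ≤ Cfsg.sigmaCore M ⊓ centralizer (K : Set G)) (hXc : Nat.card X = p) :
    centralizer (X : Set G) ≤ M ∧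
      (∀ L : Subgroup G, IsCoatom L → centralizer (X : Set G) ≤ L → L = M) ∧
      ∀ S : Subgroup G, IsSylowIn p S (Cfsg.sigmaCore M) → Cfsg.InUniqueMaximal S ∧
        ¬ S ≤ Cfsg.sigmaCore M ⊓ centralizer (K : Set G) := by
  have hXM : X ≤ M := (hX.trans inf_le_left).trans (sigmaCore_le M)
  have hp : p ∈ Cfsg.sigma M := isPiSubgroup_sigmaCore M p Fact.out
    (dvd_card_of_card_le (hX.trans inf_le_left) hXc)
  have hor : p ∈ Cfsg.beta M ∨ X ≤ ⁅Cfsg.sigmaCore M, Cfsg.sigmaCore M⁆ := by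
    by_cases hb : p ∈ Cfsg.beta M
    · exact Or.inl hb
    · exact Or.inr ((le_inf (hX.trans inf_le_left)
        (d.kstar_sylow_le_centralizer F hG hM hK hK1 hp hb (isPGroup_of_card_prime hXc) hX)).trans
          (BG13.sigmaCore_complIn_action F.bg12 hG hM d.compl).1)
  obtain ⟨huniq, hS⟩ := F.sigmaOrderUnique M hM p hp X hXM hXc hor
  refine ⟨(centralizer_le_normalizer _).trans (d.normalizer_le_of_kstar F hG hM hK hK1 hX hXc),
    huniq, fun S hS' => ⟨hS S hS', fun hle => ?_⟩⟩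
  obtain ⟨r, _, Y, hY, hYc⟩ := exists_prime_subgroup hK1
  have hrκ := d.kappa_of_prime F hG hK hY hYc Fact.out
  obtain ⟨H, hH, hNH, -, -, -⟩ := exists_coatom_normalizer F hG hM (kappa_not_sigma hrκ)
    (kappa_pRankLE_one hrκ) hYc
  rw [← d.fixed_eq F hG hY hYc] at hle hX
  obtain ⟨hpH, -⟩ := kappa_fixed_prime F hG hM hrκ (hY.trans hK.1) hYc hH hNH hX hXc
  have hSM : IsSylowIn p S M := by
    refine ⟨hS'.le.trans (sigmaCore_le M), hS'.isPGroup, fun hd => ?_⟩
    rw [← relIndex_mul_relIndex S _ M hS'.le (sigmaCore_le M)] at hd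
    exact ((Fact.out : p.Prime).dvd_mul.1 hd).elim hS'.not_dvd
      ((F.bg12.bg10.sigmaHall M hM).1.2.2 p Fact.out hp)
  have hnb : p ∉ Cfsg.beta M := fun hb => by
    obtain ⟨A, hA, hAe, hAc⟩ := exists_elementary_of_not_pRankLE hb.1.2
    obtain ⟨a, -, ha⟩ := hSM.exists_cj_le hA (isPGroup_of_isElementaryAbelian hAe)
    refine not_pRankLE_of_le (ha.trans (hle.trans (inf_le_right.trans
      ((centralizer_le_normalizer _).trans hNH)))) (isElementaryAbelian_map _ hAe)
      (le_trans (Nat.pow_le_pow_right (i := 2) (j := 3) (Fact.out : p.Prime).pos (by norm_num))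
        (by rwa [card_map_conj]))
      (kappa_pRankLE_one hpH)
  rw [d.fixed_eq F hG hY hYc] at hle
  have hSd : S ≤ ⁅Cfsg.sigmaCore M, Cfsg.sigmaCore M⁆ := (le_inf hS'.le
    (d.kstar_sylow_le_centralizer F hG hM hK hK1 hp hnb hS'.isPGroup hle)).trans
      (BG13.sigmaCore_complIn_action F.bg12 hG hM d.compl).1
  set S0 : Sylow p (Cfsg.sigmaCore M) := (hS'.isPGroup.comap_subtype).toSylow
    (show ¬ p ∣ (S.subgroupOf (Cfsg.sigmaCore M)).index from hS'.not_dvd)
  have h0 := sylow_eq_bot_of_le_commutator ((F.bg12.bg10.betaHall M hM).2 p Fact.out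
    (dvd_card_of_sigma hp) hnb) (S := S0) (fun x hx => by
      have h1 : (x : G) ∈ (_root_.commutator (Cfsg.sigmaCore M)).map (Cfsg.sigmaCore M).subtype := by
        rw [map_subtype_commutator]; exact hSd hx
      obtain ⟨y, hy, e⟩ := h1
      exact (Cfsg.sigmaCore M).subtype_injective e ▸ hy)
  refine sylowIn_ne_bot hSM (dvd_card_of_sigma hp) ?_
  have h2 := congrArg (Subgroup.map (Cfsg.sigmaCore M).subtype) h0
  rwa [Subgroup.map_bot, show (S0 : Subgroup _) = S.subgroupOf (Cfsg.sigmaCore M) from rfl,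
    subgroupOf_map_subtype, inf_eq_left.2 hS'.le] at h2

end PTypeData

end CfsgLib.OddOrder.BG14
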