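import Cfsg.Agent.OddOrder.BG14.SupportCount
import Cfsg.Agent.OddOrder.BG14.SupportFacts
import Cfsg.Agent.OddOrder.BG13.SigmaSubgroup
import Cfsg.Agent.PiClasses69.Parts

/-!
# BG 14 (S1379): the sets `M̃` cover `G`

Every non-identity element lies in some `M̃` or is, up to conjugacy, `a b` with `a ∈ M_σ` and `b`
a non-trivial `κ(M)`-element of `C_M(a)`; the elements of `Ẑ` lie in no `M̃`.
-/

set_option autoImplicit false
set_option linter.style.haveILetI false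
set_option linter.unusedSectionVars false

namespace CfsgLib.OddOrder.BG14

open Cfsg Subgroup
open CfsgLib.OddOrder
open CfsgLib.OddOrder.BG11
open CfsgLib.OddOrder.BG13
open CfsgLib.ConjFunctor (IsSylowIn exists_isSylowIn_ge)
open CfsgLib.PiClasses69 (IsPi IsPiCompl piPart piComplPart)

variable {G : Type*} [Group G] [Finite G] {p : ℕ} {M N : Subgroup G} {a b : G}

omit [Finite G] in
theorem tildeOf_conj {S : Set G} {z : G} (y : G) (h : z ∈ Cfsg.tildeOf M S) :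
    y * z * y⁻¹ ∈ Cfsg.tildeOf M S := by
  obtain ⟨c, hc, r, hr, w, rfl⟩ := h
  exact ⟨c, hc, r, hr, y * w, by group⟩

omit [Finite G] in
theorem tildeOf_conj_iff {S : Set G} {z : G} (y : G) :
    y * z * y⁻¹ ∈ Cfsg.tildeOf M S ↔ z ∈ Cfsg.tildeOf M S := by
  refine ⟨fun h => ?_, tildeOf_conj y⟩
  have := tildeOf_conj y⁻¹ h
  rwa [inv_inv, show y⁻¹ * (y * z * y⁻¹) * y = z by group] at this

omit [Finite G] in
theorem mem_tildeOf_of {r : G} (ha : a ∈ Cfsg.sigmaCore M) (ha1 : a ≠ 1)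
    (hr : r ∈ Cfsg.supportR M a) :
    a * r ∈ Cfsg.tildeOf M ((Cfsg.sigmaCore M : Set G) \ {1}) :=
  ⟨a, ⟨ha, ha1⟩, r, hr, 1, by group⟩

variable (F : BG13Facts G) (hG : Cfsg.IsMinSimpleOddOrder G)
include F hG

/-- A `σ(M)'`-element of `C_M(a)`, `a ∈ M_σ`, is a `κ(M)`- or a `τ₂(M)`-element. -/
theorem elem_cases (hM : IsCoatom M) (ha : a ∈ Cfsg.sigmaCore M) (ha1 : a ≠ 1) (hbM : b ∈ M)
    (hab : Commute a b) (hb : IsPiCompl (Cfsg.sigma M) b) :
    (∀ p : ℕ, p.Prime → p ∣ orderOf b → p ∈ Cfsg.kappa M) ∨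
      (∀ p : ℕ, p.Prime → p ∣ orderOf b → p ∈ Cfsg.tau2 M) := by
  have hone : ∀ p : ℕ, p.Prime → p ∣ orderOf b → p ∈ Cfsg.kappa M ∨ p ∈ Cfsg.tau2 M := by
    intro p hp hd
    haveI := Fact.mk hp
    obtain ⟨P, hPb, hP⟩ := exists_card_prime_le_zpowers hd
    refine kappa_or_tau2 F hG hM (hb p hp hd) (hPb.trans (zpowers_le.2 hbM)) hP fun e =>
      ha1 (mem_bot.1 (e ▸ mem_inf.2 ⟨ha, ?_⟩))
    exact centralizer_singleton_le_of_le_zpowers hPb (mem_centralizer_singleton_iff.2 hab.eq)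
  by_cases hall : ∀ p : ℕ, p.Prime → p ∣ orderOf b → p ∈ Cfsg.kappa M
  · exact Or.inl hall
  refine Or.inr fun p hp hd => (hone p hp hd).resolve_left fun hk => ?_
  push Not at hall
  obtain ⟨r, hr, hrd, hrk⟩ := hall
  haveI := Fact.mk hp
  haveI := Fact.mk hr
  obtain ⟨P, hPb, hP⟩ := exists_card_prime_le_zpowers hd
  obtain ⟨R, hRb, hR⟩ := exists_card_prime_le_zpowers hrd
  exact kappa_tau2_no_fix F hG hM hk (hPb.trans (zpowers_le.2 hbM)) hP
    ((hone r hr hrd).resolve_left hrk) hR (le_inf (hRb.trans (zpowers_le.2 hbM))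
      (hRb.trans (zpowers_le.2 (le_centralizer_singleton_of_le_zpowers hPb))))

/-- An element of `M_σ` centralized by a non-trivial `κ(M)`-element has its centralizer in `M`. -/
theorem centralizer_le_of_kappa_elem (hM : IsCoatom M) (ha : a ∈ Cfsg.sigmaCore M) (ha1 : a ≠ 1)
    (hbM : b ∈ M) (hab : Commute a b) (hp : p ∈ Cfsg.kappa M) (hd : p ∣ orderOf b) :
    centralizer ({a} : Set G) ≤ M := by
  haveI := Fact.mk hp.1
  obtain ⟨P, hPb, hP⟩ := exists_card_prime_le_zpowers hd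
  obtain ⟨H, hH, hNH⟩ := minSimple_exists_coatom hG (minSimple_normalizer_ne_top hG
    (BG11.ne_bot_of_card_prime hP) (minSimple_ne_top_of_isPGroup hG (isPGroup_of_card_prime hP)))
  obtain ⟨r, hr, hrd⟩ := Nat.exists_prime_and_dvd (mt orderOf_eq_one_iff.1 ha1)
  haveI := Fact.mk hr
  obtain ⟨Q, hQa, hQ⟩ := exists_card_prime_le_zpowers hrd
  refine (centralizer_singleton_le_of_le_zpowers hQa).trans ((centralizer_le_normalizer _).trans
    (kappa_fixed_prime F hG hM hp (hPb.trans (zpowers_le.2 hbM)) hP hH hNH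
      (le_inf (hQa.trans (zpowers_le.2 ha)) (hQa.trans (zpowers_le.2 ?_))) hQ).2)
  exact centralizer_singleton_le_of_le_zpowers hPb (mem_centralizer_singleton_iff.2 hab.eq)

/-- The primes of `τ₂(M)` lie in `σ(L)` for a single `L`. -/
theorem exists_sigma_tau2 (hM : IsCoatom M) (hne : (Cfsg.tau2 M).Nonempty) :
    ∃ L : Subgroup G, IsCoatom L ∧ ∀ t ∈ Cfsg.tau2 M, t ∈ Cfsg.sigma L := by
  obtain ⟨s, hs⟩ := hne
  haveI := Fact.mk hs.1
  obtain ⟨E, hE⟩ := exists_complIn F hG hM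
  obtain ⟨A, hAE, hA, hAc⟩ := exists_plane_complIn F hG hM hs hE
  have hA1 : A ≠ ⊥ := fun e => by
    rw [e, card_bot] at hAc
    exact hs.1.ne_one ((Nat.pow_eq_one.1 hAc.symm).resolve_right two_ne_zero)
  obtain ⟨L, hL, hNL⟩ := minSimple_exists_coatom hG (minSimple_normalizer_ne_top hG hA1
    (minSimple_ne_top_of_isPGroup hG (isPGroup_of_isElementaryAbelian hA)))
  obtain ⟨hsL, -, -, hEL, hAL⟩ := plane_sigma F hG hM hE hs hAE hA hAc hL hNL
  refine ⟨L, hL, fun t ht => by_contra fun htL => ?_⟩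
  haveI := Fact.mk ht.1
  obtain ⟨B, hBE, hB, hBc⟩ := exists_plane_complIn F hG hM ht hE
  have hAB : A ≤ centralizer (B : Set G) := plane_centralizes F hG hM hE hs hAE hA hAc hBE
    (F.bg12.tauTwoCompl M hM E hE t ht B hBE hB hBc).1 fun hd => htL (by
      rw [hBc] at hd
      rwa [← (Nat.prime_dvd_prime_iff_eq hs.1 ht.1).1 (hs.1.dvd_of_dvd_pow hd)])
  have h1 := (F.tauTwoPlane L hL t (tau2_of_plane F hG hL htL (hBE.trans hEL) hB hBc) B
    (hBE.trans hEL) hB hBc).2.1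
  exact hA1 (le_bot_iff.1 (h1 ▸ le_inf hAL hAB))

/-- `a b ∈ L̃` for a `τ₂(M)`-element `b` of `C_M(a)`. -/
theorem mem_tildeOf_tau2 (hM : IsCoatom M) (ha : a ∈ Cfsg.sigmaCore M) (ha1 : a ≠ 1) (hbM : b ∈ M)
    (hab : Commute a b) (hb1 : b ≠ 1)
    (ht : ∀ p : ℕ, p.Prime → p ∣ orderOf b → p ∈ Cfsg.tau2 M) :
    ∃ L : Subgroup G, IsCoatom L ∧
      a * b ∈ Cfsg.tildeOf L ((Cfsg.sigmaCore L : Set G) \ {1}) := by
  obtain ⟨p, hp, hpd⟩ := Nat.exists_prime_and_dvd (mt orderOf_eq_one_iff.1 hb1)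
  obtain ⟨L₀, hL₀, hsub⟩ := exists_sigma_tau2 F hG hM ⟨p, ht p hp hpd⟩
  obtain ⟨c, hc⟩ := BG13.exists_conj_le_sigmaCore F.bg12 hG hL₀
    (fun e => hb1 (zpowers_eq_bot.1 e))
    (fun r hr hd => hsub r (ht r hr (by rwa [Nat.card_zpowers] at hd)))
  set L := L₀.map (MulAut.conj c⁻¹).toMonoidHom with hLdef
  have hL : IsCoatom L := isCoatom_map_conj hL₀ _
  have hbL : b ∈ Cfsg.sigmaCore L := by
    rw [sigmaCore_map_conj F.bg12.bg10 hL₀ c⁻¹]
    have h1 := map_mono (f := (MulAut.conj c⁻¹).toMonoidHom) hc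
    rw [map_conj_map_conj, inv_mul_cancel, map_conj_one] at h1
    exact h1 (mem_zpowers b)
  obtain ⟨E, hE⟩ := exists_complIn F hG hM
  obtain ⟨hCb, huniq⟩ := (F.complAbelian M hM E hE).2.2 b hbM hb1 ht
    ⟨hbM, a, ha, ha1, hab.symm.eq⟩
  have hne : ¬ centralizer ({b} : Set G) ≤ L := fun h => (ht p hp hpd).2.1 (by
    rw [← huniq L hL h]
    exact prime_dvd_orderOf_mem_sigma hbL hp hpd)
  obtain ⟨_, L', _, _, -, h', hu', hR⟩ :=
    supportR_of_not_le F (fixFacts F hG) hG hL hbL hb1 hne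
  refine ⟨L, hL, hab.eq ▸ mem_tildeOf_of hbL hb1 ?_⟩
  rw [hR, huniq L' h'.coatomN (Cover.centralizer_le F hG h')]
  exact mem_inf.2 ⟨ha, mem_centralizer_singleton_iff.2 hab.eq⟩

/-- The elements outside all `M̃` are conjugate to products `a b`, `a ∈ M_σ`, `b` a `κ(M)`-element
of `C_M(a)`. -/
theorem exists_tildeOf_or_kappa (hM : IsCoatom M) (ha : a ∈ Cfsg.sigmaCore M) (ha1 : a ≠ 1)
    (hab : Commute a b) (hb : IsPiCompl (Cfsg.sigma M) b) :
    (∃ L : Subgroup G, IsCoatom L ∧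
        a * b ∈ Cfsg.tildeOf L ((Cfsg.sigmaCore L : Set G) \ {1})) ∨
      (b ≠ 1 ∧ b ∈ M ∧ ∀ p : ℕ, p.Prime → p ∣ orderOf b → p ∈ Cfsg.kappa M) := by
  by_cases hb1 : b = 1
  · exact Or.inl ⟨M, hM, hb1 ▸ mem_tildeOf_of ha ha1 (one_mem _)⟩
  by_cases hC : centralizer ({a} : Set G) ≤ M
  · have hbM : b ∈ M := hC (mem_centralizer_singleton_iff.2 hab.symm.eq)
    rcases elem_cases F hG hM ha ha1 hbM hab hb with h | h
    · exact Or.inr ⟨hb1, hbM, h⟩
    · exact Or.inl (mem_tildeOf_tau2 F hG hM ha ha1 hbM hab hb1 h)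
  left
  obtain ⟨q, L, X, A, hq, h, -, hR⟩ := supportR_of_not_le F (fixFacts F hG) hG hM ha ha1 hC
  haveI := Fact.mk hq
  have hCL := Cover.centralizer_le F hG h
  have hbC : b ∈ centralizer ({a} : Set G) := mem_centralizer_singleton_iff.2 hab.symm.eq
  set u := piComplPart (Cfsg.sigma L) b
  set v := piPart (Cfsg.sigma L) b
  have hu : IsPiCompl (Cfsg.sigma L) u := PiClasses69.isPiCompl_piComplPart _ b
  have hva : v ∈ centralizer ({a} : Set G) := pow_mem hbC _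
  have hua : u ∈ centralizer ({a} : Set G) := mul_mem (inv_mem hva) hbC
  have huv : Commute v u := PiClasses69.commute_parts _ b
  have hvR : v ∈ Cfsg.supportR M a := by
    rw [hR]
    refine mem_inf.2 ⟨BG11.le_sigmaCore F.bg12.bg10 h.coatomN (zpowers_le.2 (hCL hva))
      (fun r hr hd => ?_) (mem_zpowers v), hva⟩
    exact PiClasses69.isPi_piPart _ b r hr (by rwa [Nat.card_zpowers] at hd)
  haveI : Group.IsSolvable ↥(centralizer ({a} : Set G)) :=
    minSimple_solvable hG (ne_top_of_le_ne_top h.coatomN.1 hCL)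
  have hcompl := Cover.compl_centralizer F hG h
  obtain ⟨s, hs, hle⟩ := exists_conj_le_of_relIndex (π := {r | r ∉ Cfsg.sigma L})
    (L := M ⊓ centralizer ({a} : Set G)) (U := zpowers u) hcompl.1 (zpowers_le.2 hua)
    (fun r hr hd => hu r hr (by rwa [Nat.card_zpowers] at hd))
    (fun r hr hd hr' => hr' (isPiSubgroup_sigmaCore L r hr ((hd.trans (relIndex_dvd_card_of_eq_sup
      (Cover.centralizer_le_normalizer_signalizer F hG h) (le_antisymm (fun c hc' => by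
        obtain ⟨e, he, w, hw, rfl⟩ := hcompl.2.2.2 c hc'
        exact mul_mem (mem_sup_right he) (mem_sup_left hw)) (sup_le hcompl.2.1 hcompl.1)))).trans
      (card_dvd_of_le inf_le_left))))
  have hsa : s * a * s⁻¹ = a := by
    rw [mem_centralizer_singleton_iff.1 hs, mul_inv_cancel_right]
  set u' := s * u * s⁻¹
  set v' := s * v * s⁻¹
  have hu'M : u' ∈ M ⊓ centralizer ({a} : Set G) := hle ⟨u, mem_zpowers u, rfl⟩
  have hv'R : v' ∈ Cfsg.supportR M a := by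
    have h1 := Cover.centralizer_le_normalizer_signalizer F hG h hs
    rw [← hR] at h1
    exact (mem_normalizer_iff.1 h1 v).1 hvR
  have key : s * (a * b) * s⁻¹ = a * (u' * v') := by
    conv_lhs => rw [← PiClasses69.piPart_mul (Cfsg.sigma L) b]
    show s * (a * (v * u)) * s⁻¹ = a * (s * u * s⁻¹ * (s * v * s⁻¹))
    rw [huv.eq]
    calc s * (a * (u * v)) * s⁻¹ = s * a * s⁻¹ * (s * u * s⁻¹ * (s * v * s⁻¹)) := by group
      _ = _ := by rw [hsa]
  by_cases hu1 : u' = 1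
  · refine ⟨M, hM, (tildeOf_conj_iff s).1 ?_⟩
    rw [key, hu1, one_mul]
    exact mem_tildeOf_of ha ha1 hv'R
  have hu'b : IsPiCompl (Cfsg.sigma M) u' := fun r hr hd => hb r hr (hd.trans (by
    rw [show orderOf u' = orderOf u from
      orderOf_injective (MulAut.conj s).toMonoidHom (MulAut.conj s).injective u]
    exact orderOf_dvd_of_mem_zpowers (mul_mem (inv_mem (pow_mem (mem_zpowers b) _))
      (mem_zpowers b))))
  have hau : Commute a u' := (mem_centralizer_singleton_iff.1 hu'M.2).symm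
  have hτ : ∀ p : ℕ, p.Prime → p ∣ orderOf u' → p ∈ Cfsg.tau2 M := by
    refine (elem_cases F hG hM ha ha1 hu'M.1 hau hu'b).resolve_left fun hk => ?_
    obtain ⟨p, hp, hpd⟩ := Nat.exists_prime_and_dvd (mt orderOf_eq_one_iff.1 hu1)
    exact hC (centralizer_le_of_kappa_elem F hG hM ha ha1 hu'M.1 hau (hk p hp hpd) hpd)
  obtain ⟨E, hE⟩ := exists_complIn F hG hM
  obtain ⟨hCu, -⟩ := (F.complAbelian M hM E hE).2.2 u' hu'M.1 hu1 hτ
    ⟨hu'M.1, a, ha, ha1, hau.symm.eq⟩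
  have hv1 : v' = 1 := by
    rw [hR] at hv'R
    have h1 : v' ∈ (M ⊓ L) ⊓ Cfsg.sigmaCore L := mem_inf.2 ⟨mem_inf.2 ⟨hCu
      (mem_centralizer_singleton_iff.2 ?_), sigmaCore_le L hv'R.1⟩, hv'R.1⟩
    · rw [h.compl.2.2.1, mem_bot] at h1
      exact h1
    · calc s * v * s⁻¹ * (s * u * s⁻¹) = s * (v * u) * s⁻¹ := by group
        _ = s * u * s⁻¹ * (s * v * s⁻¹) := by rw [huv.eq]; group
  obtain ⟨L', hL', hmem⟩ := mem_tildeOf_tau2 F hG hM ha ha1 hu'M.1 hau hu1 hτ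
  refine ⟨L', hL', (tildeOf_conj_iff s).1 ?_⟩
  rwa [key, hv1, mul_one]

/-- Every non-identity element lies in some `M̃`, or has a conjugate `a b` as above. -/
theorem exists_tildeOf_or_conj_kappa {g : G} (hg : g ≠ 1) :
    (∃ L : Subgroup G, IsCoatom L ∧ g ∈ Cfsg.tildeOf L ((Cfsg.sigmaCore L : Set G) \ {1})) ∨
      ∃ (M : Subgroup G) (c a b : G), IsCoatom M ∧ a ∈ Cfsg.sigmaCore M ∧ a ≠ 1 ∧ b ≠ 1 ∧
        b ∈ M ∧ Commute a b ∧ (∀ p : ℕ, p.Prime → p ∣ orderOf b → p ∈ Cfsg.kappa M) ∧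
        c * g * c⁻¹ = a * b := by
  obtain ⟨r, hr, hrd⟩ := Nat.exists_prime_and_dvd (mt orderOf_eq_one_iff.1 hg)
  haveI := Fact.mk hr
  obtain ⟨P⟩ : Nonempty (Sylow r G) := inferInstance
  have hP1 : (P : Subgroup G) ≠ ⊥ := P.ne_bot_of_dvd_card (hrd.trans (orderOf_dvd_natCard g))
  obtain ⟨M, hM, hNM⟩ := minSimple_exists_coatom hG
    (minSimple_normalizer_ne_top hG hP1 (minSimple_ne_top_of_isPGroup hG P.2))
  have hPM : (P : Subgroup G) ≤ M := le_normalizer.trans hNM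
  have hs : r ∈ Cfsg.sigma M := by
    refine ⟨hr, ((P.dvd_card_of_dvd_card (hrd.trans (orderOf_dvd_natCard g)))).trans
      (card_dvd_of_le hPM), P.subtype hPM, ?_⟩
    rw [Sylow.coe_subtype, subgroupOf_map_subtype, inf_eq_left.2 hPM]
    exact hNM
  set x := piPart (Cfsg.sigma M) g
  set y := piComplPart (Cfsg.sigma M) g
  have hy : IsPiCompl (Cfsg.sigma M) y := PiClasses69.isPiCompl_piComplPart _ g
  have hx1 : x ≠ 1 := fun e => hy r hr (by
    have h1 : x * y = g := PiClasses69.piPart_mul (Cfsg.sigma M) g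
    rw [e, one_mul] at h1
    rwa [h1]) hs
  obtain ⟨c, hc⟩ := BG13.exists_conj_le_sigmaCore F.bg12 hG hM
    (fun e => hx1 (zpowers_eq_bot.1 e))
    (fun t ht hd => PiClasses69.isPi_piPart _ g t ht (by rwa [Nat.card_zpowers] at hd))
  have key : c * g * c⁻¹ = c * x * c⁻¹ * (c * y * c⁻¹) := by
    conv_lhs => rw [← show x * y = g from PiClasses69.piPart_mul (Cfsg.sigma M) g]
    group
  have hcomm : Commute (c * x * c⁻¹) (c * y * c⁻¹) :=
    (PiClasses69.commute_parts (Cfsg.sigma M) g).map (MulAut.conj c).toMonoidHom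
  have ha1 : c * x * c⁻¹ ≠ 1 := fun e => hx1 (conj_eq_one_iff.1 e)
  rcases exists_tildeOf_or_kappa F hG hM (hc ⟨x, mem_zpowers x, rfl⟩) ha1 hcomm
    (fun t ht hd => hy t ht (by
      rwa [show orderOf (c * y * c⁻¹) = orderOf y from
        orderOf_injective (MulAut.conj c).toMonoidHom (MulAut.conj c).injective y] at hd)) with
    ⟨L, hL, hmem⟩ | ⟨hb1, hbM, hk⟩
  · exact Or.inl ⟨L, hL, (tildeOf_conj_iff c).1 (key ▸ hmem)⟩
  · exact Or.inr ⟨M, c, _, _, hM, hc ⟨x, mem_zpowers x, rfl⟩, ha1, hb1, hbM, hcomm, hk, key⟩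

/-- BG 14 (S1379, second part). -/
theorem exists_tildeOf_of_kappa_empty (hκ : ∀ M : Subgroup G, IsCoatom M → Cfsg.kappa M = ∅)
    {g : G} (hg : g ≠ 1) :
    ∃ M : Subgroup G, IsCoatom M ∧ g ∈ Cfsg.tildeOf M ((Cfsg.sigmaCore M : Set G) \ {1}) := by
  rcases exists_tildeOf_or_conj_kappa F hG hg with h | ⟨M, c, a, b, hM, -, -, hb1, -, -, hk, -⟩
  · exact h
  · obtain ⟨p, hp, hpd⟩ := Nat.exists_prime_and_dvd (mt orderOf_eq_one_iff.1 hb1)
    exact absurd (hk p hp hpd) (hκ M hM ▸ Set.notMem_empty p)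

/-- A `κ(M)`-element of `C_M(a)` times `a` is conjugate into `Ẑ`. -/
theorem conj_mem_zhat (hM : IsCoatom M) {K : Subgroup G}
    (hK : Cfsg.IsPiHallOf (Cfsg.kappa M) K M)
    (hfix : ∀ k ∈ K, k ≠ 1 → Cfsg.sigmaCore M ⊓ centralizer ({k} : Set G) =
      Cfsg.sigmaCore M ⊓ centralizer (K : Set G))
    (ha : a ∈ Cfsg.sigmaCore M) (ha1 : a ≠ 1) (hb1 : b ≠ 1) (hbM : b ∈ M) (hab : Commute a b)
    (hk : ∀ p : ℕ, p.Prime → p ∣ orderOf b → p ∈ Cfsg.kappa M) :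
    ∃ y : G, ∃ z ∈ ((↑(K ⊔ (Cfsg.sigmaCore M ⊓ centralizer (K : Set G))) : Set G) \
      ((K : Set G) ∪ ↑(Cfsg.sigmaCore M ⊓ centralizer (K : Set G)))),
      a * b = y * z * y⁻¹ := by
  obtain ⟨m, hm, hle⟩ := exists_conj_le_isPiHallOf (minSimple_coatom_solvable hG hM)
    (zpowers_le.2 hbM) (fun p hp hd => hk p hp (by rwa [Nat.card_zpowers] at hd)) hK
  have hbK : m * b * m⁻¹ ∈ K := hle ⟨b, mem_zpowers b, rfl⟩
  have haS : m * a * m⁻¹ ∈ Cfsg.sigmaCore M :=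
    (mem_normalizer_iff.1 (le_normalizer_sigmaCore M hm) a).1 ha
  have hb1' : m * b * m⁻¹ ≠ 1 := fun e => hb1 (conj_eq_one_iff.1 e)
  have haK : m * a * m⁻¹ ∈ Cfsg.sigmaCore M ⊓ centralizer (K : Set G) := by
    rw [← hfix _ hbK hb1']
    exact mem_inf.2 ⟨haS, mem_centralizer_singleton_iff.2
      (hab.map (MulAut.conj m).toMonoidHom).eq⟩
  have hd : ∀ z ∈ K, z ∈ Cfsg.sigmaCore M → z = 1 := fun z hz hzs => by
    by_contra hz1
    obtain ⟨r, hr, hrd⟩ := Nat.exists_prime_and_dvd (mt orderOf_eq_one_iff.1 hz1)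
    exact kappa_not_sigma (hK.2.1 r hr (hrd.trans (K.orderOf_dvd_natCard hz)))
      (prime_dvd_orderOf_mem_sigma hzs hr hrd)
  refine ⟨m⁻¹, m * a * m⁻¹ * (m * b * m⁻¹),
    ⟨mul_mem (mem_sup_right haK) (mem_sup_left hbK), ?_⟩, by group⟩
  rintro (h | h)
  · exact ha1 (conj_eq_one_iff.1 (hd _ ((K.mul_mem_cancel_right hbK).1 h) haS))
  · exact hb1' (hd _ hbK (((Subgroup.mul_mem_cancel_left _ haK).1 h).1))

/-- BG 14 (S1379, last part): no element of `Ẑ` lies in any `Ñ`. -/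
theorem zhat_not_mem_tildeOf (hM : IsCoatom M) (hN : IsCoatom N) {K : Subgroup G}
    (hK : Cfsg.IsPiHallOf (Cfsg.kappa M) K M) {z : G}
    (hz : z ∈ ((↑(K ⊔ (Cfsg.sigmaCore M ⊓ centralizer (K : Set G))) : Set G) \
      ((K : Set G) ∪ ↑(Cfsg.sigmaCore M ⊓ centralizer (K : Set G))))) :
    z ∉ Cfsg.tildeOf N ((Cfsg.sigmaCore N : Set G) \ {1}) := by
  set S := Cfsg.sigmaCore M ⊓ centralizer (K : Set G)
  have FF := fixFacts F hG
  obtain ⟨hzm, hzn⟩ := hz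
  obtain ⟨k, hk, w, hw, rfl⟩ := Coprime.exists_mul_of_mem_sup
    ((inf_le_right : S ≤ centralizer (K : Set G)).trans (centralizer_le_normalizer _)) hzm
  have hk1 : k ≠ 1 := fun e => hzn (Or.inr (by rw [e, one_mul]; exact hw))
  have hw1 : w ≠ 1 := fun e => hzn (Or.inl (by rw [e, mul_one]; exact hk))
  have hkw : Commute w k := (mem_centralizer_iff.1 hw.2 k hk).symm
  have hwπ : IsPi (Cfsg.sigma M) w := fun r hr hd => prime_dvd_orderOf_mem_sigma hw.1 hr hd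
  have hkκ : ∀ r : ℕ, r.Prime → r ∣ orderOf k → r ∈ Cfsg.kappa M := fun r hr hd =>
    hK.2.1 r hr (hd.trans (K.orderOf_dvd_natCard hk))
  have hkπ : IsPiCompl (Cfsg.sigma M) k := fun r hr hd => kappa_not_sigma (hkκ r hr hd)
  obtain ⟨hparts1, hparts2⟩ := PiClasses69.piPart_of_commute _ hwπ hkπ hkw
  obtain ⟨p, hp, hpd⟩ := Nat.exists_prime_and_dvd (mt orderOf_eq_one_iff.1 hk1)
  have hCw : centralizer ({w} : Set G) ≤ M :=
    centralizer_le_of_kappa_elem F hG hM hw.1 hw1 (hK.1 hk) hkw (hkκ p hp hpd) hpd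
  intro hzN
  obtain ⟨g, a, ha, ha1, r, hr, e⟩ := (mem_tildeOf_iff F FF hG hN).1 hzN
  set N' := N.map (MulAut.conj g).toMonoidHom
  have hN' : IsCoatom N' := isCoatom_map_conj hN g
  have har := supportR_commute F FF hG hN' ha ha1 hr
  have e' : w * k = a * r := by rw [hkw.eq, e]
  by_cases hr1 : r = 1
  · subst hr1
    rw [mul_one] at e'
    obtain ⟨t, ht, htd⟩ := Nat.exists_prime_and_dvd (mt orderOf_eq_one_iff.1 hw1)
    have htN : t ∈ Cfsg.sigma N' := prime_dvd_orderOf_mem_sigma ha ht (htd.trans (by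
      conv_lhs => rw [← hparts1]
      exact e' ▸ orderOf_pow_dvd _))
    obtain ⟨c, hc⟩ := exists_conj_of_sigma F hG hM hN' (hwπ t ht htd) htN
    refine hkπ p hp hpd ?_
    have h1 := prime_dvd_orderOf_mem_sigma ha hp (hpd.trans (by
      conv_lhs => rw [← hparts2]
      exact orderOf_dvd_of_mem_zpowers (e' ▸ mul_mem (inv_mem (pow_mem (mem_zpowers (w * k)) _))
        (mem_zpowers (w * k)))))
    rwa [hc, sigma_map_conj] at h1
  obtain ⟨q, L, X, A, hq, hcov, hu, hrL, -⟩ := supportR_cases F FF hG hN' ha ha1 hr hr1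
  have hdis := disjoint_sigma F hG hN' hcov.coatomN hcov.not_conj
  by_cases hNM : ∃ t, t ∈ Cfsg.sigma M ∧ t ∈ Cfsg.sigma N'
  · obtain ⟨t, htM, htN⟩ := hNM
    obtain ⟨c, hc⟩ := exists_conj_of_sigma F hG hM hN' htM htN
    have hsig : Cfsg.sigma N' = Cfsg.sigma M := by rw [hc, sigma_map_conj]
    obtain ⟨h1, h2⟩ := PiClasses69.piPart_of_commute (Cfsg.sigma M)
      (fun u hu hd => hsig ▸ prime_dvd_orderOf_mem_sigma ha hu hd)
      (fun u hu hd hm => Set.disjoint_left.1 hdis (hsig.symm ▸ hm)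
        (prime_dvd_orderOf_mem_sigma hrL hu hd)) har
    rw [← e'] at h1 h2
    have hwa : w = a := hparts1.symm.trans h1
    have hMN : M.map (MulAut.conj c).toMonoidHom = M :=
      eq_of_mem_conj_of_centralizer_le F FF hG hM hw.1 hw1 hCw
        (hwa ▸ hc ▸ sigmaCore_le N' ha)
    rw [hc, hMN, ← hwa, supportR_of_le hCw, mem_bot] at hr
    exact hr1 hr
  have haπ : IsPiCompl (Cfsg.sigma M) a := fun u hu hd hm =>
    hNM ⟨u, hm, prime_dvd_orderOf_mem_sigma ha hu hd⟩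
  obtain ⟨t, ht, htd⟩ := Nat.exists_prime_and_dvd (mt orderOf_eq_one_iff.1 hw1)
  have htL : t ∈ Cfsg.sigma L := by
    refine prime_dvd_orderOf_mem_sigma hrL ht ((ht.dvd_mul.1 ?_).resolve_left
      fun h => haπ t ht h (hwπ t ht htd))
    refine (htd.trans ?_).trans (orderOf_mul_dvd_mul har)
    conv_lhs => rw [← hparts1]
    exact e' ▸ orderOf_pow_dvd _
  obtain ⟨c, hc⟩ := exists_conj_of_sigma F hG hM hcov.coatomN (hwπ t ht htd) htL
  have hsig : Cfsg.sigma L = Cfsg.sigma M := by rw [hc, sigma_map_conj]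
  obtain ⟨h1, h2⟩ := PiClasses69.piPart_of_commute (Cfsg.sigma M)
    (fun u hu hd => hsig ▸ prime_dvd_orderOf_mem_sigma hrL hu hd) haπ har.symm
  rw [← har.eq, ← e'] at h1 h2
  have hwr : w = r := hparts1.symm.trans h1
  have hka : k = a := hparts2.symm.trans h2
  have hLM : L = M := hc.trans (eq_of_mem_conj_of_centralizer_le F FF hG hM hw.1 hw1 hCw
    (hwr ▸ hc ▸ sigmaCore_le L hrL))
  have hqk : q ∣ orderOf k := by
    rw [← hcov.card_X, hka, ← Nat.card_zpowers]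
    exact card_dvd_of_le hcov.le_zpowers
  exact (hLM ▸ hcov.tau2).2.2.2 (kappa_pRankLE_one (hkκ q hq hqk))

end CfsgLib.OddOrder.BG14
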