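import Cfsg.Agent.OddOrder.BG14.SigmaDisjoint
import Cfsg.Agent.OddOrder.BG15.Basic
import Cfsg.Agent.OddOrder.BG7.Rank

/-!
# BG 14.4: the signalizers `R(x)`

For `x ∈ M_σ`, `q ∣ orderOf x` and `X = Ω₁` of the `q`-part of `⟨x⟩`, either `N(X) ≤ M`, and then
`C(x) ≤ M` and `M` is the only conjugate of `M` containing `x`; or a maximal `N ⊇ N(X)` different
from `M` satisfies `N = N_σ (M ∩ N)` with trivial intersection, `C(x) = C_M(x) C_{N_σ}(x)` and
`C_{N_σ}(x)` permutes the conjugates of `M` containing `x` regularly.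
-/

set_option autoImplicit false
set_option linter.style.haveILetI false
set_option linter.unusedSectionVars false

namespace CfsgLib.OddOrder.BG14

open Cfsg Subgroup
open CfsgLib.OddOrder
open CfsgLib.OddOrder.BG11
open CfsgLib.OddOrder.BG13
open CfsgLib.ConjFunctor (IsSylowIn exists_isSylowIn_ge)

/-- BG 13.10 and BG 13.12, in the forms used in 14.4. -/
structure FixFacts (G : Type*) [Group G] : Prop where
  /-- BG 13.10: a `τ₃`-subgroup of prime order with fixed points on `M_σ` excludes `τ₂`. -/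
  tauThree : ∀ M : Subgroup G, IsCoatom M → ∀ E : Subgroup G,
    Cfsg.IsComplIn E (Cfsg.sigmaCore M) M → ∀ r : ℕ, r ∈ Cfsg.tau3 M →
      ∀ R : Subgroup G, R ≤ E → Nat.card R = r →
        Cfsg.sigmaCore M ⊓ centralizer (R : Set G) ≠ ⊥ → Cfsg.tau2 M = ∅
  /-- BG 13.12. -/
  tauOne : ∀ M : Subgroup G, IsCoatom M → ∀ E : Subgroup G,
    Cfsg.IsComplIn E (Cfsg.sigmaCore M) M → ∀ p : ℕ, p ∈ Cfsg.tau1 M →
      ∀ P : Subgroup G, P ≤ E → Nat.card P = p → ∀ r : ℕ, r ∈ Cfsg.tau2 M →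
        ∀ A : Subgroup G, A ≤ E → Cfsg.IsElementaryAbelian r A → Nat.card A = r ^ 2 →
          A ⊓ centralizer (P : Set G) ≠ ⊥ →
            Cfsg.sigmaCore M ⊓ centralizer (P : Set G) = ⊥

/-- The configuration of 14.4: `N` covers `C(x)`, `x ∈ M_σ`. -/
structure Cover {G : Type*} [Group G] (q : ℕ) (M N : Subgroup G) (x : G)
    (X A : Subgroup G) : Prop where
  coatomM : IsCoatom M
  coatomN : IsCoatom N
  sigma : q ∈ Cfsg.sigma M
  mem : x ∈ M ⊓ N
  le_zpowers : X ≤ zpowers x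
  card_X : Nat.card X = q
  normalizer_le : normalizer (X : Set G) ≤ N
  not_conj : ∀ g : G, N ≠ M.map (MulAut.conj g).toMonoidHom
  tau2 : q ∈ Cfsg.tau2 N
  le_A : X ≤ A
  A_le : A ≤ M ⊓ N
  elementary : Cfsg.IsElementaryAbelian q A
  card_A : Nat.card A = q ^ 2
  centralizer_A : centralizer (A : Set G) ≤ M ⊓ N
  compl : Cfsg.IsComplIn (M ⊓ N) (Cfsg.sigmaCore N) N
  nilpotent : Group.IsNilpotent (Cfsg.sigmaCore N)

variable {G : Type*} [Group G] [Finite G] {p q : ℕ} {M N : Subgroup G} {x : G}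

omit [Finite G] in
theorem centralizer_singleton_le_of_le_zpowers {X : Subgroup G} (h : X ≤ zpowers x) :
    centralizer ({x} : Set G) ≤ centralizer (X : Set G) := fun _ hg =>
  mem_centralizer_iff.2 fun _ hy =>
    (mem_centralizer_singleton_iff.1 (centralizer_singleton_le_of_mem_zpowers (h hy) hg)).symm

omit [Finite G] in
theorem le_centralizer_singleton_of_le_zpowers {X : Subgroup G} (h : X ≤ zpowers x) :
    x ∈ centralizer (X : Set G) :=
  centralizer_singleton_le_of_le_zpowers h (mem_centralizer_singleton_iff.2 rfl)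

/-- A plane of `N` inside a given Sylow subgroup. -/
theorem exists_plane_le_sylow [Fact p.Prime] {H S : Subgroup G} (hS : IsSylowIn p S H)
    (h : ¬ Cfsg.PRankLE p 1 H) :
    ∃ A : Subgroup G, A ≤ S ∧ Cfsg.IsElementaryAbelian p A ∧ Nat.card A = p ^ 2 := by
  obtain ⟨A, hAH, hA, hA2⟩ := exists_elementary_card_sq h
  obtain ⟨a, -, ha⟩ := hS.exists_cj_le hAH (isPGroup_of_isElementaryAbelian hA)
  exact ⟨_, ha, isElementaryAbelian_map _ hA, (CfsgLib.ConjFunctor.card_cj a A).trans hA2⟩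

section

variable (F : BG13Facts G) (hG : Cfsg.IsMinSimpleOddOrder G)
include F hG

/-- BG 14.4, the configuration of the covering subgroup. -/
theorem exists_cover [Fact q.Prime] (hM : IsCoatom M) (hx : x ∈ Cfsg.sigmaCore M)
    {X : Subgroup G} (hXx : X ≤ zpowers x) (hX : Nat.card X = q) (hN : IsCoatom N)
    (hNX : normalizer (X : Set G) ≤ N) (hne : N ≠ M) : ∃ A, Cover q M N x X A := by
  have hXs : X ≤ Cfsg.sigmaCore M := hXx.trans (zpowers_le.2 hx)
  have hXM : X ≤ M := hXs.trans (sigmaCore_le M)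
  have hqs : q ∈ Cfsg.sigma M :=
    isPiSubgroup_sigmaCore M q Fact.out (hX ▸ card_dvd_of_le hXs)
  have hXp : IsPGroup q X := IsPGroup.of_card (n := 1) (by rw [hX, pow_one])
  have hX1 : X ≠ ⊥ := fun h => by
    rw [h, card_bot] at hX; exact (Fact.out : q.Prime).ne_one hX.symm
  have hxN : x ∈ N :=
    hNX (centralizer_le_normalizer _ (le_centralizer_singleton_of_le_zpowers hXx))
  obtain ⟨hnc, hSfacts⟩ := F.bg12.otherMaximal M hM q hqs X hXp hX1 hXM N hN hne hNX
  obtain ⟨S, hXS, hS⟩ := exists_isSylowIn_ge (p := q) (le_inf hXM (le_normalizer.trans hNX)) hXp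
  obtain ⟨-, hSN⟩ := hSfacts S hS hXS
  have hqN : q ∉ Cfsg.sigma N := Set.disjoint_left.1 (disjoint_sigma F hG hM hN hnc) hqs
  have hr1 : ¬ Cfsg.PRankLE q 1 N := (F.bg12.orderP N hN q hqN X hX hNX).1
  have ht : q ∈ Cfsg.tau2 N :=
    ⟨Fact.out, hqN, pRankLE_two_of_not_sigma F.bg12.bg10 hN hqN, hr1⟩
  obtain ⟨A, hAS, hA, hA2⟩ := exists_plane_le_sylow hSN hr1
  have hAMN : A ≤ M ⊓ N := hAS.trans hS.le
  have hAN : A ≤ N := hAMN.trans inf_le_right
  obtain ⟨hsylow, -, -⟩ := F.tauTwoPlane N hN q ht A hAN hA hA2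
  have hXA : X ≤ A := by
    intro y hy
    refine ((hsylow S hSN).2 hAS y (hXS hy)).1 ?_
    rw [← orderOf_dvd_iff_pow_eq_one, ← hX]
    exact orderOf_dvd_natCard X hy
  obtain ⟨E, hAE, hE⟩ := exists_complIn_ge F.bg12 hG hN hAN fun r hr hd hrs => by
    have h := (Nat.prime_dvd_prime_iff_eq hr (Fact.out : q.Prime)).1
      (hr.dvd_of_dvd_pow (hA2 ▸ hd))
    exact hqN (h ▸ hrs)
  obtain ⟨hEA, hNA⟩ := F.bg12.tauTwoCompl N hN E hE q ht A hAE hA hA2
  obtain ⟨hnil, hinf⟩ := F.bg12.tauTwo N hN q ht A hAN hA hA2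
  have hAnc : ¬ IsCyclic A := not_isCyclic_of_elementary hA hA2.ge
  have hEM : E ≤ M := hEA.trans (F.bg12.sigmaNoncyclic M hM q A hqs
    (isPGroup_of_isElementaryAbelian hA) (hAMN.trans inf_le_left) hAnc)
  have hsM : Cfsg.sigmaCore N ⊓ M = ⊥ := hinf M hM hne.symm (hAMN.trans inf_le_left)
  refine ⟨A, hM, hN, hqs, ⟨sigmaCore_le M hx, hxN⟩, hXx, hX, hNX, hnc, ht, hXA, hAMN, hA, hA2,
    ((F.tauTwoLine N hN E hE q ht A hAE hA hA2).2.1.1).trans (le_inf hEM hE.1), ?_, hnil⟩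
  refine ⟨inf_le_right, sigmaCore_le N, ?_, fun n hn => ?_⟩
  · rw [eq_bot_iff, ← hsM]
    exact le_inf inf_le_right (inf_le_left.trans inf_le_left)
  · obtain ⟨e, he, s, hs, rfl⟩ := hE.2.2.2 n hn
    exact ⟨e, ⟨hEM he, hE.1 he⟩, s, hs, rfl⟩

namespace Cover

variable {X A : Subgroup G}

theorem centralizer_le (h : Cover q M N x X A) : centralizer ({x} : Set G) ≤ N :=
  (centralizer_singleton_le_of_le_zpowers h.le_zpowers).trans
    ((centralizer_le_normalizer _).trans h.normalizer_le)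

/-- `C(x) = C_M(x) C_{N_σ}(x)`. -/
theorem compl_centralizer (h : Cover q M N x X A) :
    Cfsg.IsComplIn (M ⊓ centralizer ({x} : Set G))
      (Cfsg.sigmaCore N ⊓ centralizer ({x} : Set G)) (centralizer ({x} : Set G)) := by
  refine ⟨inf_le_right, inf_le_right, ?_, fun c hc => ?_⟩
  · rw [eq_bot_iff, ← h.compl.2.2.1]
    exact le_inf (le_inf (inf_le_left.trans inf_le_left)
      (inf_le_right.trans (inf_le_left.trans (sigmaCore_le N)))) (inf_le_right.trans inf_le_left)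
  · obtain ⟨e, he, s, hs, rfl⟩ := h.compl.2.2.2 c (Cover.centralizer_le F hG h hc)
    have hn : e ∈ normalizer (Cfsg.sigmaCore N : Set G) := le_normalizer_sigmaCore N he.2
    have hu : e * s * e⁻¹ ∈ Cfsg.sigmaCore N := (mem_normalizer_iff.1 hn s).1 hs
    obtain ⟨h1, h2⟩ := commute_of_commute_mul (u := e * s * e⁻¹) (e := e)
      (inf_le_right.trans (le_normalizer_sigmaCore N))
      (inf_comm (M ⊓ N) _ ▸ h.compl.2.2.1) h.mem hu he (by
        rw [inv_mul_cancel_right]; exact mem_centralizer_singleton_iff.1 hc)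
    have he' : e ∈ centralizer ({x} : Set G) := mem_centralizer_singleton_iff.2 h2
    refine ⟨e, ⟨he.1, he'⟩, s, ⟨hs, ?_⟩, rfl⟩
    have := mul_mem (inv_mem he') hc
    rwa [inv_mul_cancel_left] at this

theorem centralizer_le_normalizer_signalizer (h : Cover q M N x X A) :
    centralizer ({x} : Set G) ≤
      normalizer ((Cfsg.sigmaCore N ⊓ centralizer ({x} : Set G) : Subgroup G) : Set G) :=
  (le_inf ((Cover.centralizer_le F hG h).trans (le_normalizer_sigmaCore N)) le_normalizer).trans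
    inf_normalizer_le_normalizer_inf

/-- The order of `C_M(x)` is prime to its index in `C(x)`. -/
theorem hall (h : Cover q M N x X A) :
    (Nat.card ↥(M ⊓ centralizer ({x} : Set G))).Coprime
      ((M ⊓ centralizer ({x} : Set G)).relIndex (centralizer ({x} : Set G))) := by
  have hc := Cover.compl_centralizer F hG h
  have hd := relIndex_dvd_card_of_eq_sup (Cover.centralizer_le_normalizer_signalizer F hG h)
    (L := M ⊓ centralizer ({x} : Set G)) (le_antisymm (fun c hc' => by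
      obtain ⟨a, ha, b, hb, rfl⟩ := hc.2.2.2 c hc'
      exact mul_mem (mem_sup_right ha) (mem_sup_left hb)) (sup_le hc.2.1 hc.1))
  refine Nat.coprime_of_dvd fun r hr h1 h2 => ?_
  refine complIn_not_sigma F hG h.coatomN h.compl hr (h1.trans (card_dvd_of_le ?_))
    (isPiSubgroup_sigmaCore N r hr ((h2.trans hd).trans (card_dvd_of_le inf_le_left)))
  exact le_inf inf_le_left (inf_le_right.trans (Cover.centralizer_le F hG h))

/-- `C_{N_σ}(x)` permutes the conjugates of `M` containing `x` transitively. -/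
theorem exists_mover [Fact q.Prime] (h : Cover q M N x X A) {g : G}
    (hg : x ∈ M.map (MulAut.conj g).toMonoidHom) :
    ∃ r : G, r ∈ Cfsg.sigmaCore N ⊓ centralizer ({x} : Set G) ∧
      M.map (MulAut.conj r).toMonoidHom = M.map (MulAut.conj g).toMonoidHom := by
  have hXM : X ≤ M := h.le_A.trans (h.A_le.trans inf_le_left)
  have hX1 : X ≠ ⊥ := fun e => by
    have := h.card_X; rw [e, card_bot] at this; exact (Fact.out : q.Prime).ne_one this.symm
  have hXg : X.map (MulAut.conj g⁻¹).toMonoidHom ≤ M := by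
    have := map_mono (f := (MulAut.conj g⁻¹).toMonoidHom) (h.le_zpowers.trans (zpowers_le.2 hg))
    rwa [map_conj_map_conj, inv_mul_cancel, map_conj_one] at this
  obtain ⟨m, hm, c, hc, hgc⟩ := F.bg12.bg10.fusion M h.coatomM q h.sigma X
    (IsPGroup.of_card (n := 1) (by rw [h.card_X, pow_one])) hX1 hXM g⁻¹ hXg
  obtain ⟨e, he, s, hs, hes⟩ := h.compl.2.2.2 c (h.normalizer_le (centralizer_le_normalizer _ hc))
  have hg' : g = s⁻¹ * (e⁻¹ * m⁻¹) := by
    rw [← mul_assoc, ← mul_inv_rev, ← hes, ← mul_inv_rev, ← hgc, inv_inv]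
  have hMe : M.map (MulAut.conj s⁻¹).toMonoidHom = M.map (MulAut.conj g).toMonoidHom := by
    rw [hg', ← map_conj_map_conj (g := s⁻¹),
      map_conj_eq_self_of_mem (mul_mem (inv_mem he.1) (inv_mem hm))]
  refine ⟨s⁻¹, mem_inf.2 ⟨inv_mem hs, mem_centralizer_singleton_iff.2 ?_⟩, hMe⟩
  rw [← hMe, mem_map_conj_iff] at hg
  -- `y = s x s⁻¹` lies in `M ∩ N`, and `y x⁻¹` in `N_σ`
  have hy : s * x * s⁻¹ ∈ M := by simpa using hg
  have h1 : s * x * s⁻¹ * x⁻¹ ∈ (M ⊓ N) ⊓ Cfsg.sigmaCore N := by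
    refine mem_inf.2 ⟨mul_mem (mem_inf.2 ⟨hy, mul_mem (mul_mem (sigmaCore_le N hs) h.mem.2)
      (inv_mem (sigmaCore_le N hs))⟩) (inv_mem h.mem), ?_⟩
    rw [mul_assoc s x, mul_assoc s (x * s⁻¹)]
    exact mul_mem hs ((mem_normalizer_iff.1 (le_normalizer_sigmaCore N h.mem.2) _).1 (inv_mem hs))
  rw [h.compl.2.2.1, mem_bot, mul_inv_eq_one, mul_inv_eq_iff_eq_mul] at h1
  rw [inv_mul_eq_iff_eq_mul, ← mul_assoc, h1, mul_inv_cancel_right]

theorem mover_unique (h : Cover q M N x X A) {r r' : G}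
    (hr : r ∈ Cfsg.sigmaCore N) (hr' : r' ∈ Cfsg.sigmaCore N)
    (he : M.map (MulAut.conj r).toMonoidHom = M.map (MulAut.conj r').toMonoidHom) : r = r' := by
  have h1 : r⁻¹ * r' ∈ (M ⊓ N) ⊓ Cfsg.sigmaCore N := by
    refine mem_inf.2 ⟨mem_inf.2 ⟨?_, sigmaCore_le N (mul_mem (inv_mem hr) hr')⟩,
      mul_mem (inv_mem hr) hr'⟩
    have h2 : r⁻¹ * r' ∈ normalizer (M : Set G) := by
      rw [← map_conj_eq_self_iff, ← map_conj_map_conj (g := r⁻¹), ← he, map_conj_map_conj,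
        inv_mul_cancel, map_conj_one]
    rwa [minSimple_normalizer_coatom hG h.coatomM] at h2
  rw [h.compl.2.2.1, mem_bot, inv_mul_eq_one] at h1
  exact h1

theorem signalizer_ne_bot (h : Cover q M N x X A) (hC : ¬ centralizer ({x} : Set G) ≤ M) :
    Cfsg.sigmaCore N ⊓ centralizer ({x} : Set G) ≠ ⊥ := by
  intro e
  refine hC fun c hc => ?_
  obtain ⟨a, ha, b, hb, rfl⟩ := (Cover.compl_centralizer F hG h).2.2.2 c hc
  rw [e, mem_bot] at hb
  rw [hb, mul_one]
  exact ha.1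

end Cover

/-- BG 14.4 (S1374). -/
theorem signalizer (hM : IsCoatom M) (hx : x ∈ Cfsg.sigmaCore M) (hx1 : x ≠ 1) :
    (Nat.card ↥(M ⊓ centralizer ({x} : Set G))).Coprime
        ((M ⊓ centralizer ({x} : Set G)).relIndex (centralizer ({x} : Set G))) ∧
      ∃ R : Subgroup G, centralizer ({x} : Set G) ≤ normalizer (R : Set G) ∧
        Cfsg.IsComplIn (M ⊓ centralizer ({x} : Set G)) R (centralizer ({x} : Set G)) ∧
        ∀ g : G, x ∈ M.map (MulAut.conj g).toMonoidHom →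
          ∃! r : G, r ∈ R ∧
            M.map (MulAut.conj r).toMonoidHom = M.map (MulAut.conj g).toMonoidHom := by
  obtain ⟨q, hq, hqx⟩ := Nat.exists_prime_and_dvd (mt orderOf_eq_one_iff.1 hx1)
  haveI := Fact.mk hq
  obtain ⟨X, hXx, hX⟩ := exists_card_prime_le_zpowers hqx
  have hXs : X ≤ Cfsg.sigmaCore M := hXx.trans (zpowers_le.2 hx)
  have hX1 : X ≠ ⊥ := fun e => by rw [e, card_bot] at hX; exact hq.ne_one hX.symm
  by_cases hNX : normalizer (X : Set G) ≤ M
  · have hC : centralizer ({x} : Set G) ≤ M :=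
      (centralizer_singleton_le_of_le_zpowers hXx).trans ((centralizer_le_normalizer _).trans hNX)
    refine ⟨?_, ⊥, ?_, ⟨inf_le_right, bot_le, inf_bot_eq _, fun c hc =>
      ⟨c, ⟨hC hc, hc⟩, 1, one_mem _, (mul_one c).symm⟩⟩, fun g hg => ?_⟩
    · rw [inf_eq_right.2 hC, relIndex_self]
      exact Nat.coprime_one_right _
    · rw [normalizer_eq_top_iff.2 inferInstance]; exact le_top
    have hXg : X.map (MulAut.conj g⁻¹).toMonoidHom ≤ M := by
      have := map_mono (f := (MulAut.conj g⁻¹).toMonoidHom) (hXx.trans (zpowers_le.2 hg))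
      rwa [map_conj_map_conj, inv_mul_cancel, map_conj_one] at this
    obtain ⟨m, hm, c, hc, hgc⟩ := F.bg12.bg10.fusion M hM q
      (isPiSubgroup_sigmaCore M q hq (hX ▸ card_dvd_of_le hXs)) X
      (IsPGroup.of_card (n := 1) (by rw [hX, pow_one])) hX1 (hXs.trans (sigmaCore_le M)) g⁻¹ hXg
    have hgM : g ∈ M := by
      rw [← inv_inv g, hgc]
      exact inv_mem (mul_mem hm (hNX (centralizer_le_normalizer _ hc)))
    refine ⟨1, ⟨one_mem _, by rw [map_conj_one, map_conj_eq_self_of_mem hgM]⟩, fun r hr => ?_⟩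
    exact mem_bot.1 hr.1
  · obtain ⟨N, hN, hXN⟩ := minSimple_exists_coatom hG (minSimple_normalizer_ne_top hG hX1
      (minSimple_ne_top_of_isPGroup hG (p := q) (IsPGroup.of_card (n := 1) (by rw [hX, pow_one]))))
    obtain ⟨A, h⟩ := exists_cover F hG hM hx hXx hX hN hXN fun e => hNX (e ▸ hXN)
    refine ⟨Cover.hall F hG h, _, Cover.centralizer_le_normalizer_signalizer F hG h,
      Cover.compl_centralizer F hG h, fun g hg => ?_⟩
    obtain ⟨r, hr, he⟩ := Cover.exists_mover F hG h hg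
    exact ⟨r, ⟨hr, he⟩, fun r' hr' =>
      Cover.mover_unique F hG h hr'.1.1 hr.1 (hr'.2.trans he.symm)⟩

variable (K : FixFacts G)
include K

/-- When `C(x) ≰ M`, all prime divisors of `orderOf x` lie in `τ₂(N)`. -/
theorem Cover.tau2_of_dvd [Fact q.Prime] {X A : Subgroup G} (h : Cover q M N x X A)
    (hx : x ∈ Cfsg.sigmaCore M) (hC : ¬ centralizer ({x} : Set G) ≤ M) {r : ℕ} (hr : r.Prime)
    (hd : r ∣ orderOf x) : r ∈ Cfsg.tau2 N := by
  haveI := Fact.mk hr
  obtain ⟨R, hRx, hR⟩ := exists_card_prime_le_zpowers hd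
  have hrs : r ∈ Cfsg.sigma M :=
    isPiSubgroup_sigmaCore M r hr (hR ▸ card_dvd_of_le (hRx.trans (zpowers_le.2 hx)))
  have hrN : r ∉ Cfsg.sigma N :=
    Set.disjoint_left.1 (disjoint_sigma F hG h.coatomM h.coatomN h.not_conj) hrs
  have hRE : R ≤ M ⊓ N := hRx.trans (zpowers_le.2 h.mem)
  have hfix : Cfsg.sigmaCore N ⊓ centralizer (R : Set G) ≠ ⊥ := fun e =>
    Cover.signalizer_ne_bot F hG h hC (le_bot_iff.1 (e ▸
      inf_le_inf_left _ (centralizer_singleton_le_of_le_zpowers hRx)))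
  rcases tau_cases F hG h.coatomN hr (hR ▸ card_dvd_of_le (hRE.trans inf_le_right)) hrN with
    h1 | h2 | h3
  · refine absurd (K.tauOne N h.coatomN _ h.compl r h1 R hRE hR q h.tau2 A h.A_le h.elementary
      h.card_A ?_) hfix
    intro e
    have hX : X ≤ A ⊓ centralizer (R : Set G) := le_inf h.le_A fun y hy =>
      centralizer_singleton_le_of_le_zpowers hRx (mem_centralizer_singleton_iff.2
        (mem_centralizer_iff.1 (le_centralizer_singleton_of_le_zpowers h.le_zpowers) y hy))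
    have := card_dvd_of_le (hX.trans e.le)
    rw [h.card_X, card_bot] at this
    exact (Fact.out : q.Prime).not_dvd_one this
  · exact h2
  · have := K.tauThree N h.coatomN _ h.compl r h3 R hRE hR hfix
    exact absurd h.tau2 (this ▸ Set.notMem_empty q)

/-- When `C(x) ≰ M`, `N` is the only maximal subgroup containing `C(x)`. -/
theorem Cover.eq_of_centralizer_le [Fact q.Prime] {X A : Subgroup G} (h : Cover q M N x X A)
    (hx : x ∈ Cfsg.sigmaCore M) (hx1 : x ≠ 1) (hC : ¬ centralizer ({x} : Set G) ≤ M)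
    {L : Subgroup G} (hL : IsCoatom L) (hxL : centralizer ({x} : Set G) ≤ L) : L = N := by
  obtain ⟨y, hy, hy1⟩ := (bot_or_exists_ne_one _).resolve_left (Cover.signalizer_ne_bot F hG h hC)
  exact ((F.complAbelian N h.coatomN _ h.compl).2.2 x h.mem.2 hx1
    (fun r hr hd => Cover.tau2_of_dvd F hG K h hx hC hr hd)
    ⟨h.mem.2, y, hy.1, hy1, (mem_centralizer_singleton_iff.1 hy.2).symm⟩).2 L hL hxL

/-- BG 14.4: the configuration when `C(x) ≰ M`. -/
theorem exists_cover_of_not_le (hM : IsCoatom M) (hx : x ∈ Cfsg.sigmaCore M) (hx1 : x ≠ 1)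
    (hC : ¬ centralizer ({x} : Set G) ≤ M) :
    ∃ (q : ℕ) (N X A : Subgroup G), q.Prime ∧ Cover q M N x X A ∧
      ∀ L : Subgroup G, IsCoatom L → centralizer ({x} : Set G) ≤ L → L = N := by
  obtain ⟨q, hq, hqx⟩ := Nat.exists_prime_and_dvd (mt orderOf_eq_one_iff.1 hx1)
  haveI := Fact.mk hq
  obtain ⟨X, hXx, hX⟩ := exists_card_prime_le_zpowers hqx
  have hX1 : X ≠ ⊥ := fun e => by rw [e, card_bot] at hX; exact hq.ne_one hX.symm
  obtain ⟨N, hN, hXN⟩ := minSimple_exists_coatom hG (minSimple_normalizer_ne_top hG hX1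
    (minSimple_ne_top_of_isPGroup hG (p := q) (IsPGroup.of_card (n := 1) (by rw [hX, pow_one]))))
  obtain ⟨A, h⟩ := exists_cover F hG hM hx hXx hX hN hXN fun e => hC
    (e ▸ (centralizer_singleton_le_of_le_zpowers hXx).trans
      ((centralizer_le_normalizer _).trans hXN))
  exact ⟨q, N, X, A, hq, h, fun L hL hxL =>
    Cover.eq_of_centralizer_le F hG K h hx hx1 hC hL hxL⟩

/-- BG 14.4 (S1375). -/
theorem signalizer_context (hM : IsCoatom M) (hx : x ∈ Cfsg.sigmaCore M) (hx1 : x ≠ 1)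
    (hC : ¬ centralizer ({x} : Set G) ≤ M) :
    ∃ N : Subgroup G, (IsCoatom N ∧ centralizer ({x} : Set G) ≤ N) ∧
        (∀ L : Subgroup G, IsCoatom L → centralizer ({x} : Set G) ≤ L → L = N) ∧
        Cfsg.sigmaCore N = Cfsg.fittingHallOf N ∧
        centralizer ({x} : Set G) ≤
          normalizer ((Cfsg.sigmaCore N ⊓ centralizer ({x} : Set G) : Subgroup G) : Set G) ∧
        Cfsg.IsComplIn (M ⊓ centralizer ({x} : Set G))
          (Cfsg.sigmaCore N ⊓ centralizer ({x} : Set G)) (centralizer ({x} : Set G)) ∧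
        Cfsg.IsComplIn (M ⊓ N) (Cfsg.sigmaCore N) N ∧
        ∀ K' U' : Subgroup G, Cfsg.IsSigmaDecomposition N K' U' →
          U' ≠ ⊥ ∧ x ∈ Cfsg.sigmaA N U' ∧ x ∉ Cfsg.sigmaCore N := by
  obtain ⟨q, N, X, A, hq, h, huniq⟩ := exists_cover_of_not_le F hG K hM hx hx1 hC
  haveI := Fact.mk hq
  have hN := h.coatomN
  refine ⟨N, ⟨hN, Cover.centralizer_le F hG h⟩, huniq,
    (fittingHallOf_eq_sigmaCore hG hN (F.bg12.bg10.sigmaHall N hN).1 h.nilpotent).symm,
    Cover.centralizer_le_normalizer_signalizer F hG h, Cover.compl_centralizer F hG h, h.compl,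
    fun K' U' hKU => ?_⟩
  have hxs : x ∉ Cfsg.sigmaCore N := fun hs => hx1 (mem_bot.1 (h.compl.2.2.1 ▸ ⟨h.mem, hs⟩))
  set W := U' ⊔ Cfsg.sigmaCore N with hW
  have hxW : x ∈ W := by
    have hWN : W ≤ N := sup_le hKU.compl.1 (sigmaCore_le N)
    have hgen : ∀ n ∈ N, ∃ u ∈ U', ∃ v ∈ K' ⊔ Cfsg.sigmaCore N, n = u * v := hKU.compl.2.2.2
    haveI : (W.subgroupOf N).Normal := by
      refine (normal_subgroupOf_iff_le_normalizer hWN).2 fun n hn => ?_
      obtain ⟨u, hu, v, hv, rfl⟩ := hgen n hn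
      refine mul_mem (le_normalizer (mem_sup_left hu)) ?_
      refine (sup_le (fun k hk => ?_) ((le_sup_right).trans le_normalizer) :
        K' ⊔ Cfsg.sigmaCore N ≤ normalizer (W : Set G)) hv
      rw [← map_conj_eq_self_iff, hW, Subgroup.map_sup, map_conj_eq_self_iff.2 (hKU.normal hk),
        map_conj_eq_self_iff.2 (le_normalizer_sigmaCore N (hKU.hall.1 hk))]
    obtain ⟨u, hu, v, hv, hxe⟩ := hgen x h.mem.2
    obtain ⟨k, hk, s, hs, rfl⟩ := Coprime.exists_mul_of_mem_sup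
      ((hKU.hall.1).trans (le_normalizer_sigmaCore N)) (sup_comm K' _ ▸ hv)
    set f := QuotientGroup.mk' (W.subgroupOf N)
    let x' : N := ⟨x, h.mem.2⟩
    let s' : N := ⟨s, hKU.hall.1 hs⟩
    have hfx : f x' = f s' := by
      rw [QuotientGroup.mk'_eq_mk']
      refine ⟨⟨x⁻¹ * s, mul_mem (inv_mem h.mem.2) (hKU.hall.1 hs)⟩, ?_, Subtype.ext ?_⟩
      · show x⁻¹ * s ∈ W
        rw [hxe, show (u * (k * s))⁻¹ * s = s⁻¹ * (k⁻¹ * u⁻¹) * s by group]
        have hsn : s⁻¹ ∈ normalizer (W : Set G) := inv_mem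
          ((normal_subgroupOf_iff_le_normalizer hWN).1 inferInstance (hKU.hall.1 hs))
        have := (mem_normalizer_iff.1 hsn (k⁻¹ * u⁻¹)).1
          (mul_mem (mem_sup_right (inv_mem hk)) (mem_sup_left (inv_mem hu)))
        rwa [inv_inv] at this
      · show x * (x⁻¹ * s) = s
        group
    have h1 : orderOf (f x') ∣ Nat.gcd (orderOf x) (Nat.card K') := by
      refine Nat.dvd_gcd ((orderOf_map_dvd f x').trans (by rw [Subgroup.orderOf_mk])) ?_
      rw [hfx]
      exact (orderOf_map_dvd f s').trans (by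
        rw [Subgroup.orderOf_mk]; exact K'.orderOf_dvd_natCard hs)
    have h2 : Nat.gcd (orderOf x) (Nat.card K') = 1 := by
      by_contra hne
      obtain ⟨r, hr, hd⟩ := Nat.exists_prime_and_dvd hne
      haveI := Fact.mk hr
      exact (Cover.tau2_of_dvd F hG K h hx hC hr (hd.trans (Nat.gcd_dvd_left _ _))).2.2.2
        (kappa_pRankLE_one (hKU.hall.2.1 r hr (hd.trans (Nat.gcd_dvd_right _ _))))
    rw [h2, Nat.dvd_one, orderOf_eq_one_iff, QuotientGroup.mk'_apply,
      QuotientGroup.eq_one_iff] at h1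
    exact h1
  obtain ⟨y, hy, hy1⟩ := (bot_or_exists_ne_one _).resolve_left (Cover.signalizer_ne_bot F hG h hC)
  refine ⟨fun e => hxs ?_, ⟨⟨h.mem.2, y, hy.1, hy1,
    (mem_centralizer_singleton_iff.1 hy.2).symm⟩, hxW⟩, hxs⟩
  rwa [hW, e, bot_sup_eq] at hxW

end

end CfsgLib.OddOrder.BG14
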