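import Cfsg.Agent.OddOrder.BG14.SupportPartition
import Cfsg.Agent.OddOrder.BG15.Kappa
import Cfsg.Agent.S1430
import Cfsg.Agent.S1366
import Cfsg.Agent.S1369
import Cfsg.Agent.S1372
import Cfsg.Agent.S1437

/-!
# The facts on subgroups with `κ` nonempty used by the covering theorems
-/

set_option autoImplicit false

namespace CfsgLib.OddOrder.BG14

variable {G : Type*} [Group G] [Finite G]

theorem kappaFacts (hG : Cfsg.IsMinSimpleOddOrder G) : KappaFacts G where
  kappaCyclic M hM K hK := kappa_hall_isCyclic (bg13Facts hG) hG hM hK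
  normalizerLine M hM K hK hK1 X hX hXp :=
    ((Cfsg.Agent.S1430.result hG M hM K hK hK1).2.2 X hX hXp).1
  exists_decomp M hM K hK :=
    BG15.exists_sigmaDecomposition_of_hall (BG15.bg14Facts hG) hG hM hK
  star M hM K U hKU hK1 := by
    obtain ⟨L, ⟨hL, hKL, hhall⟩, -⟩ := Cfsg.Agent.S1366.result hG M hM K U hKU hK1
    exact ⟨L, hL, hKL, hhall,
      (Cfsg.Agent.S1369.result hG M hM K U hKU hK1 L hL hKL hhall).2⟩
  typeTwo M hM K U hKU hK1 hU :=
    (Cfsg.Agent.S1372.result hG M hM K U hKU hK1 hU).2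
  coreNe M hM K U hKU hne := by
    obtain ⟨-, -, -, h4, -, h6, Q, h7, h8, h9, h10, h11⟩ :=
      Cfsg.Agent.S1437.result hG M hM K U hKU hne
    exact ⟨h4, h6, Q, h7, h8, h9, h10, fun D hD =>
      ⟨(h11 D hD).1, (h11 D hD).2.1, (h11 D hD).2.2.1⟩⟩

end CfsgLib.OddOrder.BG14
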