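import Cfsg.Agent.OddOrder.BG14.Tools
import Cfsg.Agent.OddOrder.BG13.Covering

/-!
# Complements of `M_σ` inside given subgroups, conjugation invariance, and prime action of a cyclic
`τ₁`-group
-/

set_option autoImplicit false
set_option linter.style.haveILetI false
set_option linter.unusedSectionVars false

namespace CfsgLib.OddOrder.BG14

open Cfsg Subgroup
open CfsgLib.OddOrder
open CfsgLib.OddOrder.BG11
open CfsgLib.OddOrder.BG13
open CfsgLib.ConjFunctor (IsSylowIn exists_isSylowIn_ge)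

variable {G : Type*} [Group G] [Finite G] {p q r : ℕ} {M H : Subgroup G}

theorem pRankLE_map_conj [Fact p.Prime] {k : ℕ} (h : Cfsg.PRankLE p k M) (g : G) :
    Cfsg.PRankLE p k ↥(M.map (MulAut.conj g).toMonoidHom) :=
  pRankLE_of_injective' (M.equivMapOfInjective _ (MulAut.conj g).injective).symm.toMonoidHom
    (MulEquiv.injective _) h

theorem alpha_map_conj_le (M : Subgroup G) (g : G) :
    Cfsg.alpha M ⊆ Cfsg.alpha (M.map (MulAut.conj g).toMonoidHom) := by
  rintro r ⟨hr, hk⟩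
  refine ⟨hr, fun h => hk ?_⟩
  haveI := Fact.mk hr
  have h1 := pRankLE_map_conj h g⁻¹
  rwa [map_conj_map_conj, inv_mul_cancel, map_conj_one] at h1

theorem beta_map_conj (M : Subgroup G) (g : G) :
    Cfsg.beta (M.map (MulAut.conj g).toMonoidHom) = Cfsg.beta M := by
  refine Set.Subset.antisymm ?_ fun r h => ⟨alpha_map_conj_le M g h.1, h.2⟩
  intro r h
  have h1 := alpha_map_conj_le (M.map (MulAut.conj g).toMonoidHom) g⁻¹ h.1
  rw [map_conj_map_conj, inv_mul_cancel, map_conj_one] at h1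
  exact ⟨h1, h.2⟩

theorem piCoreOf_map_conj_le (π : Set ℕ) (X : Subgroup G) (g : G) :
    (Cfsg.piCoreOf π X).map (MulAut.conj g).toMonoidHom ≤
      Cfsg.piCoreOf π (X.map (MulAut.conj g).toMonoidHom) := by
  refine le_piCoreOf (map_mono (piCoreOf_le π X)) ?_ (isPiSubgroup_map _ (isPiSubgroup_piCoreOf π X))
  rw [← map_conj_normalizer]
  exact map_mono (le_normalizer_piCoreOf π X)

theorem piCoreOf_map_conj (π : Set ℕ) (X : Subgroup G) (g : G) :
    Cfsg.piCoreOf π (X.map (MulAut.conj g).toMonoidHom) =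
      (Cfsg.piCoreOf π X).map (MulAut.conj g).toMonoidHom := by
  refine le_antisymm ?_ (piCoreOf_map_conj_le π X g)
  have h := map_mono (f := (MulAut.conj g).toMonoidHom)
    (piCoreOf_map_conj_le π (X.map (MulAut.conj g).toMonoidHom) g⁻¹)
  rwa [map_conj_map_conj, map_conj_map_conj, mul_inv_cancel, map_conj_one, inv_mul_cancel,
    map_conj_one] at h

omit [Finite G] in
theorem map_conj_eq_self_of_le_centralizer {X : Subgroup G} {c : G}
    (hc : c ∈ centralizer (X : Set G)) : X.map (MulAut.conj c).toMonoidHom = X :=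
  map_conj_eq_self_iff.2 (centralizer_le_normalizer _ hc)

variable (F : BG13Facts G) (hG : Cfsg.IsMinSimpleOddOrder G)
include F hG

theorem beta_subset_sigma (hM : IsCoatom M) (h : p ∈ Cfsg.beta M) : p ∈ Cfsg.sigma M :=
  BG11.alpha_subset_sigma F.bg12.bg10 hM h.1

/-- A `τ₂`-prime is not in any `β`. -/
theorem tau2_not_beta [Fact p.Prime] (hM : IsCoatom M) (hp : p ∈ Cfsg.tau2 M) (H : Subgroup G) :
    p ∉ Cfsg.beta H :=
  fun h => (F.bg12.bg10.rankTwo M hM p hp.2.1 hp.2.2.1 hp.2.2.2).1 h.2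

/-- The normalizer of a `p`-subgroup, `p ∈ σ(M)`, is in `M` once its centralizer is. -/
theorem normalizer_le_of_centralizer_le [Fact p.Prime] (hM : IsCoatom M)
    (hp : p ∈ Cfsg.sigma M) {X : Subgroup G} (hX : IsPGroup p X) (hX1 : X ≠ ⊥) (hXM : X ≤ M)
    (hC : centralizer (X : Set G) ≤ M) : normalizer (X : Set G) ≤ M := by
  intro g hg
  obtain ⟨m, hm, c, hc, rfl⟩ := F.bg12.bg10.fusion M hM p hp X hX hX1 hXM g
    ((map_conj_eq_self_iff.2 hg).le.trans hXM)
  exact mul_mem hm (hC hc)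

/-- `N(X) ≰ M` for a subgroup of order `p ∉ σ(M)` when `M` has `p`-rank one. -/
theorem not_normalizer_le_of_rank_one [Fact p.Prime] (hM : IsCoatom M) (hp : p ∉ Cfsg.sigma M)
    (h1 : Cfsg.PRankLE p 1 M) {X : Subgroup G} (hX : Nat.card X = p) :
    ¬ normalizer (X : Set G) ≤ M :=
  fun h => (F.bg12.orderP M hM p hp X hX h).1 h1

/-- A maximal subgroup over `N(X)`, `#X = p` outside `σ(M)` with `M` of `p`-rank one, is not
conjugate to `M`, and `p` is in its `σ` or `τ₂`. -/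
theorem exists_coatom_normalizer [Fact p.Prime] (hM : IsCoatom M) (hp : p ∉ Cfsg.sigma M)
    (h1 : Cfsg.PRankLE p 1 M) {X : Subgroup G} (hX : Nat.card X = p) :
    ∃ H : Subgroup G, IsCoatom H ∧ normalizer (X : Set G) ≤ H ∧ H ≠ M ∧
      (∀ g : G, H ≠ M.map (MulAut.conj g).toMonoidHom) ∧
      (p ∈ Cfsg.sigma H ∨ p ∈ Cfsg.tau2 H) := by
  have hX1 : X ≠ ⊥ := BG11.ne_bot_of_card_prime hX
  obtain ⟨H, hH, hNH⟩ := minSimple_exists_coatom hG (minSimple_normalizer_ne_top hG hX1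
    (minSimple_ne_top_of_isPGroup hG (p := p) (IsPGroup.of_card (n := 1) (by rw [hX, pow_one]))))
  have hor : p ∈ Cfsg.sigma H ∨ p ∈ Cfsg.tau2 H := by
    by_cases hs : p ∈ Cfsg.sigma H
    · exact Or.inl hs
    · exact Or.inr ⟨Fact.out, hs, pRankLE_two_of_not_sigma F.bg12.bg10 hH hs,
        (F.bg12.orderP H hH p hs X hX hNH).1⟩
  refine ⟨H, hH, hNH, fun e => not_normalizer_le_of_rank_one F hG hM hp h1 hX (e ▸ hNH),
    fun g e => ?_, hor⟩
  rcases hor with hs | ht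
  · rw [e, sigma_map_conj] at hs
    exact hp hs
  · exact ht.2.2.2 (e ▸ pRankLE_map_conj h1 g)

/-- Inside `D ≤ M` of index a `σ(M)`-number, every `σ(M)'`-subgroup lies in a complement of `M_σ`
contained in `D`. -/
theorem exists_complIn_between {D U : Subgroup G} (hM : IsCoatom M) (hDM : D ≤ M) (hUD : U ≤ D)
    (hD : ∀ r : ℕ, r.Prime → r ∣ D.relIndex M → r ∈ Cfsg.sigma M)
    (hU : ∀ r : ℕ, r.Prime → r ∣ Nat.card U → r ∉ Cfsg.sigma M) :
    ∃ E : Subgroup G, U ≤ E ∧ E ≤ D ∧ Cfsg.IsComplIn E (Cfsg.sigmaCore M) M := by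
  have hsol : Group.IsSolvable D :=
    minSimple_solvable hG (ne_top_of_le_ne_top hM.1 hDM)
  obtain ⟨E, hE, hUE⟩ := exists_isPiHallOf_ge (π := {r | r.Prime ∧ r ∉ Cfsg.sigma M}) hsol hUD
    fun r hr hd => ⟨hr, hU r hr hd⟩
  refine ⟨E, hUE, hE.1, isComplIn_of_isPiHallOf (le_normalizer_sigmaCore M)
    (F.bg12.bg10.sigmaHall M hM).1 ⟨hE.1.trans hDM, hE.2.1, fun r hr hrπ hd => ?_⟩
    fun r hr => ⟨fun h => h.2, fun h => ⟨hr, h⟩⟩⟩
  rw [← relIndex_mul_relIndex E D M hE.1 hDM] at hd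
  rcases hr.dvd_mul.1 hd with h | h
  · exact hE.2.2 r hr hrπ h
  · exact hrπ.2 (hD r hr h)

/-- A cyclic `τ₁(M)`-subgroup of a complement acts in prime manner on `M_σ`. -/
theorem tauOne_semiprime {E W : Subgroup G} (hM : IsCoatom M)
    (hE : Cfsg.IsComplIn E (Cfsg.sigmaCore M) M) (hWE : W ≤ E) (hWc : IsCyclic W)
    (hW : IsPiSubgroup (Cfsg.tau1 M) W) [Fact p.Prime] {X : Subgroup G} (hXW : X ≤ W)
    (hX : Nat.card X = p) :
    Cfsg.sigmaCore M ⊓ centralizer (X : Set G) = Cfsg.sigmaCore M ⊓ centralizer (W : Set G) := by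
  refine le_antisymm (le_inf inf_le_left (le_centralizer_iff.1 ?_))
    (inf_le_inf_left _ (centralizer_le hXW))
  set C := Cfsg.sigmaCore M ⊓ centralizer (X : Set G)
  refine BG4.le_of_sylow_le fun s hs => ?_
  haveI := Fact.mk hs
  obtain ⟨Q⟩ : Nonempty (Sylow s W) := inferInstance
  refine ⟨Q, ?_⟩
  by_cases hQ : (Q : Subgroup W).map W.subtype = ⊥
  · rw [hQ]; exact bot_le
  obtain ⟨Y, hYQ, hY⟩ := exists_card_prime_le (q := s) (Q.2.map W.subtype) hQ
  have hYW : Y ≤ W := hYQ.trans (map_subtype_le _)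
  have hst : s ∈ Cfsg.tau1 M := hW s hs (dvd_card_of_card_le hYW hY)
  obtain ⟨S, hQS, hS⟩ := exists_isSylowIn_ge ((map_subtype_le _).trans hWE) (Q.2.map W.subtype)
  have hSc : IsCyclic S := isCyclic_of_pRankLE_one (hS.le.trans hE.1) hS.isPGroup
    (minSimple_prime_ne_two_subgroup hG (dvd_card_of_card_le hYW hY)) hst.2.2.2.2
  obtain ⟨y, hy, hy1⟩ := exists_mem_ne_one_of_card hY
  have hcomm : Y ≤ centralizer (X : Set G) := by
    haveI := hWc
    intro a ha
    rw [mem_centralizer_iff]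
    intro b hb
    exact congrArg Subtype.val
      (IsMulCommutative.is_comm.comm (⟨b, hXW hb⟩ : W) ⟨a, hYW ha⟩)
  have h1 := F.tauOneFix M hM E hE p (hW p Fact.out (dvd_card_of_card_le hXW hX)) X
    (hXW.trans hWE) hX Y (le_inf (hYW.trans hWE) hcomm) (by rw [hY]; exact hs)
  have h2 := F.cyclicPrimeAction M hM E hE s S hS hSc y (hQS (hYQ hy)) hy1
  rw [← centralizer_eq_singleton_of_card hY hy hy1] at h2
  exact hQS.trans (le_centralizer_iff.1 ((h1.trans h2.le).trans inf_le_right))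

end CfsgLib.OddOrder.BG14
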