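import Cfsg.Agent.OddOrder.BG14.Zhat
import Cfsg.Agent.OddOrder.BG14.SupportCover

/-!
# Standard factorisations `M = K U M_σ`, and `A₀(M) \ A(M)`
-/

set_option autoImplicit false
set_option linter.style.haveILetI false
set_option linter.unusedSectionVars false

namespace CfsgLib.OddOrder.BG14

open Cfsg Subgroup
open CfsgLib.OddOrder
open CfsgLib.OddOrder.BG11
open CfsgLib.OddOrder.BG13
open CfsgLib.PiClasses69 (IsPi IsPiCompl piPart piComplPart)

variable {G : Type*} [Group G] [Finite G] {M E K U V : Subgroup G}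
variable (F : BG13Facts G) (hG : Cfsg.IsMinSimpleOddOrder G)
include F hG

/-- A complement to `K M_σ` has no prime in `κ(M) ∪ σ(M)`. -/
theorem decomposition_primes (hM : IsCoatom M) (hV : Cfsg.IsSigmaDecomposition M K V) {p : ℕ}
    (hp : p.Prime) (hd : p ∣ Nat.card V) : p ∉ Cfsg.kappa M ∧ p ∉ Cfsg.sigma M := by
  have hKn : K ≤ normalizer (Cfsg.sigmaCore M : Set G) :=
    hV.hall.1.trans (le_normalizer_sigmaCore M)
  have hWM : K ⊔ Cfsg.sigmaCore M ≤ M := sup_le hV.hall.1 (sigmaCore_le M)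
  have hcard : Nat.card V = (K ⊔ Cfsg.sigmaCore M).relIndex M := by
    have hc : (V.subgroupOf M).IsComplement' ((K ⊔ Cfsg.sigmaCore M).subgroupOf M) := by
      refine isComplement'_of_disjoint_and_mul_eq_univ ?_ ?_
      · rw [disjoint_iff, eq_bot_iff]
        intro x hx
        have h : (x : G) ∈ V ⊓ (K ⊔ Cfsg.sigmaCore M) := hx
        rw [hV.compl.2.2.1, mem_bot] at h
        exact mem_bot.2 (Subtype.ext h)
      · refine Set.eq_univ_of_forall fun x => ?_
        obtain ⟨a, ha, b, hb, hx⟩ := hV.compl.2.2.2 x x.2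
        exact ⟨⟨a, hV.compl.1 ha⟩, ha, ⟨b, hWM hb⟩, hb, Subtype.ext hx.symm⟩
    rw [Subgroup.relIndex, hc.index_eq_card,
      Nat.card_congr (subgroupOfEquivOfLe hV.compl.1).toEquiv]
  rw [hcard] at hd
  exact ⟨fun h => hV.hall.2.2 p hp h (hd.trans (relIndex_dvd_of_le_left _ le_sup_left)),
    fun h => (F.bg12.bg10.sigmaHall M hM).1.2.2 p hp h
      (hd.trans (relIndex_dvd_of_le_left _ le_sup_right))⟩

/-- `U M_σ` is the set of the elements of `M` of order prime to `κ(M)`. -/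
theorem mem_sup_sigmaCore_iff (d : PTypeData M E K U) (hM : IsCoatom M)
    (hV : Cfsg.IsSigmaDecomposition M K V) {a : G} (ha : a ∈ M) :
    a ∈ V ⊔ Cfsg.sigmaCore M ↔ ∀ p : ℕ, p.Prime → p ∣ orderOf a → p ∉ Cfsg.kappa M := by
  set π : Set ℕ := {p | p ∉ Cfsg.kappa M}
  have hK := hV.hall
  have hVn : V ≤ normalizer (Cfsg.sigmaCore M : Set G) :=
    hV.compl.1.trans (le_normalizer_sigmaCore M)
  constructor
  · intro h p hp hd hk
    have h0 : Nat.card ↥(V ⊔ Cfsg.sigmaCore M) ∣ Nat.card (Cfsg.sigmaCore M) * Nat.card V := by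
      rw [sup_comm]
      exact BG13.card_sup_dvd_mul hVn
    have h1 := hd.trans (((V ⊔ Cfsg.sigmaCore M).orderOf_dvd_natCard h).trans h0)
    rcases hp.dvd_mul.1 h1 with h2 | h2
    · exact kappa_not_sigma hk (isPiSubgroup_sigmaCore M p hp h2)
    · exact (decomposition_primes F hG hM hV hp h2).1 hk
  set N := U ⊔ Cfsg.sigmaCore M
  have hNM : N ≤ M := sup_le d.hallU.1 (sigmaCore_le M)
  have hUn : U ≤ normalizer (Cfsg.sigmaCore M : Set G) :=
    d.hallU.1.trans (le_normalizer_sigmaCore M)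
  have heq : M = N ⊔ K := by
    rw [← complIn_sup_eq F hG d.compl, ← d.sup, sup_right_comm]
  have hn : M ≤ normalizer (N : Set G) := by
    nth_rewrite 1 [heq]
    exact sup_le le_normalizer fun k hk => mem_normalizer_sup (d.normU (d.KE hk))
      (le_normalizer_sigmaCore M (hK.1 hk))
  have hNπ : IsPiSubgroup π N := fun p hp hd => by
    rcases hp.dvd_mul.1 (hd.trans (by
      rw [show N = Cfsg.sigmaCore M ⊔ U from sup_comm _ _]
      exact BG13.card_sup_dvd_mul hUn)) with h | h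
    · exact fun hk => kappa_not_sigma hk (isPiSubgroup_sigmaCore M p hp h)
    · exact (d.hallU.2.1 p hp h).2.1
  have hNH : Cfsg.IsPiHallOf π N M := ⟨hNM, hNπ, fun p hp hpπ hd => by
    haveI : (N.subgroupOf M).Normal := (normal_subgroupOf_iff_le_normalizer hNM).2 hn
    have h1 : (N.subgroupOf M).index = (N.subgroupOf M).relIndex (K.subgroupOf M) := by
      rw [← relIndex_sup_right (K.subgroupOf M) (N.subgroupOf M), ← subgroupOf_sup hK.1 hNM,
        sup_comm, ← heq, subgroupOf_self, relIndex_top_right]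
    rw [Subgroup.relIndex, h1] at hd
    exact hpπ (hK.2.1 p hp (hd.trans ((relIndex_dvd_card _ _).trans
      (Nat.card_congr (subgroupOfEquivOfLe hK.1).toEquiv).dvd)))⟩
  have hle : N ≤ V ⊔ Cfsg.sigmaCore M := by
    intro x hx
    obtain ⟨v, hv, w, hw, rfl⟩ := hV.compl.2.2.2 x (hNM hx)
    have hvN : v ∈ N := le_of_isPiHallOf_normal hNH hn hV.compl.1
      (fun p hp hd => (decomposition_primes F hG hM hV hp hd).1) hv
    rw [sup_comm] at hw
    obtain ⟨y, hy, k, hk, rfl⟩ := Coprime.exists_mul_of_mem_sup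
      (hK.1.trans (le_normalizer_sigmaCore M)) hw
    have hkN : k ∈ N := (Subgroup.mul_mem_cancel_left _ (mem_sup_right hy)).1
      ((Subgroup.mul_mem_cancel_left _ hvN).1 hx)
    have hk1 : k = 1 := mem_bot.1 (inf_eq_bot_of_isPiSubgroup hK.2.1 hNπ
      (Set.disjoint_left.2 fun _ h h' => h' h) ▸ mem_inf.2 ⟨hk, hkN⟩)
    rw [hk1, mul_one]
    exact mul_mem_sup hv hy
  intro h
  refine hle (le_of_isPiHallOf_normal hNH hn (zpowers_le.2 ha) (fun p hp hd => ?_) (mem_zpowers a))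
  exact h p hp (by rwa [Nat.card_zpowers] at hd)

/-- The `M`-conjugates of `Ẑ` are the elements of `A₀(M)` outside `A(M)`. -/
theorem sigmaA0_diff_sigmaA (d : PTypeData M E K U) (hM : IsCoatom M)
    (hV : Cfsg.IsSigmaDecomposition M K V) :
    {a : G | ∃ m ∈ M, ∃ z ∈ zhat K (Cfsg.sigmaCore M ⊓ centralizer (K : Set G)),
      a = m * z * m⁻¹} = Cfsg.sigmaA0 M K \ Cfsg.sigmaA M V := by
  have hK := hV.hall
  have hord : ∀ g x : G, orderOf (g * x * g⁻¹) = orderOf x := fun g x => by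
    rw [← MulAut.conj_apply, MulEquiv.orderOf_eq]
  ext a
  constructor
  · rintro ⟨m, hm, z, hz, rfl⟩
    obtain ⟨k, hk, s, hs, hk1, hs1, he, hps, hpk⟩ := zhat_mem hK hz
    have hks := kstar_commute hk hs
    have hzM : z ∈ M := he ▸ mul_mem (hK.1 hk) (sigmaCore_le M hs.1)
    have hmz : m * z * m⁻¹ ∈ M := mul_mem (mul_mem hm hzM) (inv_mem hm)
    have hhat : m * z * m⁻¹ ∈ Cfsg.sigmaHat M := by
      refine ⟨hmz, m * s * m⁻¹, (mem_normalizer_iff.1 (le_normalizer_sigmaCore M hm) s).1 hs.1,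
        fun e => hs1 (conj_eq_one_iff.1 e), ?_⟩
      have hzs : Commute z s := he ▸ hks.mul_left (Commute.refl s)
      exact (hzs.map (MulAut.conj m).toMonoidHom).eq
    refine ⟨⟨hhat, ?_⟩, fun hA => ?_⟩
    · rintro ⟨k₀, hk₀, -, n, -, e⟩
      refine hs1 (orderOf_eq_one_iff.1 (Nat.eq_one_iff_not_exists_prime_dvd.2 fun p hp hd => ?_))
      refine isPiCompl_of_mem_hall hK hk₀ p hp ?_ (isPi_of_mem_sigmaCore hs.1 p hp hd)
      rw [← hord n k₀, ← e, hord]
      refine hd.trans ?_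
      rw [← hps]
      exact orderOf_pow_dvd _
    · obtain ⟨p, hp, hd⟩ := Nat.exists_prime_and_dvd (mt orderOf_eq_one_iff.1 hk1)
      refine (mem_sup_sigmaCore_iff F hG d hM hV hmz).1 hA.2 p hp ?_
        (hK.2.1 p hp (hd.trans (K.orderOf_dvd_natCard hk)))
      rw [hord]
      refine hd.trans ?_
      rw [← hpk]
      exact orderOf_dvd_of_mem_zpowers
        (mul_mem (inv_mem (pow_mem (mem_zpowers z) _)) (mem_zpowers z))
  rintro ⟨⟨hhat, hnK⟩, hnA⟩
  obtain ⟨haM, y, hy, hy1, hay⟩ := hhat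
  set w := piPart (Cfsg.sigma M) a
  set b := piComplPart (Cfsg.sigma M) a
  have hab : w * b = a := PiClasses69.piPart_mul _ a
  have hwM : w ∈ M := pow_mem haM _
  have hbM : b ∈ M := mul_mem (inv_mem hwM) haM
  have hyb : Commute y b := PiClasses69.commute_piComplPart _ (Commute.symm hay)
  have hwσ : w ∈ Cfsg.sigmaCore M := le_sigmaCore F.bg12.bg10 hM (zpowers_le.2 hwM)
    (fun p hp hd => PiClasses69.isPi_piPart _ a p hp (by rwa [Nat.card_zpowers] at hd)) (mem_zpowers w)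
  obtain ⟨p, hp, hpd, hpκ⟩ : ∃ p, p.Prime ∧ p ∣ orderOf a ∧ p ∈ Cfsg.kappa M := by
    by_contra hne
    push Not at hne
    exact hnA ⟨⟨haM, y, hy, hy1, hay⟩, (mem_sup_sigmaCore_iff F hG d hM hV haM).2 hne⟩
  have hwb : Commute w b := PiClasses69.commute_parts _ a
  have hpb : p ∣ orderOf b := by
    have h1 : p ∣ orderOf w * orderOf b := hpd.trans (hab ▸ orderOf_mul_dvd_mul hwb)
    exact (hp.dvd_mul.1 h1).resolve_left fun h =>
      kappa_not_sigma hpκ (PiClasses69.isPi_piPart _ a p hp h)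
  have hbκ : ∀ r : ℕ, r.Prime → r ∣ orderOf b → r ∈ Cfsg.kappa M := by
    rcases elem_cases F hG hM hy hy1 hbM hyb (PiClasses69.isPiCompl_piComplPart _ a) with h | h
    · exact h
    · exact absurd (kappa_pRankLE_one hpκ) (h p hp hpb).2.2.2
  obtain ⟨m, hm, hle⟩ := exists_conj_le_isPiHallOf (minSimple_coatom_solvable hG hM)
    (zpowers_le.2 hbM) (fun r hr hd => hbκ r hr (by rwa [Nat.card_zpowers] at hd)) hK
  have hbK : m * b * m⁻¹ ∈ K := hle ⟨b, mem_zpowers b, rfl⟩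
  have hb1 : m * b * m⁻¹ ≠ 1 := fun e => by
    rw [conj_eq_one_iff.1 e, orderOf_one] at hpb
    exact hp.not_dvd_one hpb
  have hwS : m * w * m⁻¹ ∈ Cfsg.sigmaCore M ⊓ centralizer (K : Set G) := by
    rw [← d.semiprime _ hbK hb1]
    exact mem_inf.2 ⟨(mem_normalizer_iff.1 (le_normalizer_sigmaCore M hm) w).1 hwσ,
      mem_centralizer_singleton_iff.2 (hwb.map (MulAut.conj m).toMonoidHom).eq⟩
  have hw1 : m * w * m⁻¹ ≠ 1 := fun e => hnK ⟨m * b * m⁻¹, hbK, hb1, m⁻¹, inv_mem hm, by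
    rw [show a = b by rw [← hab, conj_eq_one_iff.1 e, one_mul]]; group⟩
  refine ⟨m⁻¹, inv_mem hm, (m * b * m⁻¹) * (m * w * m⁻¹), mul_mem_zhat hK hbK hwS hb1 hw1, ?_⟩
  rw [← hab, hwb.eq]
  group

/-- `A₀(M) \ A(M)` is a TI set. -/
theorem isTISubset_sigmaA0_diff (d : PTypeData M E K U) (hM : IsCoatom M) (hK1 : K ≠ ⊥)
    (hV : Cfsg.IsSigmaDecomposition M K V) :
    Cfsg.IsTISubset (Cfsg.sigmaA0 M K \ Cfsg.sigmaA M V) := by
  rw [← sigmaA0_diff_sigmaA F hG d hM hV]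
  intro g hg x hx hgx
  refine absurd ?_ hg
  obtain ⟨m, hm, z, hz, rfl⟩ := hx
  obtain ⟨n, hn, z', hz', e⟩ := hgx
  have h1 : n⁻¹ * g * m * z * (n⁻¹ * g * m)⁻¹ = z' := by
    calc n⁻¹ * g * m * z * (n⁻¹ * g * m)⁻¹ = n⁻¹ * (g * (m * z * m⁻¹) * g⁻¹) * n := by group
      _ = z' := by rw [e]; group
  have hgM : g ∈ M := by
    have h2 := sup_le hV.hall.1 (inf_le_left.trans (sigmaCore_le M))
      (zhat_ti F hG d hM hV.hall hK1 hz (h1 ▸ hz'))
    have : g = n * (n⁻¹ * g * m) * m⁻¹ := by group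
    rw [this]
    exact mul_mem (mul_mem hn h2) (inv_mem hm)
  rw [Subgroup.mem_set_normalizer_iff]
  intro a
  constructor
  · rintro ⟨c, hc, w, hw, rfl⟩
    exact ⟨g * c, mul_mem hgM hc, w, hw, by group⟩
  · rintro ⟨c, hc, w, hw, e⟩
    refine ⟨g⁻¹ * c, mul_mem (inv_mem hgM) hc, w, hw, ?_⟩
    calc a = g⁻¹ * (g * a * g⁻¹) * g := by group
      _ = g⁻¹ * c * w * (g⁻¹ * c)⁻¹ := by rw [e]; group

/-- The set normalizer of `Ẑ` is `Z`. -/
theorem normalizer_zhat (d : PTypeData M E K U) (hM : IsCoatom M)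
    (hK : Cfsg.IsPiHallOf (Cfsg.kappa M) K M) (hK1 : K ≠ ⊥) :
    normalizer (zhat K (Cfsg.sigmaCore M ⊓ centralizer (K : Set G))) =
      K ⊔ (Cfsg.sigmaCore M ⊓ centralizer (K : Set G)) := by
  obtain ⟨p, _, X, hX, hXc⟩ := exists_prime_subgroup hK1
  obtain ⟨k, hk, hk1⟩ := (bot_or_exists_ne_one K).resolve_left hK1
  obtain ⟨s, hs, hs1⟩ := (bot_or_exists_ne_one _).resolve_left (d.fixed_ne_bot F hG hK hX hXc)
  have hz := mul_mem_zhat hK hk hs hk1 hs1
  refine le_antisymm (fun g hg => zhat_ti F hG d hM hK hK1 hz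
    ((Subgroup.mem_set_normalizer_iff.1 hg _).1 hz)) fun g hg => ?_
  rw [Subgroup.mem_set_normalizer_iff]
  refine fun a => ⟨conj_mem_zhat_of_mem F hG d hK hK1 hg, fun h => ?_⟩
  have := conj_mem_zhat_of_mem F hG d hK hK1 (inv_mem hg) h
  simpa [mul_assoc] using this

end CfsgLib.OddOrder.BG14
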