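import Cfsg.Agent.OddOrder.BG13.Basic

/-!
# The facts of BG 12 and BG 13 used in BG 14

`BG13Facts G` collects, for a fixed group, `BG12Facts G` and the parts of S1415, S1417, S1418,
S1420, S1423, S1427 and S1428 which are used in section 14, in the forms of these statements with
Sylow and Hall subgroups given as subgroups of `G`.
-/

set_option autoImplicit false

namespace CfsgLib.OddOrder.BG14

open Cfsg Subgroup
open CfsgLib.OddOrder.BG13
open CfsgLib.ConjFunctor (IsSylowIn)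

/-- The results of BG 12 and BG 13 used in BG 14. -/
structure BG13Facts (G : Type*) [Group G] : Prop where
  bg12 : BG12Facts G
  /-- BG 12.1 (S1415). -/
  complStructure : ∀ M : Subgroup G, IsCoatom M → ∀ E : Subgroup G,
    Cfsg.IsComplIn E (Cfsg.sigmaCore M) M →
      (∀ E₁ : Subgroup G, Cfsg.IsPiHallOf (Cfsg.tau1 M) E₁ E → IsCyclic E₁) ∧
      ∀ E₃ : Subgroup G, Cfsg.IsPiHallOf (Cfsg.tau3 M) E₃ E →
        IsCyclic E₃ ∧ E₃ ≤ ⁅E, E⁆ ∧ E ≤ normalizer (E₃ : Set G)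
  /-- BG 12.5 (S1417). -/
  tauTwoPlane : ∀ M : Subgroup G, IsCoatom M → ∀ (p : ℕ) [Fact p.Prime], p ∈ Cfsg.tau2 M →
    ∀ A : Subgroup G, A ≤ M → Cfsg.IsElementaryAbelian p A → Nat.card A = p ^ 2 →
      (∀ P : Subgroup G, IsSylowIn p P M → IsMulCommutative P ∧
        (A ≤ P → ∀ x ∈ P, x ^ p = 1 ↔ x ∈ A)) ∧
      Cfsg.sigmaCore M ⊓ centralizer (A : Set G) = ⊥ ∧
      ∃ A₁ : Subgroup G, A₁ ≤ A ∧ Nat.card A₁ = p ∧
        Cfsg.sigmaCore M ⊓ centralizer (A₁ : Set G) = ⊥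
  /-- BG 12.6 (S1418). -/
  tauTwoLine : ∀ M : Subgroup G, IsCoatom M → ∀ E : Subgroup G,
    Cfsg.IsComplIn E (Cfsg.sigmaCore M) M → ∀ (p : ℕ) [Fact p.Prime], p ∈ Cfsg.tau2 M →
      ∀ A : Subgroup G, A ≤ E → Cfsg.IsElementaryAbelian p A → Nat.card A = p ^ 2 →
        (∀ X : Subgroup G, X ≤ E → Nat.card X = p → X ≤ A) ∧
        (centralizer (A : Set G) ≤ E ∧ ¬ normalizer (A : Set G) ≤ M) ∧
        ∀ X : Subgroup G, X ≤ A → Nat.card X = p →
          Cfsg.sigmaCore M ⊓ centralizer (X : Set G) ≠ ⊥ →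
            centralizer (X : Set G) ≤ M ∧
              ∀ L : Subgroup G, IsCoatom L → centralizer (X : Set G) ≤ L → L = M
  /-- BG 12.8 (S1420). -/
  complAbelian : ∀ M : Subgroup G, IsCoatom M → ∀ E : Subgroup G,
    Cfsg.IsComplIn E (Cfsg.sigmaCore M) M →
      (∀ N : Subgroup G, N ≤ M → Group.IsNilpotent N →
        (∀ p : ℕ, p.Prime → p ∣ Nat.card N → p ∉ Cfsg.sigma M) → IsMulCommutative N) ∧
      IsMulCommutative ↥⁅E, E⁆ ∧
      ∀ x ∈ M, x ≠ 1 → (∀ p : ℕ, p.Prime → p ∣ orderOf x → p ∈ Cfsg.tau2 M) →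
        x ∈ Cfsg.sigmaHat M →
          centralizer ({x} : Set G) ≤ M ∧
            ∀ L : Subgroup G, IsCoatom L → centralizer ({x} : Set G) ≤ L → L = M
  /-- BG 12.11 (S1423). -/
  sigmaOrderUnique : ∀ M : Subgroup G, IsCoatom M → ∀ (p : ℕ) [Fact p.Prime], p ∈ Cfsg.sigma M →
    ∀ X : Subgroup G, X ≤ M → Nat.card X = p →
      (p ∈ Cfsg.beta M ∨ X ≤ ⁅Cfsg.sigmaCore M, Cfsg.sigmaCore M⁆) →
        (∀ L : Subgroup G, IsCoatom L → centralizer (X : Set G) ≤ L → L = M) ∧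
          ∀ P : Subgroup G, IsSylowIn p P (Cfsg.sigmaCore M) → Cfsg.InUniqueMaximal P
  /-- BG 13 (S1427). -/
  cyclicPrimeAction : ∀ M : Subgroup G, IsCoatom M → ∀ E : Subgroup G,
    Cfsg.IsComplIn E (Cfsg.sigmaCore M) M → ∀ (p : ℕ) [Fact p.Prime],
      ∀ S : Subgroup G, IsSylowIn p S E → IsCyclic S → ∀ x ∈ S, x ≠ 1 →
        Cfsg.sigmaCore M ⊓ centralizer ({x} : Set G) =
          Cfsg.sigmaCore M ⊓ centralizer (S : Set G)
  /-- BG 13 (S1428). -/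
  tauOneFix : ∀ M : Subgroup G, IsCoatom M → ∀ E : Subgroup G,
    Cfsg.IsComplIn E (Cfsg.sigmaCore M) M → ∀ p : ℕ, p ∈ Cfsg.tau1 M →
      ∀ P : Subgroup G, P ≤ E → Nat.card P = p →
        ∀ R : Subgroup G, R ≤ E ⊓ centralizer (P : Set G) → (Nat.card R).Prime →
          Cfsg.sigmaCore M ⊓ centralizer (P : Set G) ≤
            Cfsg.sigmaCore M ⊓ centralizer (R : Set G)

end CfsgLib.OddOrder.BG14
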