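import Cfsg.Agent.OddOrder.BG14.CoverExclude
import Cfsg.Agent.OddOrder.BG15.FittingHall
import Cfsg.Agent.Coprime.Generation
import Cfsg.Agent.Coprime.PTimesQ
import Cfsg.Agent.OddOrder.BG15.Basic
import Cfsg.Agent.ThompsonFpf.Nilpotency
import Cfsg.Agent.OddOrder.BG8.Fitting

/-!
# BG 14/15 (S1376): a maximal subgroup covered by a subgroup of type P

If `N` covers `C(x)`, `x ∈ M_σ`, and `κ(N)` is not empty, then `κ(M)` and `τ₂(M)` are empty.
The results on `κ`-subgroups used here are collected in `KappaFacts`.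
-/

set_option autoImplicit false
set_option linter.style.haveILetI false
set_option linter.unusedSectionVars false

namespace CfsgLib.OddOrder.BG14

open Cfsg Subgroup
open CfsgLib.OddOrder
open CfsgLib.OddOrder.BG11
open CfsgLib.OddOrder.BG13
open CfsgLib.ConjFunctor (IsSylowIn exists_isSylowIn_ge)

/-- BG 14.2, 14.7 and 15.2, as far as they are used in S1376. -/
structure KappaFacts (G : Type*) [Group G] : Prop where
  kappaCyclic : ∀ M : Subgroup G, IsCoatom M → ∀ K : Subgroup G,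
    Cfsg.IsPiHallOf (Cfsg.kappa M) K M → IsCyclic K
  /-- BG 14.2 (S1430). -/
  normalizerLine : ∀ M : Subgroup G, IsCoatom M → ∀ K : Subgroup G,
    Cfsg.IsPiHallOf (Cfsg.kappa M) K M → K ≠ ⊥ → ∀ X : Subgroup G, X ≤ K → (Nat.card X).Prime →
      M ⊓ normalizer (X : Set G) = K ⊔ (Cfsg.sigmaCore M ⊓ centralizer (K : Set G))
  exists_decomp : ∀ M : Subgroup G, IsCoatom M → ∀ K : Subgroup G,
    Cfsg.IsPiHallOf (Cfsg.kappa M) K M → ∃ U : Subgroup G, Cfsg.IsSigmaDecomposition M K U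
  /-- BG 14.7 (S1366, S1369). -/
  star : ∀ M : Subgroup G, IsCoatom M → ∀ K U : Subgroup G,
    Cfsg.IsSigmaDecomposition M K U → K ≠ ⊥ →
      ∃ Mstar : Subgroup G, IsCoatom Mstar ∧
        K = Cfsg.sigmaCore Mstar ⊓
          centralizer ((Cfsg.sigmaCore M ⊓ centralizer (K : Set G)) : Set G) ∧
        Cfsg.IsPiHallOf (Cfsg.kappa Mstar) (Cfsg.sigmaCore M ⊓ centralizer (K : Set G)) Mstar ∧
        ∀ H : Subgroup G, IsCoatom H → (Cfsg.kappa H).Nonempty →
          ∃ g : G, H = M.map (MulAut.conj g).toMonoidHom ∨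
            H = Mstar.map (MulAut.conj g).toMonoidHom
  /-- BG 15 (S1372). -/
  typeTwo : ∀ M : Subgroup G, IsCoatom M → ∀ K U : Subgroup G,
    Cfsg.IsSigmaDecomposition M K U → K ≠ ⊥ → U ≠ ⊥ →
      Cfsg.IsTISubset (Cfsg.fittingOf M : Set G) ∧ Cfsg.sigmaCore M ≤ Cfsg.fittingOf M
  /-- BG 15.2 (S1437). -/
  coreNe : ∀ M : Subgroup G, IsCoatom M → ∀ K U : Subgroup G,
    Cfsg.IsSigmaDecomposition M K U → Cfsg.fittingHallOf M ≠ Cfsg.sigmaCore M →
      (Nat.card ↥(Cfsg.sigmaCore M ⊓ centralizer (K : Set G))).Prime ∧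
      Nat.card ↥(Cfsg.sigmaCore M ⊓ centralizer (K : Set G)) ∈ Cfsg.beta M ∧
      ∃ Q : Subgroup G, Q ≤ Cfsg.fittingHallOf M ∧ M ≤ normalizer (Q : Set G) ∧
        IsPGroup (Nat.card ↥(Cfsg.sigmaCore M ⊓ centralizer (K : Set G))) Q ∧
        ¬ Nat.card ↥(Cfsg.sigmaCore M ⊓ centralizer (K : Set G)) ∣
            Q.relIndex (Cfsg.sigmaCore M) ∧
        ∀ D : Subgroup G, Cfsg.IsComplIn Q D (Cfsg.sigmaCore M) →
          Group.IsNilpotent D ∧
          M ≤ normalizer ((Q ⊓ centralizer (D : Set G) : Subgroup G) : Set G) ∧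
          Q ⊓ centralizer (D : Set G) < Q

variable {G : Type*} [Group G] [Finite G] {p q t : ℕ} {M N H E : Subgroup G} {x : G}
variable {X A : Subgroup G}
variable (F : BG13Facts G) (hG : Cfsg.IsMinSimpleOddOrder G)
include F hG

/-- A `κ(N)`-subgroup of prime order of `M ∩ N` avoids `σ(M)`. -/
theorem Cover.kappa_not_sigmaM [Fact q.Prime] [Fact p.Prime] (h : Cover q M N x X A)
    (hp : p ∈ Cfsg.kappa N) {P : Subgroup G} (hP : Nat.card P = p) (hPMN : P ≤ M ⊓ N) :
    p ∉ Cfsg.sigma M := fun hs => by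
  obtain ⟨H, hH, hNH⟩ := minSimple_exists_coatom hG (minSimple_normalizer_ne_top hG
    (BG11.ne_bot_of_card_prime hP) (minSimple_ne_top_of_isPGroup hG (isPGroup_of_card_prime hP)))
  obtain ⟨g, hg⟩ := exists_conj_of_sigma F hG h.coatomM hH hs
    (kappa_sigma_normalizer F hG h.coatomN hp (hPMN.trans inf_le_right) hP hH hNH).1
  have hHM := eq_of_conj_of_normalizer_le F.bg12.bg10 hG h.coatomM hs (isPGroup_of_card_prime hP)
    (BG11.ne_bot_of_card_prime hP) (hPMN.trans inf_le_left) hNH hg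
  refine kappa_fixed hp (hPMN.trans inf_le_right) hP (le_bot_iff.1 ?_)
  rw [← h.compl.2.2.1]
  exact le_inf (le_inf ((inf_le_right.trans (centralizer_le_normalizer _)).trans (hHM ▸ hNH))
    (inf_le_left.trans (sigmaCore_le N))) inf_le_left

/-- A `p`-group with an abelian normalizer-closed part: if `C_S(B) < S` some `u ∈ S` normalizes the
plane `B` without centralizing it. -/
theorem exists_mover_of_not_centralizes [Fact t.Prime] (hM : IsCoatom M) (ht : t ∈ Cfsg.tau2 M)
    (hE : Cfsg.IsComplIn E (Cfsg.sigmaCore M) M) {B S : Subgroup G} (hBE : B ≤ E)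
    (hB : Cfsg.IsElementaryAbelian t B) (hBc : Nat.card B = t ^ 2) (hS : IsPGroup t S)
    (hBS : B ≤ S) (hnc : ¬ S ≤ centralizer (B : Set G)) :
    ∃ u ∈ S, u ∈ normalizer (B : Set G) ∧ u ∉ centralizer (B : Set G) := by
  set C := S ⊓ centralizer (B : Set G)
  have hBC : B ≤ C := le_inf hBS (le_centralizer_iff_isMulCommutative.2 hB.1)
  haveI := hS.isNilpotent
  have hlt : C.subgroupOf S < ⊤ := lt_top_iff_ne_top.2 fun e => hnc ((subgroupOf_eq_top.1 e).trans
    inf_le_right)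
  obtain ⟨⟨u, huS⟩, hu, huC⟩ := SetLike.exists_of_lt
    (Group.normalizerCondition_of_isNilpotent (C.subgroupOf S) hlt)
  refine ⟨u, huS, ConjFunctor.mem_normalizer_of_forall_conj_mem fun b hb => ?_,
    fun hc => huC (mem_subgroupOf.2 (mem_inf.2 ⟨huS, hc⟩))⟩
  have h1 : u * b * u⁻¹ ∈ C :=
    mem_subgroupOf.1 ((mem_normalizer_iff.1 hu ⟨b, hBS hb⟩).1 (mem_subgroupOf.2 (hBC hb)))
  by_cases hb1 : b = 1
  · rw [hb1, mul_one, mul_inv_cancel]; exact one_mem _
  have ho : Nat.card (zpowers (u * b * u⁻¹)) = t := by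
    rw [Nat.card_zpowers, show orderOf (u * b * u⁻¹) = orderOf b from
      orderOf_injective (MulAut.conj u).toMonoidHom (MulAut.conj u).injective b,
      orderOf_eq_prime (hB.2 b hb) hb1]
  exact (F.tauTwoLine M hM E hE t ht B hBE hB hBc).1 _
    (zpowers_le.2 ((F.tauTwoLine M hM E hE t ht B hBE hB hBc).2.1.1 h1.2)) ho (mem_zpowers _)

/-- A group of `t`-power order normalizing but not centralizing a plane forces, for a `τ₂`-prime
`t`, a line of the plane to centralize `M_σ`. -/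
theorem exists_line_centralizes [Fact t.Prime] (hM : IsCoatom M) (ht : t ∈ Cfsg.tau2 M)
    (hE : Cfsg.IsComplIn E (Cfsg.sigmaCore M) M) {B : Subgroup G} (hBE : B ≤ E)
    (hB : Cfsg.IsElementaryAbelian t B) (hBc : Nat.card B = t ^ 2) {u : G}
    (hu : u ∈ normalizer (B : Set G)) (huc : u ∉ centralizer (B : Set G))
    (hup : IsPGroup t (zpowers u)) :
    ∃ l : Subgroup G, l ≤ B ∧ Nat.card l = t ∧
      Cfsg.sigmaCore M ≤ centralizer (l : Set G) := by
  haveI := hB.1
  have hBp := isPGroup_of_isElementaryAbelian hB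
  have hBne : ¬ IsCyclic B := not_isCyclic_of_elementary hB hBc.ge
  have hBM : B ≤ M := hBE.trans hE.1
  -- elements of `M` of `t`-power order normalizing `B` centralize it
  have hin : ∀ v : G, v ∈ M → v ∈ zpowers u → v ∈ centralizer (B : Set G) := by
    intro v hvM hvu
    have hvn : zpowers v ≤ normalizer (B : Set G) := zpowers_le.2 ((zpowers_le.2 hu) hvu)
    obtain ⟨S, hle, hS⟩ := exists_isSylowIn_ge (sup_le (zpowers_le.2 hvM) hBM : zpowers v ⊔ B ≤ M)
      ((hup.to_le (zpowers_le.2 hvu)).to_sup_of_normal_right' hBp hvn)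
    haveI := ((F.tauTwoPlane M hM t ht B hBM hB hBc).1 S hS).1
    exact ((le_centralizer_iff_isMulCommutative.2 inferInstance).trans
      (Subgroup.centralizer_le (SetLike.coe_subset_coe.2 (le_sup_right.trans hle))))
      (hle (mem_sup_left (mem_zpowers v)))
  set U := zpowers u
  have hUn : U ≤ normalizer (B : Set G) := zpowers_le.2 hu
  obtain ⟨a, haB, ha⟩ : ∃ a ∈ B, u * a * u⁻¹ * a⁻¹ ≠ 1 := by
    by_contra hall
    push Not at hall
    refine huc (mem_centralizer_iff.2 fun a ha => ?_)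
    have := hall a ha
    rw [mul_inv_eq_one, mul_inv_eq_iff_eq_mul] at this
    exact this.symm
  set z := u * a * u⁻¹ * a⁻¹ with hz
  have hzB : z ∈ B := mul_mem ((mem_normalizer_iff.1 hu a).1 haB) (inv_mem haB)
  have hD : ⁅B, U⁆ ≤ B := Coprime.commutator_le_of_le_normalizer hUn
  have hDlt : ⁅B, U⁆ < B := Coprime.commutator_lt_of_isPGroup hBp hup hUn fun e => hBne (by
    rw [e]; infer_instance)
  set Z := ⁅B, U⁆ with hZdef
  have hzD : z ∈ Z := by
    have := commutator_mem_commutator haB (mem_zpowers u)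
    rw [commutatorElement_def] at this
    have h2 : z = (a * u * a⁻¹ * u⁻¹)⁻¹ := by rw [hz]; group
    exact h2 ▸ inv_mem this
  have hZ1 : Z ≠ ⊥ := fun e => ha (mem_bot.1 (e ▸ hzD))
  have hZc : Nat.card Z = t := card_eq_of_lt_of_ne_bot hBc hDlt hZ1
  have hZn : U ≤ normalizer (Z : Set G) :=
    le_sup_right.trans (Coprime.sup_le_normalizer_commutator B U)
  have hUZ : U ≤ centralizer (Z : Set G) := by
    by_contra hc
    obtain ⟨v, hv, hvc⟩ := SetLike.not_le_iff_exists.1 hc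
    haveI : IsCyclic Z := isCyclic_of_prime_card hZc
    let φ : U →* MulAut Z := (normalizerMonoidHom Z).comp (Subgroup.inclusion hZn)
    have h1 : orderOf (φ ⟨v, hv⟩) ∣ t - 1 := by
      have := orderOf_dvd_natCard (φ ⟨v, hv⟩)
      rwa [IsCyclic.card_mulAut, hZc, Nat.totient_prime Fact.out] at this
    obtain ⟨n, hn⟩ := IsPGroup.iff_orderOf.1 hup ⟨v, hv⟩
    have h2 : orderOf (φ ⟨v, hv⟩) ∣ t ^ n := hn ▸ orderOf_map_dvd φ _
    have hco : (t - 1).Coprime (t ^ n) := (((Fact.out : t.Prime).coprime_iff_not_dvd.2 fun hd => by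
      have h5 := Nat.le_of_dvd (Nat.sub_pos_of_lt (Fact.out : t.Prime).one_lt) hd
      have h6 := (Fact.out : t.Prime).two_le
      omega).symm).pow_right n
    have h3 : φ ⟨v, hv⟩ = 1 := orderOf_eq_one_iff.1
      (Nat.dvd_one.1 (hco ▸ Nat.dvd_gcd h1 h2))
    have h4 : Subgroup.inclusion hZn ⟨v, hv⟩ ∈ (normalizerMonoidHom Z).ker := h3
    rw [normalizerMonoidHom_ker, mem_subgroupOf] at h4
    exact hvc h4
  have huz : u * z = z * u := (mem_centralizer_iff.1 (hUZ (mem_zpowers u)) z hzD).symm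
  have haz : u * a * u⁻¹ = z * a := by rw [hz]; group
  have haZ : a ∉ Z := fun h => ha (by
    have := mem_centralizer_iff.1 (hUZ (mem_zpowers u)) a h
    rw [hz, ← this]; group)
  have ha1 : a ≠ 1 := fun e => haZ (e ▸ one_mem _)
  -- the conjugates of `a` under `u`
  have hpow : ∀ i : ℕ, u ^ i * a * (u ^ i)⁻¹ = z ^ i * a := by
    intro i
    induction i with
    | zero => simp
    | succ i ih =>
      have hc : Commute u (z ^ i) := (show Commute u z from huz).pow_right i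
      calc u ^ (i + 1) * a * (u ^ (i + 1))⁻¹ = u * (u ^ i * a * (u ^ i)⁻¹) * u⁻¹ := by
            rw [pow_succ']; group
        _ = u * (z ^ i) * a * u⁻¹ := by rw [ih]; group
        _ = z ^ i * (u * a * u⁻¹) := by rw [hc.eq]; group
        _ = _ := by rw [haz, pow_succ]; group
  -- elements of `B \ Z` are conjugate to powers of `a`
  have hsup : Z ⊔ zpowers a = B := by
    have hle : Z ⊔ zpowers a ≤ B := sup_le hD (zpowers_le.2 haB)
    by_contra hne
    have hc := card_eq_of_lt_of_ne_bot hBc (lt_of_le_of_ne hle hne)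
      (ne_bot_of_le_ne_bot hZ1 le_sup_left)
    exact haZ ((eq_of_le_of_card_ge le_sup_left (by rw [hc, hZc]) : Z = Z ⊔ zpowers a) ▸
      mem_sup_right (mem_zpowers a))
  have hzgen : zpowers z = Z := zpowers_eq_of_card hZc hzD ha
  have hrep : ∀ b ∈ B, b ∉ Z → ∃ v ∈ U, ∃ j : ℤ, b = v * a ^ j * v⁻¹ := by
    intro b hb hbZ
    obtain ⟨w, hw, c, hc, rfl⟩ := Coprime.exists_mul_of_mem_sup
      ((zpowers_le.2 haB).trans (le_sup_left.trans (Coprime.sup_le_normalizer_commutator B U)))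
      (hsup.symm ▸ hb : _ ∈ Z ⊔ zpowers a)
    obtain ⟨j, rfl⟩ := mem_zpowers_iff.1 hc
    replace hw : w ∈ zpowers z := hzgen.symm.le hw
    obtain ⟨i, rfl⟩ := mem_zpowers_iff.1 hw
    -- `a ^ j` generates `⟨a⟩`
    have hao : orderOf a = t := orderOf_eq_prime (hB.2 a haB) ha1
    have hzo : orderOf z = t := orderOf_eq_prime (hB.2 z hzB) ha
    have hj : ¬ (t : ℤ) ∣ j := fun hd => hbZ (by
      rw [show a ^ j = 1 from orderOf_dvd_iff_zpow_eq_one.1 (by rw [hao]; exact hd), mul_one]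
      exact hzgen ▸ zpow_mem (mem_zpowers z) i)
    obtain ⟨k, hk⟩ : ∃ k : ℕ, (k : ℤ) * j ≡ i [ZMOD t] := by
      haveI := Fact.mk (Fact.out : t.Prime)
      have hj' : (j : ZMod t) ≠ 0 := fun e => hj ((ZMod.intCast_zmod_eq_zero_iff_dvd j t).1 e)
      refine ⟨((i : ZMod t) / (j : ZMod t)).val, (ZMod.intCast_eq_intCast_iff _ _ t).1 ?_⟩
      push_cast
      rw [ZMod.natCast_zmod_val, div_mul_cancel₀ _ hj']
    refine ⟨u ^ k, pow_mem (mem_zpowers u) k, j, ?_⟩
    have hza : Commute z a := by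
      have := setLike_mul_comm (s := B) hzB haB
      exact this
    have h1 : u ^ k * a ^ j * (u ^ k)⁻¹ = (z ^ k * a) ^ j := by
      rw [← hpow k]
      exact (conj_zpow).symm
    rw [h1, (hza.pow_left k).mul_zpow, ← zpow_natCast z k, ← zpow_mul]
    congr 1
    rw [zpow_eq_zpow_iff_modEq, hzo]
    exact hk.symm
  -- a fixed point
  have hfix : ∃ b ∈ B, b ≠ 1 ∧ Cfsg.sigmaCore M ⊓ centralizer ({b} : Set G) ≠ ⊥ := by
    by_contra hall
    push Not at hall
    refine minSimple_sigmaCore_ne_bot hG hM (le_bot_iff.1 ?_)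
    exact Coprime.le_of_forall_inf_centralizer_le hBne (hBM.trans (le_normalizer_sigmaCore M))
      (coprime_of_isPiSubgroup_not (isPiSubgroup_sigmaCore M)
        fun r hr hd => complIn_not_sigma F hG hM hE hr (hd.trans (card_dvd_of_le hBE))).symm
      fun b hb hb1 => (hall b hb hb1).le
  -- two fixed elements in the same orbit generate the same line
  have huniqM : ∀ b ∈ B, b ≠ 1 → Cfsg.sigmaCore M ⊓ centralizer ({b} : Set G) ≠ ⊥ →
      ∀ v ∈ U, Cfsg.sigmaCore M ⊓ centralizer ({v * b * v⁻¹} : Set G) ≠ ⊥ →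
        v ∈ centralizer (B : Set G) := by
    intro b hb hb1 hbf v hv hvf
    have hbc : Nat.card (zpowers b) = t := by
      rw [Nat.card_zpowers, orderOf_eq_prime (hB.2 b hb) hb1]
    have hvb : v * b * v⁻¹ ∈ B := (mem_normalizer_iff.1 (hUn hv) b).1 hb
    obtain ⟨hC, -⟩ := tau2_line_unique F hG hM ht (zpowers_le.2 (hBM hb)) hbc
      (by rwa [centralizer_zpowers])
    obtain ⟨-, hu2⟩ := tau2_line_unique F hG hM ht (X := zpowers (v * b * v⁻¹))
      (zpowers_le.2 (hBM hvb)) (by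
        rw [Nat.card_zpowers, ← hbc, Nat.card_zpowers]
        exact orderOf_injective (MulAut.conj v).toMonoidHom (MulAut.conj v).injective b)
      (by rwa [centralizer_zpowers])
    have h1 := hu2 _ (isCoatom_map_conj hM v) (by
      rw [centralizer_zpowers, ← Set.image_singleton (f := fun y => v * y * v⁻¹),
        ← map_conj_centralizer]
      refine map_mono ?_
      rwa [centralizer_zpowers] at hC)
    refine hin v ?_ hv
    rw [← minSimple_normalizer_coatom hG hM]
    exact map_conj_eq_self_iff.1 h1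
  -- the elements of `Z` have no fixed points
  have hZfree : ∀ b ∈ Z, b ≠ 1 → Cfsg.sigmaCore M ⊓ centralizer ({b} : Set G) = ⊥ := by
    intro b hb hb1
    by_contra hbf
    refine huc (huniqM b (hD hb) hb1 hbf u (mem_zpowers u) ?_)
    rwa [show u * b * u⁻¹ = b by
      rw [(mem_centralizer_iff.1 (hUZ (mem_zpowers u)) b hb).symm, mul_inv_cancel_right]]
  obtain ⟨b₀, hb₀, hb₀1, hb₀f⟩ := hfix
  refine ⟨zpowers b₀, zpowers_le.2 hb₀, by
    rw [Nat.card_zpowers, orderOf_eq_prime (hB.2 b₀ hb₀) hb₀1], ?_⟩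
  rw [centralizer_zpowers]
  refine (le_of_eq ?_).trans (inf_le_right (a := Cfsg.sigmaCore M))
  refine le_antisymm (Coprime.le_of_forall_inf_centralizer_le hBne
    (hBM.trans (le_normalizer_sigmaCore M))
    (coprime_of_isPiSubgroup_not (isPiSubgroup_sigmaCore M)
      fun r hr hd => complIn_not_sigma F hG hM hE hr (hd.trans (card_dvd_of_le hBE))).symm
    fun b hb hb1 => ?_) inf_le_left
  by_cases hbf : Cfsg.sigmaCore M ⊓ centralizer ({b} : Set G) = ⊥
  · rw [hbf]; exact bot_le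
  refine le_inf inf_le_left (inf_le_right.trans ?_)
  -- `b₀` is a power of `b`
  obtain ⟨v, hv, j, rfl⟩ := hrep b₀ hb₀ fun hz' => hb₀f (hZfree b₀ hz' hb₀1)
  obtain ⟨w, hw, k, rfl⟩ := hrep b hb fun hz' => hbf (hZfree b hz' hb1)
  have hak : a ^ k ≠ 1 := fun e => hb1 (by rw [e]; group)
  have hao : orderOf a = t := orderOf_eq_prime (hB.2 a haB) ha1
  obtain ⟨m, hm⟩ : a ^ j ∈ zpowers (a ^ k) := by
    rw [zpowers_eq_of_card (X := zpowers a) (by rw [Nat.card_zpowers, hao])
      (zpow_mem (mem_zpowers a) k) hak]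
    exact zpow_mem (mem_zpowers a) j
  set c := v * w⁻¹ with hc
  have hcU : c ∈ U := mul_mem hv (inv_mem hw)
  have hm' : v * a ^ j * v⁻¹ = c * (w * a ^ k * w⁻¹) ^ m * c⁻¹ := by
    rw [← (hm : (a ^ k) ^ m = a ^ j), conj_zpow, hc]
    group
  have hsub : centralizer ({w * a ^ k * w⁻¹} : Set G) ≤
      centralizer ({(w * a ^ k * w⁻¹) ^ m} : Set G) :=
    centralizer_singleton_le_of_mem_zpowers (zpow_mem (mem_zpowers _) m)
  have hm1 : (w * a ^ k * w⁻¹) ^ m ≠ 1 := fun e => hb₀1 (by rw [hm', e]; group)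
  have hmf : Cfsg.sigmaCore M ⊓ centralizer ({(w * a ^ k * w⁻¹) ^ m} : Set G) ≠ ⊥ := fun e =>
    hbf (le_bot_iff.1 (e ▸ inf_le_inf_left _ hsub))
  have hcB := huniqM _ (zpow_mem hb m) hm1 hmf c hcU (by rwa [← hm'])
  refine hsub.trans ?_
  rw [hm', show c * (w * a ^ k * w⁻¹) ^ m * c⁻¹ = (w * a ^ k * w⁻¹) ^ m by
    rw [← mem_centralizer_iff.1 hcB _ (zpow_mem hb m), mul_inv_cancel_right]]

omit F hG in
/-- In a nilpotent group a subgroup of a Sylow subgroup centralized by the Sylow subgroup is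
centralized by the whole group. -/
theorem le_centralizer_of_nilpotent_sylow [Fact t.Prime] {D B S : Subgroup G}
    (hD : Group.IsNilpotent D) (hS : IsSylowIn t S D) (hBS : B ≤ S)
    (hSB : S ≤ centralizer (B : Set G)) : D ≤ centralizer (B : Set G) := by
  refine BG4.le_of_sylow_le fun r hr => ?_
  haveI := Fact.mk hr
  obtain ⟨R⟩ : Nonempty (Sylow r D) := inferInstance
  refine ⟨R, ?_⟩
  have hRS := BG11.isSylowIn_map_subtype R
  set R' := (R : Subgroup D).map D.subtype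
  have hall : ∀ {s : ℕ} [Fact s.Prime] {T : Subgroup G}, IsSylowIn s T D →
      D ≤ normalizer (T : Set G) := by
    intro s _ T hT
    refine le_normalizer_of_nilpotent_hall hD hT.le ?_
    obtain ⟨n, hn⟩ := IsPGroup.iff_card.1 hT.isPGroup
    rw [hn]
    exact ((Fact.out : s.Prime).coprime_iff_not_dvd.2 hT.not_dvd).pow_left n
  by_cases hrt : r = t
  · subst hrt
    obtain ⟨a, ha, hle⟩ := hS.exists_cj_le hRS.le hRS.isPGroup
    change R'.map (MulAut.conj a).toMonoidHom ≤ S at hle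
    have h1 := map_mono (f := (MulAut.conj a⁻¹).toMonoidHom) hle
    rw [map_conj_map_conj, inv_mul_cancel, map_conj_one,
      map_conj_eq_self_iff.2 ((hall hS) (inv_mem ha))] at h1
    exact h1.trans hSB
  refine le_trans (le_centralizer_of_coprime (hRS.le.trans (hall hS)) (hS.le.trans (hall hRS)) ?_)
    (Subgroup.centralizer_le hBS)
  obtain ⟨a, ha⟩ := IsPGroup.iff_card.1 hRS.isPGroup
  obtain ⟨b, hb⟩ := IsPGroup.iff_card.1 hS.isPGroup
  rw [ha, hb]
  exact ((Nat.coprime_primes hr Fact.out).2 hrt).pow _ _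

/-- BG 14/15 (S1376): if the covering subgroup `N` has non-empty `κ`, then `κ(M)` and `τ₂(M)` are
empty; some prime of `M` outside `σ(M)` exists. -/
theorem Cover.kappa_nonempty [Fact q.Prime] (h : Cover q M N x X A)
    (hx : x ∈ Cfsg.sigmaCore M) (KF : KappaFacts G) (hκN : (Cfsg.kappa N).Nonempty) :
    Cfsg.kappa M = ∅ ∧ Cfsg.tau2 M = ∅ ∧
      ∃ r : ℕ, r.Prime ∧ r ∣ Nat.card M ∧ r ∉ Cfsg.sigma M := by
  have hM := h.coatomM
  have hN := h.coatomN
  have hsolN : Group.IsSolvable N := minSimple_coatom_solvable hG hN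
  have hsolMN : Group.IsSolvable ↥(M ⊓ N) :=
    minSimple_solvable hG (ne_top_of_le_ne_top hN.1 inf_le_right)
  have hx1 : x ≠ 1 := fun e => by
    have hX := h.le_zpowers
    rw [e, zpowers_one_eq_bot, le_bot_iff] at hX
    exact BG11.ne_bot_of_card_prime h.card_X hX
  -- a Hall `κ(N)`-subgroup in `M ∩ N`
  obtain ⟨K, hK'⟩ := exists_isPiHallOf (Cfsg.kappa N) hsolMN
  have hK : Cfsg.IsPiHallOf (Cfsg.kappa N) K N := by
    refine ⟨hK'.1.trans inf_le_right, hK'.2.1, fun r hr hrk hd => ?_⟩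
    rw [← relIndex_mul_relIndex K (M ⊓ N) N hK'.1 inf_le_right] at hd
    rcases hr.dvd_mul.1 hd with hd | hd
    · exact hK'.2.2 r hr hrk hd
    · exact kappa_not_sigma hrk (isPiSubgroup_sigmaCore N r hr
        (hd.trans (complIn_relIndex F hG hN h.compl)))
  have hK1 : K ≠ ⊥ := fun e => by
    obtain ⟨r, hr⟩ := hκN
    refine hK.2.2 r hr.1 hr ?_
    rw [e, relIndex_bot_left]
    exact hr.2.1
  obtain ⟨UN, hKU⟩ := KF.exists_decomp N hN K hK
  obtain ⟨H, hH, hKeq, hSH, hclasses⟩ := KF.star N hN K UN hKU hK1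
  set S := Cfsg.sigmaCore N ⊓ centralizer (K : Set G) with hSdef
  have hKH : K ≤ Cfsg.sigmaCore H := hKeq.le.trans inf_le_left
  -- subgroups of prime order of `K`
  have hline : ∀ (r : ℕ) [Fact r.Prime] (P : Subgroup G), P ≤ K → Nat.card P = r →
      r ∈ Cfsg.kappa N ∧ r ∈ Cfsg.sigma H ∧ normalizer (P : Set G) ≤ H ∧
        r ∉ Cfsg.sigma M := by
    intro r _ P hPK hP
    have hrk : r ∈ Cfsg.kappa N := hK.2.1 r Fact.out (hP ▸ card_dvd_of_le hPK)
    have hrH : r ∈ Cfsg.sigma H :=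
      isPiSubgroup_sigmaCore H r Fact.out (hP ▸ card_dvd_of_le (hPK.trans hKH))
    obtain ⟨H₀, hH₀, hNH₀⟩ := minSimple_exists_coatom hG (minSimple_normalizer_ne_top hG
      (BG11.ne_bot_of_card_prime hP) (minSimple_ne_top_of_isPGroup hG (isPGroup_of_card_prime hP)))
    obtain ⟨g, hg⟩ := exists_conj_of_sigma F hG hH hH₀ hrH
      (kappa_sigma_normalizer F hG hN hrk (hPK.trans hK.1) hP hH₀ hNH₀).1
    have he := eq_of_conj_of_normalizer_le F.bg12.bg10 hG hH hrH (isPGroup_of_card_prime hP)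
      (BG11.ne_bot_of_card_prime hP) (hPK.trans (hKH.trans (sigmaCore_le H))) hNH₀ hg
    exact ⟨hrk, hrH, he ▸ hNH₀, Cover.kappa_not_sigmaM F hG h hrk hP (hPK.trans hK'.1)⟩
  obtain ⟨r, hr, hrK⟩ := Nat.exists_prime_and_dvd fun e => hK1 (Subgroup.card_eq_one.1 e)
  haveI := Fact.mk hr
  obtain ⟨P, hPK, hP⟩ : ∃ P : Subgroup G, P ≤ K ∧ Nat.card P = r := by
    obtain ⟨z, hz⟩ := exists_prime_orderOf_dvd_card' (G := K) r hrK
    exact ⟨zpowers (z : G), zpowers_le.2 z.2, by rw [Nat.card_zpowers, orderOf_coe, hz]⟩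
  obtain ⟨hrk, hrH, hNP, hrM⟩ := hline r P hPK hP
  have hPM : P ≤ M := hPK.trans (hK'.1.trans inf_le_left)
  have hκM : Cfsg.kappa M = ∅ := by
    refine Set.eq_empty_iff_forall_notMem.2 fun k hk => ?_
    obtain ⟨g, hg | hg⟩ := hclasses M hM ⟨k, hk⟩
    · refine h.not_conj g⁻¹ ?_
      rw [hg, map_conj_map_conj, inv_mul_cancel, map_conj_one]
    · exact hrM (by rw [hg, sigma_map_conj]; exact hrH)
  refine ⟨hκM, ?_, r, hr, hP ▸ card_dvd_of_le hPM, hrM⟩
  have hCP : centralizer (P : Set G) ≤ H := (centralizer_le_normalizer _).trans hNP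
  -- regularity
  have hreg : ∀ (s : ℕ) [Fact s.Prime] (Q : Subgroup G), Q ≤ K → Nat.card Q = s →
      Cfsg.sigmaCore M ⊓ centralizer (Q : Set G) = ⊥ := by
    intro s _ Q hQK hQ
    obtain ⟨-, hsH, hNQ, hsM⟩ := hline s Q hQK hQ
    by_contra hfix
    rcases kappa_or_tau2 F hG hM hsM (hQK.trans (hK'.1.trans inf_le_left)) hQ hfix with e | e
    · exact absurd e (hκM ▸ Set.notMem_empty s)
    · have he := (tau2_line_unique F hG hM e (hQK.trans (hK'.1.trans inf_le_left)) hQ hfix).2 H hH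
        ((centralizer_le_normalizer _).trans hNQ)
      exact hsM (he ▸ hsH)
  by_contra hne
  obtain ⟨t₀, ht₀⟩ := Set.nonempty_iff_ne_empty.2 hne
  -- a plane of `τ₂(M)` centralized by `P`
  obtain ⟨t, ht, E, B, hE, hPE, hBE, hB, hBc, hBP⟩ : ∃ t : ℕ, t ∈ Cfsg.tau2 M ∧ ∃ E B : Subgroup G,
      Cfsg.IsComplIn E (Cfsg.sigmaCore M) M ∧ P ≤ E ∧ B ≤ E ∧ Cfsg.IsElementaryAbelian t B ∧
        Nat.card B = t ^ 2 ∧ B ≤ centralizer (P : Set G) := by
    obtain ⟨E, hPE, hE⟩ := complIn_of_prime F hG hM hrM hPM hP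
    by_cases hr2 : r ∈ Cfsg.tau2 M
    · obtain ⟨B, hBE, hB, hBc⟩ := exists_plane_complIn F hG hM hr2 hE
      refine ⟨r, hr2, E, B, hE, hPE, hBE, hB, hBc, ?_⟩
      exact (le_centralizer_iff_isMulCommutative.2 hB.1).trans
        (Subgroup.centralizer_le ((F.tauTwoLine M hM E hE r hr2 B hBE hB hBc).1 P hPE hP))
    haveI := Fact.mk ht₀.1
    obtain ⟨B, hBE, hB, hBc⟩ := exists_plane_complIn F hG hM ht₀ hE
    refine ⟨t₀, ht₀, E, B, hE, hPE, hBE, hB, hBc, ?_⟩
    by_contra hnc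
    haveI := hB.1
    have hBp := isPGroup_of_isElementaryAbelian hB
    have hB1 : B ≠ ⊥ := fun e => hnc (e ▸ bot_le)
    obtain ⟨L, hL, hNL⟩ := minSimple_exists_coatom hG (minSimple_normalizer_ne_top hG hB1
      (minSimple_ne_top_of_isPGroup hG hBp))
    obtain ⟨htL, -, -, hEL, hBL⟩ := plane_sigma F hG hM hE ht₀ hBE hB hBc hL hNL
    have hn : P ≤ normalizer (B : Set G) :=
      hPE.trans (F.bg12.tauTwoCompl M hM E hE t₀ ht₀ B hBE hB hBc).1
    have hcop : (Nat.card P).Coprime (Nat.card B) := by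
      rw [hP, hBc]
      exact ((Nat.coprime_primes hr ht₀.1).2 fun e : r = t₀ => hr2 (e ▸ ht₀)).pow_right 2
    have hinf := Coprime.inf_centralizer_inf_commutator_eq_bot hn hcop
    have hsup := Coprime.inf_centralizer_sup_commutator_eq hn hcop
    set C := B ⊓ centralizer (P : Set G) with hC
    have hDB : ⁅B, P⁆ ≤ B := Coprime.commutator_le_of_le_normalizer hn
    set D := ⁅B, P⁆ with hD
    have hPn : P ≤ normalizer (D : Set G) :=
      le_sup_right.trans (Coprime.sup_le_normalizer_commutator B P)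
    have hDPE : D ⊔ P ≤ E := sup_le (hDB.trans hBE) hPE
    have hDc : Cfsg.sigmaCore M ≤ centralizer (D : Set G) := by
      have hw := frobenius_fixed_point_formula (U := D) (E := P) (H := Cfsg.sigmaCore M)
        (le_bot_iff.1 ((inf_le_inf_right _ hDB).trans
          (Coprime.inf_eq_bot_of_coprime hcop.symm).le)) hPn
        (fun e he he1 v hv hev => by
          have h1 : v ∈ C ⊓ D := mem_inf.2 ⟨mem_inf.2 ⟨hDB hv, by
            rw [centralizer_eq_singleton_of_card hP he he1, mem_centralizer_singleton_iff]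
            exact hev.symm⟩, hv⟩
          rw [hinf, mem_bot] at h1
          exact h1)
        ((hDPE.trans hE.1).trans (le_normalizer_sigmaCore M))
        (minSimple_solvable hG (ne_top_of_le_ne_top hM.1 (sigmaCore_le M)))
        (coprime_of_isPiSubgroup_not (isPiSubgroup_sigmaCore M)
          fun u hu hd => complIn_not_sigma F hG hM hE hu (hd.trans (card_dvd_of_le hDPE))).symm
      rw [le_bot_iff.1 ((inf_le_inf_left _ (Subgroup.centralizer_le
        (SetLike.coe_subset_coe.2 (le_sup_right : P ≤ D ⊔ P)))).trans (hreg r P hPK hP).le),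
        hreg r P hPK hP, card_bot, one_pow, one_mul, one_mul] at hw
      exact inf_eq_left.1 (eq_of_le_of_card_ge inf_le_left hw.le)
    have hC1 : C ≠ ⊥ := fun e => by
      rw [e, bot_sup_eq] at hsup
      rw [hsup] at hDc
      have h1 := (F.tauTwoPlane M hM t₀ ht₀ B (hBE.trans hE.1) hB hBc).2.1
      rw [inf_eq_left.2 hDc] at h1
      exact hx1 (mem_bot.1 (h1 ▸ hx))
    have hD1 : D ≠ ⊥ := fun e => by
      rw [e, sup_bot_eq] at hsup
      exact hnc (hsup.ge.trans inf_le_right)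
    obtain ⟨R, hRC, hR⟩ := exists_card_prime_le (hBp.to_le inf_le_left) hC1
    have hPL : P ≤ L := hPE.trans hEL
    have hfixL : Cfsg.sigmaCore L ⊓ centralizer (P : Set G) ≠ ⊥ := fun e =>
      BG11.ne_bot_of_card_prime hR (le_bot_iff.1
        (e ▸ le_inf ((hRC.trans inf_le_left).trans hBL) (hRC.trans inf_le_right)))
    have hrL : r ∈ Cfsg.sigma L := by
      by_contra hrL
      rcases kappa_or_tau2 F hG hL hrL hPL hP hfixL with e | e
      · obtain ⟨g, hg | hg⟩ := hclasses L hL ⟨r, e⟩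
        · exact hne ((Cover.kappa_tau2_empty F hG h hx (p := t₀)
            (by rw [hg, sigma_map_conj] at htL; exact htL)
            (dvd_card_of_card_le ((hRC.trans inf_le_left).trans (hBE.trans hE.1)) hR)).2)
        · exact hrL (by rw [hg, sigma_map_conj]; exact hrH)
      · exact hrL ((tau2_line_unique F hG hL e hPL hP hfixL).2 H hH hCP ▸ hrH)
    obtain ⟨R', hR'D, hR'⟩ := exists_card_prime_le (hBp.to_le hDB) hD1
    have hfixM : Cfsg.sigmaCore M ⊓ centralizer (R' : Set G) ≠ ⊥ := fun e => by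
      rw [inf_eq_left.2 (hDc.trans (Subgroup.centralizer_le hR'D))] at e
      exact hx1 (mem_bot.1 (e ▸ hx))
    have hR'd : R' ≤ ⁅Cfsg.sigmaCore L, Cfsg.sigmaCore L⁆ :=
      hR'D.trans (commutator_mono hBL
        (pGroup_le_sigmaCore F.bg12.bg10 hL hrL hPL (isPGroup_of_card_prime hP)))
    have hML := (F.sigmaOrderUnique L hL t₀ htL R' ((hR'D.trans hDB).trans (hBE.trans hEL)) hR'
      (Or.inr hR'd)).1 M hM
      (tau2_line_unique F hG hM ht₀ ((hR'D.trans hDB).trans (hBE.trans hE.1)) hR' hfixM).1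
    exact ht₀.2.1 (hML ▸ htL)
  haveI := Fact.mk ht.1
  haveI := hB.1
  have hBp := isPGroup_of_isElementaryAbelian hB
  have hBM : B ≤ M := hBE.trans hE.1
  have hBnc : ¬ IsCyclic B := not_isCyclic_of_elementary hB hBc.ge
  have hBH : B ≤ H := hBP.trans hCP
  have htH : t ∈ Cfsg.sigma H := by
    by_contra hs
    have h1 := (F.tauTwoPlane H hH t (tau2_of_plane F hG hH hs hBH hB hBc) B hBH hB hBc).2.1
    exact BG11.ne_bot_of_card_prime hP (le_bot_iff.1
      (h1 ▸ le_inf (hPK.trans hKH) (le_centralizer_iff.1 hBP)))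
  obtain ⟨-, hHM, hbot, hEH, hBHs⟩ := plane_sigma F hG hM hE ht hBE hB hBc hH
    (F.bg12.sigmaNoncyclic H hH t B htH hBp hBH hBnc)
  -- no line of `B` centralizes `M_σ`
  have hnoline : ∀ l : Subgroup G, l ≤ B → Nat.card l = t →
      ¬ Cfsg.sigmaCore M ≤ centralizer (l : Set G) := by
    intro l hlB hl hlc
    have hlN : l ≤ M ⊓ N := le_inf (hlB.trans hBM) fun a ha => Cover.centralizer_le F hG h
      (mem_centralizer_singleton_iff.2 (mem_centralizer_iff.1 (hlc hx) a ha))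
    have htdM : t ∣ Nat.card M := dvd_card_of_card_le (hlB.trans hBM) hl
    by_cases htN : t ∈ Cfsg.sigma N
    · exact hne (Cover.kappa_tau2_empty F hG h hx (p := t) htN htdM).2
    have hlKS : l ≤ K ⊔ S := by
      rw [← KF.normalizerLine N hN K hK hK1 P hPK (hP ▸ hr)]
      exact le_inf (hlN.trans inf_le_right)
        ((hlB.trans hBP).trans (centralizer_le_normalizer _))
    have htK : t ∣ Nat.card K := by
      have h1 := (dvd_card_of_card_le hlKS hl).trans (BG13.card_sup_dvd_mul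
        ((inf_le_right : S ≤ centralizer (K : Set G)).trans (centralizer_le_normalizer _)))
      exact ((Fact.out : t.Prime).dvd_mul.1 h1).resolve_right fun hd =>
        htN (isPiSubgroup_sigmaCore N t Fact.out (hd.trans (card_dvd_of_le inf_le_left)))
    have htk : t ∈ Cfsg.kappa N := hK.2.1 t Fact.out htK
    obtain ⟨m, hm, hmK⟩ := exists_conj_le_isPiHallOf hsolMN hlN
      (isPiSubgroup_of_card_prime hl htk) hK'
    refine minSimple_sigmaCore_ne_bot hG hM (le_bot_iff.1 ?_)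
    rw [← hreg t _ hmK (by rw [card_map_conj, hl])]
    refine le_inf le_rfl ?_
    have h1 := map_mono (f := (MulAut.conj m).toMonoidHom) hlc
    rwa [map_conj_eq_self_iff.2 (le_normalizer_sigmaCore M hm.1), map_conj_centralizer,
      show (fun y => m * y * m⁻¹) '' (l : Set G) =
        ((l.map (MulAut.conj m).toMonoidHom : Subgroup G) : Set G) from
        (Subgroup.coe_map (MulAut.conj m).toMonoidHom l).symm] at h1
  -- an element of `B` with fixed points
  obtain ⟨b, hbB, hb1, hbf⟩ : ∃ b ∈ B, b ≠ 1 ∧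
      Cfsg.sigmaCore M ⊓ centralizer ({b} : Set G) ≠ ⊥ := by
    by_contra hall
    push Not at hall
    refine minSimple_sigmaCore_ne_bot hG hM (le_bot_iff.1 ?_)
    exact Coprime.le_of_forall_inf_centralizer_le hBnc (hBM.trans (le_normalizer_sigmaCore M))
      (coprime_of_isPiSubgroup_not (isPiSubgroup_sigmaCore M)
        fun u hu hd => complIn_not_sigma F hG hM hE hu (hd.trans (card_dvd_of_le hBE))).symm
      fun b hb hb1 => (hall b hb hb1).le
  have hbH : ¬ centralizer ({b} : Set G) ≤ H := fun hle => hHM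
    ((tau2_line_unique F hG hM ht (X := zpowers b) (zpowers_le.2 (hBM hbB))
      (by rw [Nat.card_zpowers, orderOf_eq_prime (hB.2 b hbB) hb1])
      (by rwa [centralizer_zpowers])).2 H hH (by rwa [centralizer_zpowers]))
  -- the structure of `H`
  obtain ⟨U, hU⟩ := KF.exists_decomp H hH S hSH
  have hS1 : S ≠ ⊥ := fun e => by
    refine kappa_fixed hrk (hPK.trans hK.1) hP (le_bot_iff.1 ?_)
    have h1 : Cfsg.sigmaCore N ⊓ centralizer (P : Set G) ≤ K := by
      refine (le_inf (inf_le_left.trans (sigmaCore_le N)) (inf_le_right.trans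
        (centralizer_le_normalizer _))).trans ?_
      rw [KF.normalizerLine N hN K hK hK1 P hPK (hP ▸ hr), ← hSdef, e, sup_bot_eq]
    have h2 : K ⊓ Cfsg.sigmaCore N = ⊥ := Coprime.inf_eq_bot_of_coprime
      (Nat.coprime_of_dvd fun u hu h3 h4 => kappa_not_sigma (hK.2.1 u hu h3)
        (isPiSubgroup_sigmaCore N u hu h4))
    rw [← h2]
    exact le_inf h1 inf_le_left
  have hU1 : U = ⊥ := by
    by_contra hU1
    obtain ⟨hTI, hle⟩ := KF.typeTwo H hH S U hU hS1 hU1
    obtain ⟨c, hc, hcH⟩ := SetLike.not_le_iff_exists.1 hbH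
    have hbF : b ∈ Cfsg.fittingOf H := hle (hBHs hbB)
    have hFn : normalizer (Cfsg.fittingOf H : Set G) = H :=
      minSimple_normalizer_eq_coatom_of_le hG hH (fun e => hb1 (mem_bot.1 (e ▸ hbF)))
        (fittingOf_le H) (le_normalizer_fittingOf H)
    refine hb1 (hTI c (fun hcn => hcH (hFn ▸ hcn)) b hbF ?_)
    rw [mem_centralizer_singleton_iff.1 hc, mul_inv_cancel_right]
    exact hbF
  have hHeq : H = Cfsg.sigmaCore H ⊔ S := by
    refine le_antisymm (fun y hy => ?_) (sup_le (sigmaCore_le H) hSH.1)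
    obtain ⟨u, hu, w, hw, rfl⟩ := hU.compl.2.2.2 y hy
    rw [hU1, mem_bot] at hu
    rw [hu, one_mul, sup_comm]
    exact hw
  have hSn : S ≤ normalizer (Cfsg.sigmaCore H : Set G) :=
    hSH.1.trans (le_normalizer_sigmaCore H)
  have hScop : (Nat.card S).Coprime (Nat.card (Cfsg.sigmaCore H)) :=
    Nat.coprime_of_dvd fun u hu h3 h4 => kappa_not_sigma (hSH.2.1 u hu h3)
      (isPiSubgroup_sigmaCore H u hu h4)
  have hPC : P ≤ Cfsg.sigmaCore H ⊓ centralizer (S : Set G) := hPK.trans hKeq.le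
  haveI hScyc : IsCyclic S := KF.kappaCyclic H hH S hSH
  have hCBE : centralizer (B : Set G) ≤ E := (F.tauTwoLine M hM E hE t ht B hBE hB hBc).2.1.1
  -- a Sylow `t`-subgroup of `H` over `B`
  obtain ⟨T, hBT, hT⟩ := exists_isSylowIn_ge hBH hBp
  have hTs : T ≤ Cfsg.sigmaCore H :=
    pGroup_le_sigmaCore F.bg12.bg10 hH htH hT.le hT.isPGroup
  have hTB : T ≤ centralizer (B : Set G) := by
    by_contra hTB
    obtain ⟨u, huT, hun, huc⟩ :=
      exists_mover_of_not_centralizes F hG hM ht hE hBE hB hBc hT.isPGroup hBT hTB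
    obtain ⟨l, hlB, hl, hlc⟩ := exists_line_centralizes F hG hM ht hE hBE hB hBc hun huc
      (hT.isPGroup.to_le (zpowers_le.2 huT))
    exact hnoline l hlB hl hlc
  by_cases hnil : Cfsg.fittingHallOf H = Cfsg.sigmaCore H
  · have hnil' : Group.IsNilpotent (Cfsg.sigmaCore H) :=
      hnil ▸ isNilpotent_fittingHallOf H
    have hHM' : Cfsg.sigmaCore H ≤ E := (le_centralizer_of_nilpotent_sylow hnil'
      ⟨hTs, hT.isPGroup, fun hd => hT.not_dvd (hd.trans
        ⟨(Cfsg.sigmaCore H).relIndex H, (relIndex_mul_relIndex T _ H hTs (sigmaCore_le H)).symm⟩)⟩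
      hBT hTB).trans hCBE
    haveI hab : IsMulCommutative (Cfsg.sigmaCore H) := (F.complAbelian M hM E hE).1 _
      (hHM'.trans hE.1) hnil' fun u hu hd =>
        complIn_not_sigma F hG hM hE hu (hd.trans (card_dvd_of_le hHM'))
    have hinf := Coprime.inf_centralizer_inf_commutator_eq_bot hSn hScop
    have hsup := Coprime.inf_centralizer_sup_commutator_eq hSn hScop
    set W := ⁅Cfsg.sigmaCore H, S⁆ with hW
    set C := Cfsg.sigmaCore H ⊓ centralizer (S : Set G) with hC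
    have hder : ⁅H, H⁆ ≤ W := by
      have h1 := BG13.commutator_le_sup_commutator (K := W) (L := C ⊔ S) (H := H)
        (hHeq.le.trans (Coprime.sup_le_normalizer_commutator _ _)) (by
          rw [← sup_assoc, sup_comm W, hsup]; exact hHeq)
      have hCC : C ≤ centralizer (C : Set G) :=
        inf_le_left.trans ((le_centralizer_iff_isMulCommutative.2 hab).trans
          (Subgroup.centralizer_le (SetLike.coe_subset_coe.2 inf_le_left)))
      have hSS : S ≤ centralizer (S : Set G) :=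
        le_centralizer_iff_isMulCommutative.2 inferInstance
      have hL : (C ⊔ S) ≤ centralizer ((C ⊔ S : Subgroup G) : Set G) :=
        le_centralizer_iff.1 (sup_le (le_centralizer_iff.1 (sup_le hCC
          (le_centralizer_iff.1 inf_le_right))) (le_centralizer_iff.1 (sup_le inf_le_right hSS)))
      rwa [commutator_eq_bot_iff_le_centralizer.2 hL, sup_bot_eq] at h1
    refine BG11.ne_bot_of_card_prime hP (le_bot_iff.1 ?_)
    rw [← hinf]
    exact le_inf hPC ((hPC.trans inf_le_left).trans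
      ((BG11.sigmaCore_le_derived F.bg12.bg10 hG hH).trans hder))
  obtain ⟨hp0, hβ, Q, hQF, hQn, hQp, hQd, hQD⟩ := KF.coreNe H hH S U hU hnil
  set C := Cfsg.sigmaCore H ⊓ centralizer (S : Set G) with hC
  have hr0 : Nat.card C = r :=
    ((Nat.prime_dvd_prime_iff_eq hr hp0).1 (hP ▸ card_dvd_of_le hPC)).symm
  rw [hr0] at hβ hQp hQd
  have hr2 : r ∉ Cfsg.tau2 M := fun e => tau2_not_beta F hG hM e H hβ
  have htr : t ≠ r := fun e => hr2 (e ▸ ht)
  have hr1 : r ∈ Cfsg.tau1 M := by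
    rcases tau_cases F hG hM hr (hP ▸ card_dvd_of_le hPM) hrM with e | e | e
    · exact e
    · exact absurd e hr2
    · exact absurd e (Cover.tau3_empty F hG h ▸ Set.notMem_empty r)
  have hQs : Q ≤ Cfsg.sigmaCore H := hQF.trans (fittingHallOf_le_sigmaCore hG hH)
  have hQns : Cfsg.sigmaCore H ≤ normalizer (Q : Set G) := (sigmaCore_le H).trans hQn
  obtain ⟨n, hn⟩ := IsPGroup.iff_card.1 hQp
  have hQhall : Cfsg.IsPiHallOf ({r} : Set ℕ) Q (Cfsg.sigmaCore H) :=
    ⟨hQs, isPiSubgroup_of_isPGroup hQp rfl, fun u _ hur hd => hQd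
      (Set.mem_singleton_iff.1 hur ▸ hd)⟩
  have hPQ : P ≤ Q := le_of_normal_hall hQs hQns
    (coprime_relIndex_of_isPiHallOf hQhall) (hPC.trans inf_le_left) fun u hu hd => by
      rw [hP, Nat.prime_dvd_prime_iff_eq hu hr] at hd
      subst hd
      by_contra h3
      refine hQd ?_
      have h4 := (card_mul_relIndex hQs).symm ▸
        (hP ▸ card_dvd_of_le (hPC.trans inf_le_left) : u ∣ Nat.card (Cfsg.sigmaCore H))
      exact (hu.dvd_mul.1 h4).resolve_left h3
  have hsolHs : Group.IsSolvable (Cfsg.sigmaCore H) :=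
    minSimple_solvable hG (ne_top_of_le_ne_top hH.1 (sigmaCore_le H))
  obtain ⟨D, hD, hTD⟩ := exists_isPiHallOf_ge (π := {u | u ≠ r}) hsolHs hTs
    (isPiSubgroup_of_isPGroup hT.isPGroup htr)
  have hDcompl : Cfsg.IsComplIn Q D (Cfsg.sigmaCore H) := by
    obtain ⟨h1, h2, h3, h4⟩ := isComplIn_of_isPiHallOf hQns hQhall hD
      fun u _ => ⟨fun e h => e (Set.mem_singleton_iff.1 h), fun e h => e (Set.mem_singleton_iff.2 h)⟩
    refine ⟨h2, h1, inf_comm D Q ▸ h3, fun m hm => ?_⟩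
    obtain ⟨a, ha, c, hc, e⟩ := h4 m⁻¹ (inv_mem hm)
    exact ⟨c⁻¹, inv_mem hc, a⁻¹, inv_mem ha, by rw [← mul_inv_rev, ← e, inv_inv]⟩
  obtain ⟨hDnil, hQ0n, -⟩ := hQD D hDcompl
  have hTD' : IsSylowIn t T D := ⟨hTD, hT.isPGroup, fun hd => hT.not_dvd (hd.trans
    ⟨D.relIndex H, (relIndex_mul_relIndex T D H hTD (hD.1.trans (sigmaCore_le H))).symm⟩)⟩
  have hDE : D ≤ E := (le_centralizer_of_nilpotent_sylow hDnil hTD' hBT hTB).trans hCBE
  have hPD : P ≤ centralizer (D : Set G) := by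
    intro y hy
    refine mem_centralizer_iff.2 fun d hd => ?_
    have h1 : d * y * d⁻¹ * y⁻¹ ∈ Q :=
      mul_mem ((mem_normalizer_iff.1 (hQns (hD.1 hd)) y).1 (hPQ hy)) (inv_mem (hPQ hy))
    have h2 : d * y * d⁻¹ * y⁻¹ ∈ ⁅M, M⁆ := by
      have := commutator_mem_commutator (hE.1 (hDE hd)) (hPM hy)
      rwa [commutatorElement_def] at this
    have h3 : Q ⊓ ⁅M, M⁆ = ⊥ := Coprime.inf_eq_bot_of_coprime (by
      rw [hn]
      exact ((hr.coprime_iff_not_dvd).2 hr1.2.2.2.1).pow_left n)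
    have h4 : d * y * d⁻¹ * y⁻¹ = 1 := mem_bot.1 (h3 ▸ mem_inf.2 ⟨h1, h2⟩)
    calc d * y = d * y * d⁻¹ * y⁻¹ * (y * d) := by group
      _ = y * d := by rw [h4, one_mul]
  -- an `S`-invariant conjugate of `D`
  obtain ⟨g, hg, hSD⟩ := Coprime.exists_invariant_conj hSn hScop (Or.inr hsolHs) D fun a ha => by
    have hDa : Cfsg.IsPiHallOf {u | u ≠ r} (D.map (MulAut.conj a).toMonoidHom)
        (Cfsg.sigmaCore H) := by
      have := isPiHallOf_map_conj hD a
      rwa [map_conj_eq_self_iff.2 (hSn ha)] at this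
    obtain ⟨m, hm, hle⟩ := exists_conj_le_isPiHallOf hsolHs hD.1 hD.2.1 hDa
    exact ⟨m, hm, (eq_of_le_of_card_ge hle (by rw [card_map_conj, card_map_conj])).symm⟩
  set D' := D.map (MulAut.conj g).toMonoidHom with hD'
  change S ≤ normalizer (D' : Set G) at hSD
  have hgs : (Cfsg.sigmaCore H).map (MulAut.conj g).toMonoidHom = Cfsg.sigmaCore H :=
    map_conj_eq_self_of_mem hg
  have hgQ : Q.map (MulAut.conj g).toMonoidHom = Q := map_conj_eq_self_iff.2 (hQns hg)
  have hD's : D' ≤ Cfsg.sigmaCore H := hgs ▸ map_mono hD.1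
  have hD'compl : Cfsg.IsComplIn Q D' (Cfsg.sigmaCore H) := by
    refine ⟨hQs, hD's, ?_, fun m hm => ?_⟩
    · rw [← hgQ, hD', ← map_inf _ _ _ (MulAut.conj g).injective, hDcompl.2.2.1, Subgroup.map_bot]
    · rw [← hgs] at hm
      obtain ⟨m', hm', rfl⟩ := hm
      obtain ⟨a, ha, c, hc, rfl⟩ := hDcompl.2.2.2 m' hm'
      exact ⟨_, hgQ ▸ mem_map_of_mem _ ha, _, mem_map_of_mem _ hc, map_mul _ _ _⟩
  have hPD' : P ≤ centralizer (D' : Set G) := by
    have h1 : P.map (MulAut.conj g⁻¹).toMonoidHom ≤ centralizer (D : Set G) := by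
      refine le_trans ?_ (inf_le_right (a := Q))
      rw [← map_conj_eq_self_iff.2 (hQ0n (inv_mem (sigmaCore_le H hg)))]
      exact map_mono (le_inf hPQ hPD)
    have h2 := map_mono (f := (MulAut.conj g).toMonoidHom) h1
    rw [map_conj_map_conj, mul_inv_cancel, map_conj_one, map_conj_centralizer] at h2
    rwa [show (fun y => g * y * g⁻¹) '' (D : Set G) =
        ((D.map (MulAut.conj g).toMonoidHom : Subgroup G) : Set G) from
        (Subgroup.coe_map (MulAut.conj g).toMonoidHom D).symm] at h2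
  have hfpf : ∀ e ∈ S, e ≠ 1 → ∀ d ∈ D', e * d = d * e → d = 1 := by
    intro e he he1 d hd hed
    obtain ⟨u, hu, hud⟩ := Nat.exists_prime_and_dvd (mt orderOf_eq_one_iff.1 he1)
    haveI := Fact.mk hu
    obtain ⟨Z, hZe, hZ⟩ := exists_card_prime_le_zpowers hud
    have hdSC : d ∈ S ⊔ C := by
      rw [hC, ← KF.normalizerLine H hH S hSH hS1 Z (hZe.trans (zpowers_le.2 he)) (hZ ▸ hu)]
      exact mem_inf.2 ⟨sigmaCore_le H (hD's hd), centralizer_le_normalizer _
        (centralizer_singleton_le_of_le_zpowers hZe (mem_centralizer_singleton_iff.2 hed.symm))⟩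
    by_contra hd1
    obtain ⟨w, hw, hwd⟩ := Nat.exists_prime_and_dvd (mt orderOf_eq_one_iff.1 hd1)
    have hwH : w ∈ Cfsg.sigma H := prime_dvd_orderOf_mem_sigma (hD's hd) hw hwd
    have h1 := (hwd.trans ((S ⊔ C).orderOf_dvd_natCard hdSC)).trans (BG13.card_sup_dvd_mul
      ((inf_le_right : C ≤ centralizer (S : Set G)).trans (centralizer_le_normalizer _)))
    rcases hw.dvd_mul.1 h1 with h2 | h2
    · exact kappa_not_sigma (hSH.2.1 w hw h2) hwH
    · rw [hr0, Nat.prime_dvd_prime_iff_eq hw hr] at h2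
      refine hD.2.1 w hw ?_ h2
      have := hwd.trans (D'.orderOf_dvd_natCard hd)
      rwa [hD', card_map_conj] at this
  have hPQC : ∀ Y : Subgroup G, S ≤ Y → P ≤ centralizer (Y : Set G) →
      Nat.card ↥(Q ⊓ centralizer (Y : Set G)) = r := fun Y hSY hPY => by
    refine Nat.dvd_antisymm ?_ (hP ▸ card_dvd_of_le (le_inf hPQ hPY))
    rw [← hr0]
    exact card_dvd_of_le (le_inf (inf_le_left.trans hQs)
      (inf_le_right.trans (Subgroup.centralizer_le hSY)))
  haveI := hQp.isNilpotent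
  have hw := frobenius_fixed_point_formula (U := D') (E := S) (H := Q)
    (le_bot_iff.1 ((inf_le_inf_right S hD's).trans
      (Coprime.inf_eq_bot_of_coprime hScop.symm).le)) hSD hfpf
    ((sup_le (hD's.trans (sigmaCore_le H)) hSH.1).trans hQn) inferInstance
    (by
      rw [hn]
      refine Nat.Coprime.pow_right n ((hr.coprime_iff_not_dvd).2 fun hd => ?_).symm
      rcases hr.dvd_mul.1 (hd.trans (BG13.card_sup_dvd_mul hSD)) with h1 | h1
      · rw [hD', card_map_conj] at h1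
        exact hD.2.1 r hr h1 rfl
      · exact kappa_not_sigma (hSH.2.1 r hr h1) hrH)
  rw [hPQC S le_rfl (hPC.trans inf_le_right), hPQC _ le_sup_right (by
    rw [le_centralizer_iff]
    exact sup_le (le_centralizer_iff.1 hPD') (le_centralizer_iff.1 (hPC.trans inf_le_right)))] at hw
  have h5 : Nat.card Q = Nat.card ↥(Q ⊓ centralizer (D' : Set G)) :=
    Nat.eq_of_mul_eq_mul_left (pow_pos hr.pos _) hw
  exact (hQD D' hD'compl).2.2.ne (eq_of_le_of_card_ge inf_le_left h5.le)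

/-- BG 14/15 (S1376): if the covering subgroup of `x ∈ M_σ` has non-empty `κ` then `κ(M)` is empty,
`M` has a cyclic Frobenius complement and `M_F` is not a TI-subgroup. -/
theorem support_frobenius (KF : KappaFacts G) (hM : IsCoatom M) (hx : x ∈ Cfsg.sigmaCore M)
    (hx1 : x ≠ 1) (hxM : ¬ centralizer ({x} : Set G) ≤ M) (hN : IsCoatom N)
    (hxN : centralizer ({x} : Set G) ≤ N) (hkN : (Cfsg.kappa N).Nonempty) :
    Cfsg.kappa M = ∅ ∧ (∃ E : Subgroup ↥M, Cfsg.IsFrobeniusComplement E ∧ IsCyclic E) ∧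
      ¬ Cfsg.IsTISubset (Cfsg.fittingHallOf M : Set G) := by
  obtain ⟨q, L, X, A, hq, h, hu⟩ := exists_cover_of_not_le F hG (fixFacts F hG) hM hx hx1 hxM
  obtain rfl := hu N hN hxN
  haveI := Fact.mk hq
  obtain ⟨hκ, hτ2, r, hr, hrd, hrs⟩ := Cover.kappa_nonempty F hG h hx KF hkN
  haveI := Fact.mk hr
  have hτ3 := Cover.tau3_empty F hG h
  obtain ⟨E, hE⟩ := exists_complIn F hG hM
  have hτ1 : ∀ s : ℕ, s.Prime → s ∣ Nat.card E → s ∈ Cfsg.tau1 M := by
    intro s hs hd
    rcases tau_cases F hG hM hs (hd.trans (card_dvd_of_le hE.1))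
      (complIn_not_sigma F hG hM hE hs hd) with e | e | e
    · exact e
    · exact absurd e (hτ2 ▸ Set.notMem_empty s)
    · exact absurd e (hτ3 ▸ Set.notMem_empty s)
  have hEc : IsCyclic E := (F.complStructure M hM E hE).1 E ⟨le_rfl, hτ1, fun s hs _ hd =>
    hs.not_dvd_one (relIndex_self E ▸ hd)⟩
  have hreg : ∀ e ∈ E, e ≠ 1 → Cfsg.sigmaCore M ⊓ centralizer ({e} : Set G) = ⊥ := by
    intro e he he1
    obtain ⟨s, hs, hsd⟩ := Nat.exists_prime_and_dvd (mt orderOf_eq_one_iff.1 he1)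
    haveI := Fact.mk hs
    obtain ⟨Z, hZe, hZ⟩ := exists_card_prime_le_zpowers hsd
    have hsE : s ∣ Nat.card E := hsd.trans (E.orderOf_dvd_natCard he)
    by_contra hfix
    rcases kappa_or_tau2 F hG hM (hτ1 s hs hsE).2.1 (hZe.trans (zpowers_le.2 (hE.1 he))) hZ
      (fun h0 => hfix (le_bot_iff.1
        (h0 ▸ inf_le_inf_left _ (centralizer_singleton_le_of_le_zpowers hZe)))) with e' | e'
    · exact absurd e' (hκ ▸ Set.notMem_empty s)
    · exact absurd e' (hτ2 ▸ Set.notMem_empty s)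
  obtain ⟨z, hz⟩ := exists_prime_orderOf_dvd_card' (G := E) r
    (dvd_card_complIn F hG hM hE hrs hrd)
  have hzo : orderOf (z : G) = r := by rw [orderOf_coe, hz]
  have hz1 : (z : G) ≠ 1 := fun e => hr.ne_one (by rw [← hzo, e, orderOf_one])
  have hnil : Group.IsNilpotent (Cfsg.sigmaCore M) :=
    CfsgLib.ThompsonFpf.isNilpotent_of_conj (p := r) _ _
      (le_normalizer_sigmaCore M (hE.1 z.2)) (hzo ▸ pow_orderOf_eq_one _) (hreg _ z.2 hz1)
  refine ⟨hκ, ⟨E.subgroupOf M, ⟨?_, ?_, ?_⟩, ?_⟩, fun hTI => ?_⟩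
  · intro e
    have h1 : (⟨z, hE.1 z.2⟩ : M) ∈ E.subgroupOf M := mem_subgroupOf.2 z.2
    rw [e, mem_bot] at h1
    exact hz1 (congrArg Subtype.val h1)
  · intro e
    refine minSimple_sigmaCore_ne_bot hG hM (le_bot_iff.1 ?_)
    rw [← hE.2.2.1]
    exact le_inf ((sigmaCore_le M).trans (subgroupOf_eq_top.1 e)) le_rfl
  · intro g hg
    rw [eq_bot_iff]
    rintro w ⟨hw, w', hw', rfl⟩
    obtain ⟨a, ha, y, hy, hgy⟩ := hE.2.2.2 ((g : G)⁻¹) (inv_mem g.2)
    have hg' : (g : G) = y⁻¹ * a⁻¹ := by rw [← inv_inv (g : G), hgy, mul_inv_rev]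
    set f := a⁻¹ * (w' : G) * a with hf
    have hfE : f ∈ E := mul_mem (mul_mem (inv_mem ha) (mem_subgroupOf.1 hw')) ha
    have hwE : y⁻¹ * f * y ∈ E := by
      have h1 : (g : G) * w' * (g : G)⁻¹ ∈ E := mem_subgroupOf.1 hw
      rwa [hg', show y⁻¹ * a⁻¹ * (w' : G) * (y⁻¹ * a⁻¹)⁻¹ = y⁻¹ * f * y by rw [hf]; group] at h1
    have h2 : y⁻¹ * f * y * f⁻¹ ∈ E ⊓ Cfsg.sigmaCore M := by
      refine mem_inf.2 ⟨mul_mem hwE (inv_mem hfE), ?_⟩
      rw [show y⁻¹ * f * y * f⁻¹ = y⁻¹ * (f * y * f⁻¹) by group]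
      exact mul_mem (inv_mem hy)
        ((mem_normalizer_iff.1 (le_normalizer_sigmaCore M (hE.1 hfE)) y).1 hy)
    rw [hE.2.2.1, mem_bot, mul_inv_eq_one, mul_assoc, inv_mul_eq_iff_eq_mul] at h2
    have hy' : f = 1 := by
      by_contra hf1
      have h3 : y ∈ Cfsg.sigmaCore M ⊓ centralizer ({f} : Set G) :=
        mem_inf.2 ⟨hy, mem_centralizer_singleton_iff.2 h2.symm⟩
      rw [hreg f hfE hf1, mem_bot] at h3
      refine hg (mem_subgroupOf.2 ?_)
      rw [hg', h3, inv_one, one_mul]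
      exact inv_mem ha
    have hw1 : (w' : G) = 1 := by
      have : a * f * a⁻¹ = (w' : G) := by rw [hf]; group
      rw [← this, hy']; group
    rw [mem_bot]
    show (MulAut.conj g).toMonoidHom w' = 1
    rw [show w' = 1 from Subtype.ext hw1, map_one]
  · haveI := hEc
    exact (subgroupOfEquivOfLe hE.1).symm.isCyclic.1 hEc
  · obtain ⟨c, hc, hcM⟩ := SetLike.not_le_iff_exists.1 hxM
    have hFs := fittingHallOf_eq_sigmaCore hG hM (F.bg12.bg10.sigmaHall M hM).1 hnil
    rw [hFs] at hTI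
    have hn : normalizer (Cfsg.sigmaCore M : Set G) = M :=
      minSimple_normalizer_eq_coatom_of_le hG hM (minSimple_sigmaCore_ne_bot hG hM)
        (sigmaCore_le M) (le_normalizer_sigmaCore M)
    refine hx1 (hTI c (fun hcn => hcM (hn ▸ hcn)) x hx ?_)
    rw [mem_centralizer_singleton_iff.1 hc, mul_inv_cancel_right]
    exact hx

end CfsgLib.OddOrder.BG14
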