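import Cfsg.Agent.OddOrder.BG14.TauThree
import Cfsg.Agent.OddOrder.BG5.Structure
import Cfsg.Agent.Coprime.Abelian

/-!
# BG 13.13: a maximal subgroup over `N(P)`, `#P = p ∈ κ(M)`, has `p` in its `σ`

The configuration `p ∈ κ(M)`, `#P = p`, `N(P) ≤ H`, `p ∈ τ₂(H)` is refuted.
-/

set_option autoImplicit false
set_option linter.style.haveILetI false
set_option linter.unusedSectionVars false

namespace CfsgLib.OddOrder.BG14

open Cfsg Subgroup
open CfsgLib.OddOrder
open CfsgLib.OddOrder.BG11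
open CfsgLib.OddOrder.BG13
open CfsgLib.ConjFunctor (IsSylowIn exists_isSylowIn_ge)

section General

variable {G : Type*} [Group G] [Finite G] {p q : ℕ}

/-- If `Q ≤ E` and `E'` centralizes `T` normalized by `E`, then `E` normalizes `C_T(Q)`. -/
theorem le_normalizer_inf_centralizer_of_commutator {E T Q : Subgroup G}
    (hE : E ≤ normalizer (T : Set G)) (hQ : Q ≤ E) (hc : ⁅E, E⁆ ≤ centralizer (T : Set G)) :
    E ≤ normalizer ((T ⊓ centralizer (Q : Set G) : Subgroup G) : Set G) := by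
  intro e he
  refine ConjFunctor.mem_normalizer_of_forall_conj_mem fun t ht => mem_inf.2
    ⟨(mem_normalizer_iff.1 (hE he) t).1 ht.1, mem_centralizer_iff.2 fun x hx => ?_⟩
  have h1 : e⁻¹ * x * e * x⁻¹ ∈ centralizer (T : Set G) := hc (by
    have := commutator_mem_commutator (inv_mem he) (hQ hx)
    simpa [commutatorElement_def] using this)
  have h2 : t * (e⁻¹ * x * e * x⁻¹) = e⁻¹ * x * e * x⁻¹ * t := mem_centralizer_iff.1 h1 t ht.1
  have h3 : x * t = t * x := mem_centralizer_iff.1 ht.2 x hx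
  calc x * (e * t * e⁻¹) = e * ((e⁻¹ * x * e * x⁻¹) * (x * t)) * e⁻¹ := by group
    _ = e * ((e⁻¹ * x * e * x⁻¹ * t) * x) * e⁻¹ := by rw [h3]; group
    _ = e * (t * (e⁻¹ * x * e * x⁻¹) * x) * e⁻¹ := by rw [h2]
    _ = e * t * e⁻¹ * x := by group

/-- A group of order `q ≠ p` fixing a line of a plane of exponent `p` and moving the plane has
`q ∣ p - 1`. -/
theorem dvd_sub_one_of_plane [Fact p.Prime] [Fact q.Prime] (hne : q ≠ p) {X A Y : Subgroup G}
    (hX : Nat.card X = q) (hA : Cfsg.IsElementaryAbelian p A) (hAc : Nat.card A = p ^ 2)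
    (hn : X ≤ normalizer (A : Set G)) (hYA : Y ≤ A) (hY : Nat.card Y = p)
    (hYX : Y ≤ centralizer (X : Set G)) (hnc : ¬ X ≤ centralizer (A : Set G)) : q ∣ p - 1 := by
  haveI := hA.1
  have hcop : (Nat.card X).Coprime (Nat.card A) := by
    rw [hX, hAc]
    exact ((Nat.coprime_primes Fact.out Fact.out).2 hne).pow_right 2
  have hinf := Coprime.inf_centralizer_inf_commutator_eq_bot hn hcop
  have hsup := Coprime.inf_centralizer_sup_commutator_eq hn hcop
  set C := A ⊓ centralizer (X : Set G)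
  set D := ⁅A, X⁆
  have hDA : D ≤ A := Coprime.commutator_le_of_le_normalizer hn
  have hD1 : D ≠ ⊥ := fun h => hnc (le_centralizer_iff.1 (commutator_eq_bot_iff_le_centralizer.1 h))
  have hC1 : C ≠ ⊥ := fun h => BG11.ne_bot_of_card_prime hY
    (le_bot_iff.1 (h ▸ le_inf hYA hYX))
  have hDc : Nat.card D = p := by
    refine card_eq_of_lt_of_ne_bot hAc (lt_of_le_of_ne hDA fun h => hC1 ?_) hD1
    rwa [h, inf_eq_left.2 inf_le_left] at hinf
  refine dvd_sub_one_of_normalizes hX hDc ?_ fun h => hD1 ?_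
  · exact le_sup_right.trans (Coprime.sup_le_normalizer_commutator A X)
  · rw [← le_bot_iff, ← hinf]
    exact le_inf (le_inf hDA (le_centralizer_iff.1 h)) le_rfl

end General

variable {G : Type*} [Group G] [Finite G] {p q : ℕ} {M H P : Subgroup G}

/-- The configuration refuted in BG 13.13. -/
structure KappaTauTwo (p : ℕ) (M H P : Subgroup G) : Prop where
  maxM : IsCoatom M
  maxH : IsCoatom H
  kap : p ∈ Cfsg.kappa M
  PM : P ≤ M
  cardP : Nat.card P = p
  norm : normalizer (P : Set G) ≤ H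
  tauTwo : p ∈ Cfsg.tau2 H

namespace KappaTauTwo

theorem PH (c : KappaTauTwo p M H P) : P ≤ H := le_normalizer.trans c.norm

theorem CH (c : KappaTauTwo p M H P) :
    Cfsg.sigmaCore M ⊓ centralizer (P : Set G) ≤ H :=
  inf_le_right.trans ((centralizer_le_normalizer _).trans c.norm)

variable [Fact p.Prime] (F : BG13Facts G) (hG : Cfsg.IsMinSimpleOddOrder G)
include F hG

theorem nonconj (c : KappaTauTwo p M H P) (g : G) : H ≠ M.map (MulAut.conj g).toMonoidHom :=
  fun e => c.tauTwo.2.2.2 (e ▸ pRankLE_map_conj (kappa_pRankLE_one c.kap) g)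

/-- `H` has a complement of `H_σ` over `P C_{M_σ}(P)` with a plane through `P`. -/
theorem exists_setup (c : KappaTauTwo p M H P) :
    ∃ E B : Subgroup G, Cfsg.IsComplIn E (Cfsg.sigmaCore H) H ∧
      Cfsg.sigmaCore M ⊓ centralizer (P : Set G) ≤ E ∧ B ≤ E ∧ P ≤ B ∧
      Cfsg.IsElementaryAbelian p B ∧ Nat.card B = p ^ 2 ∧ ¬ B ≤ M := by
  have hdis := disjoint_sigma F hG c.maxM c.maxH (c.nonconj F hG)
  have hn : Cfsg.sigmaCore M ⊓ centralizer (P : Set G) ≤ normalizer (P : Set G) :=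
    inf_le_right.trans (centralizer_le_normalizer _)
  obtain ⟨E, hU, hE⟩ := exists_complIn_ge F.bg12 hG c.maxH
    (sup_le c.PH c.CH : P ⊔ (Cfsg.sigmaCore M ⊓ centralizer (P : Set G)) ≤ H) fun s hs hd => by
      rcases hs.dvd_mul.1 (hd.trans (BG13.card_sup_dvd_mul hn)) with h | h
      · rw [c.cardP, Nat.prime_dvd_prime_iff_eq hs Fact.out] at h
        exact h ▸ c.tauTwo.2.1
      · exact Set.disjoint_left.1 hdis
          (isPiSubgroup_mono inf_le_left (isPiSubgroup_sigmaCore M) s hs h)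
  obtain ⟨B, hBE, hB, hBc⟩ := exists_plane_complIn F hG c.maxH c.tauTwo hE
  exact ⟨E, B, hE, le_sup_right.trans hU, hBE,
    (F.tauTwoLine H c.maxH E hE p c.tauTwo B hBE hB hBc).1 P (le_sup_left.trans hU) c.cardP,
    hB, hBc, fun h => not_pRankLE_one_of_card_sq h hB hBc (kappa_pRankLE_one c.kap)⟩

variable {E B : Subgroup G}

/-- The subgroups `Q` of prime order of `C_{M_σ}(P)`: `B` does not normalize `Q`, `q ∈ τ₁(H)` and
`N(Q) ≤ M`. -/
theorem fixed_prime (c : KappaTauTwo p M H P) (hE : Cfsg.IsComplIn E (Cfsg.sigmaCore H) H)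
    (hBE : B ≤ E) (hPB : P ≤ B) (hB : Cfsg.IsElementaryAbelian p B) (hBc : Nat.card B = p ^ 2)
    (hBM : ¬ B ≤ M) [Fact q.Prime] {Q : Subgroup G}
    (hQ : Q ≤ Cfsg.sigmaCore M ⊓ centralizer (P : Set G)) (hQE : Q ≤ E) (hQc : Nat.card Q = q) :
    ¬ B ≤ normalizer (Q : Set G) ∧ q ∈ Cfsg.tau1 H ∧ normalizer (Q : Set G) ≤ M := by
  have hQM : Q ≤ M := (hQ.trans inf_le_left).trans (sigmaCore_le M)
  have hqM : q ∈ Cfsg.sigma M :=
    isPiSubgroup_sigmaCore M q Fact.out (hQc ▸ card_dvd_of_le (hQ.trans inf_le_left))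
  have hQP : P ≤ centralizer (Q : Set G) := le_centralizer_iff.1 (hQ.trans inf_le_right)
  have hne : q ≠ p := fun e => kappa_not_sigma c.kap (e ▸ hqM)
  have hQH : Q ≤ H := hQE.trans hE.1
  have hqH : q ∉ Cfsg.sigma H :=
    complIn_not_sigma F hG c.maxH hE Fact.out (hQc ▸ card_dvd_of_le hQE)
  have hNQ : normalizer (Q : Set G) ≠ ⊤ := minSimple_normalizer_ne_top hG
    (BG11.ne_bot_of_card_prime hQc) (minSimple_ne_top_of_isPGroup hG (isPGroup_of_card_prime hQc))
  have hcover : ∀ K : Subgroup G, IsCoatom K → K ≠ M → normalizer (Q : Set G) ≤ K →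
      q ∈ Cfsg.tau2 K ∧ p ∉ Cfsg.sigma K := by
    intro K hK hKM hNK
    obtain ⟨hnc, ⟨hqK, -⟩ | ⟨hqK, -, hbot, -⟩⟩ := cover F.bg12 hG c.maxM hqM hQc hQM hK hKM hNK
    · exact absurd hqK (Set.disjoint_left.1 (disjoint_sigma F hG c.maxM hK hnc) hqM)
    · refine ⟨hqK, fun hpK => BG11.ne_bot_of_card_prime c.cardP (le_bot_iff.1 ?_)⟩
      rw [← hbot]
      exact le_inf (pGroup_le_sigmaCore F.bg12.bg10 hK hpK
        ((hQP.trans (centralizer_le_normalizer _)).trans hNK) (isPGroup_of_card_prime c.cardP))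
        c.PM
  have ha : ¬ B ≤ normalizer (Q : Set G) := by
    intro hBN
    obtain ⟨K, hK, hNK⟩ := minSimple_exists_coatom hG hNQ
    by_cases hKM : K = M
    · exact hBM (hBN.trans (hKM ▸ hNK))
    obtain ⟨-, hpK⟩ := hcover K hK hKM hNK
    obtain ⟨h, -, hB'⟩ := cover_conj F.bg12 hG c.maxM hqM hQc hQM hK hKM hNK (hBN.trans hNK)
      fun s hs hd => Or.inr (by
        rw [hBc] at hd
        rw [(Nat.prime_dvd_prime_iff_eq hs Fact.out).1 (hs.dvd_of_dvd_pow hd)]
        exact hpK)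
    exact not_pRankLE_one_of_card_sq (hB'.trans inf_le_left) (isElementaryAbelian_map _ hB)
      (by rw [card_map_conj, hBc]) (kappa_pRankLE_one c.kap)
  have hnd : ∀ {n : ℕ}, ¬ p ∣ q ^ n := fun h =>
    hne ((Nat.prime_dvd_prime_iff_eq Fact.out Fact.out).1 ((Fact.out : p.Prime).dvd_of_dvd_pow h)).symm
  have hb : q ∈ Cfsg.tau1 H := by
    rcases tau_cases F hG c.maxH Fact.out (hQc ▸ card_dvd_of_le hQH) hqH with h | h | h
    · exact h
    · obtain ⟨A, hAE, hA, hAc⟩ := exists_plane_complIn F hG c.maxH h hE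
      refine absurd ?_ ha
      have hQA := (F.tauTwoLine H c.maxH E hE q h A hAE hA hAc).1 Q hQE hQc
      exact (plane_centralizes F hG c.maxH hE c.tauTwo hBE hB hBc hAE
        (F.bg12.tauTwoCompl H c.maxH E hE q h A hAE hA hAc).1 (hAc ▸ hnd)).trans
        ((centralizer_le hQA).trans (centralizer_le_normalizer _))
    · exact absurd (hBE.trans (tau3_prime F hG c.maxH hE h hQE hQc).2) ha
  refine ⟨ha, hb, ?_⟩
  obtain ⟨K, hK, hNK⟩ := minSimple_exists_coatom hG hNQ
  by_cases hKM : K = M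
  · exact hKM ▸ hNK
  exfalso
  obtain ⟨hqK, hpK⟩ := hcover K hK hKM hNK
  have hqp : q ∣ p - 1 := by
    refine dvd_sub_one_of_plane hne hQc hB hBc
      (hQE.trans (F.bg12.tauTwoCompl H c.maxH E hE p c.tauTwo B hBE hB hBc).1) hPB c.cardP hQP
      fun h => ha ((le_centralizer_iff.1 h).trans (centralizer_le_normalizer _))
  obtain ⟨EK, hU, hEK⟩ := exists_complIn_ge F.bg12 hG hK
    (sup_le (le_normalizer.trans hNK) ((hQP.trans (centralizer_le_normalizer _)).trans hNK) :
      Q ⊔ P ≤ K) fun s hs hd => by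
      rcases hs.dvd_mul.1 (hd.trans (BG13.card_sup_dvd_mul
        (hQP.trans (centralizer_le_normalizer _)))) with h | h
      · rw [hQc, Nat.prime_dvd_prime_iff_eq hs Fact.out] at h
        exact h ▸ hqK.2.1
      · rw [c.cardP, Nat.prime_dvd_prime_iff_eq hs Fact.out] at h
        exact h ▸ hpK
  obtain ⟨A, hAE, hA, hAc⟩ := exists_plane_complIn F hG hK hqK hEK
  have hQA := (F.tauTwoLine K hK EK hEK q hqK A hAE hA hAc).1 Q (le_sup_left.trans hU) hQc
  have hpq : p ∣ q - 1 := by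
    refine dvd_sub_one_of_plane (Ne.symm hne) c.cardP hA hAc
      ((le_sup_right.trans hU).trans (F.bg12.tauTwoCompl K hK EK hEK q hqK A hAE hA hAc).1)
      hQA hQc (hQ.trans inf_le_right) fun h => ?_
    exact not_pRankLE_one_of_card_sq
      ((le_centralizer_iff.1 h).trans ((centralizer_le_normalizer _).trans c.norm)) hA hAc hb.2.2.2.2
  have h1 := Nat.le_of_dvd (Nat.sub_pos_of_lt (Fact.out : q.Prime).one_lt) hpq
  have h2 := Nat.le_of_dvd (Nat.sub_pos_of_lt (Fact.out : p.Prime).one_lt) hqp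
  omega

/-- `τ₂(H)` does not occur on a complement of `L_σ`, `L` over `N(B)`. -/
theorem not_tau2_of_le (c : KappaTauTwo p M H P) {L : Subgroup G} (hL : IsCoatom L)
    (hE : Cfsg.IsComplIn E (Cfsg.sigmaCore H) H) (hEL : E ≤ L) (hBE : B ≤ E)
    (hB : Cfsg.IsElementaryAbelian p B) (hBc : Nat.card B = p ^ 2) (hBL : B ≤ Cfsg.sigmaCore L)
    {s : ℕ} [Fact s.Prime] (hsp : s ≠ p) (hsL : s ∉ Cfsg.sigma L) : s ∉ Cfsg.tau2 H := by
  intro hs
  obtain ⟨A, hAE, hA, hAc⟩ := exists_plane_complIn F hG c.maxH hs hE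
  have h1 : B ≤ Cfsg.sigmaCore L ⊓ centralizer (A : Set G) := le_inf hBL
    (plane_centralizes F hG c.maxH hE c.tauTwo hBE hB hBc hAE
      (F.bg12.tauTwoCompl H c.maxH E hE s hs A hAE hA hAc).1 fun hd => by
        rw [hAc] at hd
        exact hsp ((Nat.prime_dvd_prime_iff_eq Fact.out Fact.out).1
          ((Fact.out : p.Prime).dvd_of_dvd_pow hd)).symm)
  rw [(F.tauTwoPlane L hL s (tau2_of_plane F hG hL hsL (hAE.trans hEL) hA hAc) A (hAE.trans hEL) hA
    hAc).2.1, le_bot_iff] at h1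
  rw [h1, card_bot] at hBc
  exact (Nat.one_lt_pow two_ne_zero (Fact.out : p.Prime).one_lt).ne hBc

/-- The configuration does not occur, given that it does not occur for the primes of `τ₁(M)`
when `p` is not one of them. -/
theorem false_of (c : KappaTauTwo p M H P)
    (hrec : p ∈ Cfsg.tau1 M ∨ ∀ (s : ℕ) [Fact s.Prime] (X L : Subgroup G), s ∈ Cfsg.tau1 M →
      KappaTauTwo s M L X → False) : False := by
  obtain ⟨E, B, hE, hCE, hBE, hPB, hB, hBc, hBM⟩ := c.exists_setup F hG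
  have hpM := kappa_not_sigma c.kap
  have hBp := isPGroup_of_isElementaryAbelian hB
  obtain ⟨q, hq, hqd⟩ := Nat.exists_prime_and_dvd fun h =>
    kappa_fixed c.kap c.PM c.cardP (Subgroup.card_eq_one.1 h)
  haveI := Fact.mk hq
  obtain ⟨x, hx⟩ := exists_prime_orderOf_dvd_card'
    (G := ↥(Cfsg.sigmaCore M ⊓ centralizer (P : Set G))) q hqd
  set Q := zpowers (x : G)
  have hQc : Nat.card Q = q := by rw [Nat.card_zpowers, Subgroup.orderOf_coe, hx]
  have hQ : Q ≤ Cfsg.sigmaCore M ⊓ centralizer (P : Set G) := zpowers_le.2 x.2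
  have hQE : Q ≤ E := hQ.trans hCE
  have hQP : P ≤ centralizer (Q : Set G) := le_centralizer_iff.1 (hQ.trans inf_le_right)
  obtain ⟨ha, hqH1, hNQ⟩ := c.fixed_prime F hG hE hBE hPB hB hBc hBM hQ hQE hQc
  have hCQ : centralizer (Q : Set G) ≤ M := (centralizer_le_normalizer _).trans hNQ
  have hqM : q ∈ Cfsg.sigma M :=
    isPiSubgroup_sigmaCore M q Fact.out (hQc ▸ card_dvd_of_le (hQ.trans inf_le_left))
  have hqp : q ≠ p := fun e => hpM (e ▸ hqM)
  -- the maximal subgroup over `N(B)`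
  have hB1 : B ≠ ⊥ := fun e => hBM (e ▸ bot_le)
  obtain ⟨L, hL, hNL⟩ := minSimple_exists_coatom hG (minSimple_normalizer_ne_top hG hB1
    (minSimple_ne_top_of_isPGroup hG hBp))
  obtain ⟨hpL, hLH, hbot, hEL, hBL⟩ :=
    plane_sigma F hG c.maxH hE c.tauTwo hBE hB hBc hL hNL
  have hLM : ∀ g : G, L ≠ M.map (MulAut.conj g).toMonoidHom := fun g e =>
    hpM (by rw [e, sigma_map_conj] at hpL; exact hpL)
  have hHL : H ⊓ L ≤ E := by
    intro h hh
    obtain ⟨e, he, y, hy, rfl⟩ := hE.2.2.2 h hh.1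
    have h1 : y ∈ Cfsg.sigmaCore H ⊓ L :=
      ⟨hy, by simpa using mul_mem (inv_mem (hEL he)) hh.2⟩
    rw [hbot, mem_bot] at h1
    simpa [h1] using he
  have hQL : Q ≤ L := hQE.trans hEL
  have hPL : P ≤ Cfsg.sigmaCore L := hPB.trans hBL
  have hqL : q ∉ Cfsg.sigma L := Set.disjoint_left.1 (disjoint_sigma F hG c.maxM hL hLM) hqM
  have hqL2 : q ∉ Cfsg.tau2 L := fun h =>
    hLM 1 (by
      rw [map_conj_one]
      exact ((tau2_line_unique F hG hL h hQL hQc fun e => BG11.ne_bot_of_card_prime c.cardP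
        (le_bot_iff.1 (e ▸ le_inf hPL hQP))).2 M c.maxM hCQ).symm)
  have hpβ : p ∉ Cfsg.beta L := tau2_not_beta F hG c.maxH c.tauTwo L
  have hEB : E ≤ normalizer (B : Set G) :=
    (F.bg12.tauTwoCompl H c.maxH E hE p c.tauTwo B hBE hB hBc).1
  have hqL1 : q ∈ Cfsg.tau1 L := by
    rcases tau_cases F hG hL Fact.out (hQc ▸ card_dvd_of_le hQL) hqL with h | h | h
    · exact h
    · exact absurd h hqL2
    · obtain ⟨EL, hQEL, hEL'⟩ := complIn_of_prime F hG hL hqL hQL hQc
      refine absurd ((le_centralizer_iff.1 (le_centralizer_of_betaPrime F.bg12.bg10 hG hL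
        (tau3_prime F hG hL hEL' h hQEL hQc).1
        (hBL.trans (sigmaCore_le_derived F.bg12.bg10 hG hL)) ?_ ?_ ?_ ?_)).trans
        (centralizer_le_normalizer _)) ha
      · exact hQE.trans hEB
      · intro r hr hd
        rw [hQc, Nat.prime_dvd_prime_iff_eq hr Fact.out] at hd
        exact ⟨hr, fun hβ => hqL (hd ▸ beta_subset_sigma F hG hL hβ)⟩
      · intro r hr hd
        rw [hBc] at hd
        exact ⟨hr, (Nat.prime_dvd_prime_iff_eq hr Fact.out).1 (hr.dvd_of_dvd_pow hd) ▸ hpβ⟩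
      · rw [hQc, hBc]
        exact ((Nat.coprime_primes Fact.out Fact.out).2 hqp).pow_right 2
  -- `P ∩ (L_σ)' = 1`
  have hPd : ¬ P ≤ ⁅Cfsg.sigmaCore L, Cfsg.sigmaCore L⁆ := fun h => hLH
    (((F.sigmaOrderUnique L hL p hpL P (hPL.trans (sigmaCore_le L)) c.cardP (Or.inr h)).1 H c.maxH
      ((centralizer_le_normalizer _).trans c.norm)).symm)
  -- a `Q`-invariant Sylow subgroup of `L_σ` and a complement normalizing it
  obtain ⟨T, hPT, hTσ, hTL, -, hQT⟩ := exists_invariant_sylow_sigmaCore F.bg12.bg10 hL hpL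
    (isPGroup_of_card_prime hQc) (not_dvd_card_sigmaCore hqL) hQL hPL
    (isPGroup_of_card_prime c.cardP) ((hQ.trans inf_le_right).trans (centralizer_le_normalizer _))
  have hTn : Cfsg.IsNarrow p T := by
    have h := sylow_narrow_of_not_beta hG hL (dvd_card_of_sigma hpL) hpβ
      ((hTL.isPGroup.comap_subtype (K := L)).toSylow hTL.not_dvd)
    exact BG5.isNarrow_of_mulEquiv (subgroupOfEquivOfLe hTL.le) h
  obtain ⟨Es, hQEs, hEsD, hEs⟩ := exists_complIn_between F hG hL
    (inf_le_left : L ⊓ normalizer (T : Set G) ≤ L) (le_inf hQL hQT)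
    (fun r hr hd => beta_subset_sigma F hG hL (isPiSubgroup_piCoreOf (Cfsg.beta L) L r hr
      (hd.trans (relIndex_dvd_card_of_eq_sup (le_normalizer_piCoreOf _ L)
        (eq_sup_normalizer hTL (hTσ.trans (sigmaCore_le_derived F.bg12.bg10 hG hL))
          (isNilpotent_commutator_image_beta F.bg12 hL))))))
    (fun r hr hd => by
      rw [hQc, Nat.prime_dvd_prime_iff_eq hr Fact.out] at hd
      exact hd ▸ hqL)
  have hEsL : Es ≤ L := hEs.1
  have hsolE : ∀ {U V : Subgroup G}, U ≤ V → IsCoatom V → Group.IsSolvable U := fun h hV =>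
    minSimple_solvable hG (ne_top_of_le_ne_top hV.1 h)
  have hEsc : (Nat.card Es).Coprime p := ((Fact.out : p.Prime).coprime_iff_not_dvd.2 fun h =>
    complIn_not_sigma F hG hL hEs Fact.out h hpL).symm
  have hEsP : Es ≤ normalizer (P : Set G) := by
    have h1 := le_normalizer_inf_centralizer_of_commutator (hEsD.trans inf_le_right) hQEs
      (commutator_le_centralizer_of_narrow (minSimple_prime_ne_two_subgroup hG
        (dvd_card_of_sigma hpL)) hTL.isPGroup hTn (hEsD.trans inf_le_right) (hsolE hEsL hL)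
        (minSimple_odd_subgroup hG Es) hEsc)
    refine h1.trans (normalizer_le_normalizer_of_isCyclic ?_ (le_inf hPT hQP))
    exact isCyclic_of_pRankLE_one (inf_le_right.trans hCQ) (hTL.isPGroup.to_le inf_le_left)
      (minSimple_prime_ne_two_subgroup hG (dvd_card_of_sigma hpL)) (kappa_pRankLE_one c.kap)
  have hEsE : Es ≤ E := (le_inf (hEsP.trans c.norm) hEsL).trans hHL
  -- `E` normalizes `P`
  have hEP : E ≤ normalizer (P : Set G) := by
    obtain ⟨S, hBS, hS⟩ := exists_isSylowIn_ge hBE hBp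
    have hSC : S ≤ centralizer (B : Set G) := by
      haveI := ((F.tauTwoPlane H c.maxH p c.tauTwo B (hBE.trans hE.1) hB hBc).1 S
        (BG14.isSylowIn_of_complIn F hG c.maxH hE c.tauTwo.2.1 hS)).1
      exact le_centralizer_iff.1 (hBS.trans (le_centralizer_iff_isMulCommutative.2 inferInstance))
    have h1 := le_normalizer_inf_centralizer_of_commutator hEB hQE
      (BG11.commutator_le_centralizer_of_not_dvd (hsolE hE.1 c.maxH) (minSimple_odd_subgroup hG E)
        hB hBc hEB fun hd => hS.not_dvd (by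
          rw [← inf_relIndex_right] at hd
          exact hd.trans (relIndex_dvd_of_le_left _ (le_inf hSC hS.le))))
    have h2 : B ⊓ centralizer (Q : Set G) = P := by
      refine (eq_of_le_of_card_ge (le_inf hPB hQP) ?_).symm
      rw [c.cardP, card_eq_of_lt_of_ne_bot hBc
        (lt_of_le_of_ne inf_le_left fun e => ha ((inf_eq_left.1 e).trans
          (centralizer_le_normalizer _)))
        fun e => BG11.ne_bot_of_card_prime c.cardP (le_bot_iff.1 (e ▸ le_inf hPB hQP))]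
    rwa [h2] at h1
  -- a cyclic Hall `τ₁(H)`-subgroup of `E` over `Q`
  obtain ⟨W, hW, hQW⟩ := exists_isPiHallOf_ge (hsolE hE.1 c.maxH) hQE
    (isPiSubgroup_of_card_prime hQc hqH1)
  haveI hWc : IsCyclic W := (F.complStructure H c.maxH E hE).1 W hW
  have hWQ : W ≤ centralizer (Q : Set G) := by
    intro w hw
    exact mem_centralizer_iff.2 fun y hy => congrArg Subtype.val
      (IsMulCommutative.is_comm.comm (⟨y, hQW hy⟩ : W) ⟨w, hw⟩)
  -- `E*` centralizes `P`
  suffices hcen : Es ≤ centralizer (P : Set G) by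
    exact hPd ((le_inf hPL (le_centralizer_iff.1 hcen)).trans
      (BG13.sigmaCore_complIn_action F.bg12 hG hL hEs).1)
  refine BG4.le_of_sylow_le fun s hs => ?_
  haveI := Fact.mk hs
  obtain ⟨S0⟩ : Nonempty (Sylow s Es) := inferInstance
  refine ⟨S0, ?_⟩
  set S := (S0 : Subgroup Es).map Es.subtype
  have hSp : IsPGroup s S := S0.2.map _
  have hSEs : S ≤ Es := map_subtype_le _
  by_cases hS1 : S = ⊥
  · rw [hS1]; exact bot_le
  obtain ⟨X, hXS, hX⟩ := exists_card_prime_le hSp hS1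
  have hsd : s ∣ Nat.card Es := dvd_card_of_card_le (hXS.trans hSEs) hX
  have hsL := complIn_not_sigma F hG hL hEs hs hsd
  have hsp : s ≠ p := fun e => hsL (e ▸ hpL)
  have hs2 : s ≠ 2 := minSimple_prime_ne_two_subgroup hG hsd
  have hsdE := hsd.trans (card_dvd_of_le hEsE)
  rcases tau_cases F hG c.maxH hs (hsdE.trans (card_dvd_of_le hE.1))
    (complIn_not_sigma F hG c.maxH hE hs hsdE) with h | h | h
  rotate_left
  · exact absurd h (c.not_tau2_of_le F hG hL hE hEL hBE hB hBc hBL hsp hsL)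
  · have hSB : S ≤ centralizer (B : Set G) := le_centralizer_iff.1
      (plane_centralizes F hG c.maxH hE c.tauTwo hBE hB hBc (hSEs.trans hEsE)
        (tau3_subgroup F hG c.maxH hE (hSEs.trans hEsE) (isPiSubgroup_of_isPGroup hSp h)).2.2
        fun hd => hsp (by
          obtain ⟨n, hn⟩ := IsPGroup.iff_card.1 hSp
          rw [hn] at hd
          exact ((Nat.prime_dvd_prime_iff_eq Fact.out hs).1
            ((Fact.out : p.Prime).dvd_of_dvd_pow hd)).symm))
    exact hSB.trans (centralizer_le hPB)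
  -- `s ∈ τ₁(H)`: conjugate into `W`
  obtain ⟨z, hz, hzW⟩ := exists_conj_le_isPiHallOf (hsolE hE.1 c.maxH) (hSEs.trans hEsE)
    (isPiSubgroup_of_isPGroup hSp h) hW
  have hzP : P.map (MulAut.conj z).toMonoidHom = P := map_conj_eq_self_iff.2 (hEP hz)
  suffices hS' : S.map (MulAut.conj z).toMonoidHom ≤ centralizer (P : Set G) by
    intro y hy
    refine mem_centralizer_iff.2 fun b hb => ?_
    have h1 := mem_centralizer_iff.1 (hS' (mem_map_of_mem _ hy)) _ (hzP ▸ mem_map_of_mem _ hb)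
    simpa using h1
  have hSz : IsPGroup s ↥(S.map (MulAut.conj z).toMonoidHom) := hSp.map _
  set S' := S.map (MulAut.conj z).toMonoidHom
  have hS'Q : S' ≤ centralizer (Q : Set G) := hzW.trans hWQ
  have hS'M : S' ≤ M := hS'Q.trans hCQ
  have hS'E : S' ≤ E := hzW.trans hW.1
  have hS'P : S' ≤ normalizer (P : Set G) := hS'E.trans hEP
  have hcop : (Nat.card S').Coprime (Nat.card P) := by
    refine BG11.coprime_card_of_not_dvd hSz ?_
    rw [c.cardP, Nat.prime_dvd_prime_iff_eq hs Fact.out]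
    exact hsp
  -- `[P, S']` lies in `P ∩ X` for any `X` containing the commutators
  have hkill : ∀ X : Subgroup G, P ⊓ X = ⊥ →
      (∀ b ∈ P, ∀ a ∈ S', b * a * b⁻¹ * a⁻¹ ∈ X) → S' ≤ centralizer (P : Set G) := by
    intro X hX hc a ha'
    refine mem_centralizer_iff.2 fun b hb => ?_
    have h1 : b * a * b⁻¹ * a⁻¹ ∈ P ⊓ X := by
      refine mem_inf.2 ⟨?_, hc b hb a ha'⟩
      simpa [mul_assoc] using mul_mem hb ((mem_normalizer_iff.1 (hS'P ha') b⁻¹).1 (inv_mem hb))
    rw [hX, mem_bot] at h1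
    calc b * a = b * a * b⁻¹ * a⁻¹ * (a * b) := by group
      _ = a * b := by rw [h1, one_mul]
  by_cases hsM : s ∈ Cfsg.sigma M
  · refine hkill (Cfsg.sigmaCore M) ?_ fun b hb a ha' => ?_
    · exact pGroup_inf_sigmaCore F.bg12.bg10 hpM (isPGroup_of_card_prime c.cardP)
    · have haσ := pGroup_le_sigmaCore F.bg12.bg10 c.maxM hsM hS'M hSz ha'
      exact mul_mem ((mem_normalizer_iff.1 (le_normalizer_sigmaCore M (c.PM hb)) a).1 haσ)
        (inv_mem haσ)
  by_cases hp1 : p ∈ Cfsg.tau1 M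
  · refine hkill ⁅M, M⁆ ?_ fun b hb a ha' => ?_
    · refine Coprime.inf_eq_bot_of_coprime ?_
      rw [c.cardP]
      exact (Fact.out : p.Prime).coprime_iff_not_dvd.2 hp1.2.2.2.1
    · simpa [commutatorElement_def] using commutator_mem_commutator (c.PM hb) (hS'M ha')
  have hp3 : p ∈ Cfsg.tau3 M := (kappa_tau13 F hG c.kap).resolve_left hp1
  have hτ2 := tau2_empty_of_tau3_fixed F hG c.maxM hp3 c.PM c.cardP
    (kappa_fixed c.kap c.PM c.cardP)
  obtain ⟨X', hX'S, hX'⟩ : ∃ X' : Subgroup G, X' ≤ S' ∧ Nat.card X' = s :=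
    ⟨_, map_mono hXS, by rw [card_map_conj, hX]⟩
  obtain ⟨EM, hUM, hEM⟩ := exists_complIn_ge F.bg12 hG c.maxM (sup_le c.PM hS'M : P ⊔ S' ≤ M)
    fun r hr hd => by
      rcases hr.dvd_mul.1 (hd.trans (BG13.card_sup_dvd_mul hS'P)) with h | h
      · rw [c.cardP, Nat.prime_dvd_prime_iff_eq hr Fact.out] at h
        exact h ▸ hpM
      · obtain ⟨n, hn⟩ := IsPGroup.iff_card.1 hSz
        rw [hn] at h
        exact (Nat.prime_dvd_prime_iff_eq hr hs).1 (hr.dvd_of_dvd_pow h) ▸ hsM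
  rcases tau_cases F hG c.maxM hs (dvd_card_of_card_le (hX'S.trans hS'M) hX') hsM with
    hsM1 | hsM2 | hsM3
  rotate_left
  · simp [hτ2] at hsM2
  · exact le_centralizer_of_coprime hS'P ((le_sup_left.trans hUM).trans
      (tau3_subgroup F hG c.maxM hEM (le_sup_right.trans hUM)
        (isPiSubgroup_of_isPGroup hSz hsM3)).2.2) hcop
  -- `s ∈ τ₁(M)`
  obtain ⟨EL, hUL, hEL'⟩ := exists_complIn_ge F.bg12 hG hL
    (sup_le hQL (hS'E.trans hEL) : Q ⊔ S' ≤ L) fun r hr hd => by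
      rcases hr.dvd_mul.1 (hd.trans (BG13.card_sup_dvd_mul
        (hS'Q.trans (centralizer_le_normalizer _)))) with h | h
      · rw [hQc, Nat.prime_dvd_prime_iff_eq hr Fact.out] at h
        exact h ▸ hqL
      · obtain ⟨n, hn⟩ := IsPGroup.iff_card.1 hSz
        rw [hn] at h
        exact (Nat.prime_dvd_prime_iff_eq hr hs).1 (hr.dvd_of_dvd_pow h) ▸ hsL
  have hX'P : P ≤ centralizer (X' : Set G) :=
    ((le_inf hPL hQP).trans (F.tauOneFix L hL EL hEL' q hqL1 Q (le_sup_left.trans hUL) hQc X'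
      (le_inf ((hX'S.trans le_sup_right).trans hUL) (hX'S.trans hS'Q))
      (by rw [hX']; exact hs))).trans inf_le_right
  obtain ⟨x', hx', hx'1⟩ := exists_mem_ne_one_of_card hX'
  by_cases hs1 : Cfsg.PRankLE s 1 L
  · obtain ⟨T', hST', hT'⟩ := exists_isSylowIn_ge (le_sup_right.trans hUL) hSz
    have h1 := F.cyclicPrimeAction L hL EL hEL' s T' hT'
      (isCyclic_of_pRankLE_one (hT'.le.trans hEL'.1) hT'.isPGroup hs2 hs1) x' (hST' (hX'S hx')) hx'1
    have h2 : P ≤ centralizer (T' : Set G) := by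
      refine (le_inf hPL ?_).trans (h1.le.trans inf_le_right)
      rw [← centralizer_eq_singleton_of_card hX' hx' hx'1]
      exact hX'P
    exact hST'.trans (le_centralizer_iff.1 h2)
  -- `s ∈ τ₂(L)`: the configuration for `s ∈ τ₁(M)`
  exfalso
  have hs2L : s ∈ Cfsg.tau2 L :=
    ⟨hs, hsL, pRankLE_two_of_not_sigma F.bg12.bg10 hL hsL, hs1⟩
  obtain ⟨hCX, huniq⟩ := tau2_line_unique F hG hL hs2L ((hX'S.trans hS'E).trans hEL) hX'
    fun e => BG11.ne_bot_of_card_prime c.cardP (le_bot_iff.1 (e ▸ le_inf hPL hX'P))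
  refine (hrec.resolve_left hp1) s X' L hsM1
    ⟨c.maxM, hL, ?_, hX'S.trans hS'M, hX', ?_, hs2L⟩
  · exact mem_kappa_of_fixed hs2 hsM hsM1.2.2.2.2 (hX'S.trans hS'M) hX' fun e =>
      BG11.ne_bot_of_card_prime hQc (le_bot_iff.1 (e ▸
        le_inf (hQ.trans inf_le_left) (le_centralizer_iff.1 (hX'S.trans hS'Q))))
  · obtain ⟨K, hK, hNK⟩ := minSimple_exists_coatom hG (minSimple_normalizer_ne_top hG
      (BG11.ne_bot_of_card_prime hX') (minSimple_ne_top_of_isPGroup hG
        (isPGroup_of_card_prime hX')))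
    exact huniq K hK ((centralizer_le_normalizer _).trans hNK) ▸ hNK

end KappaTauTwo

/-- BG 13.13: if `p ∈ κ(M)` and `N(P) ≤ H` for `#P = p`, `P ≤ M`, then `p ∈ σ(H)` and `H ≠ M`. -/
theorem kappa_sigma_normalizer [Fact p.Prime] (F : BG13Facts G) (hG : Cfsg.IsMinSimpleOddOrder G)
    (hM : IsCoatom M) (hp : p ∈ Cfsg.kappa M) (hPM : P ≤ M) (hP : Nat.card P = p)
    (hH : IsCoatom H) (hN : normalizer (P : Set G) ≤ H) :
    p ∈ Cfsg.sigma H ∧ H ≠ M := by
  refine ⟨by_contra fun hpH => ?_, fun e => not_normalizer_le_of_rank_one F hG hM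
    (kappa_not_sigma hp) (kappa_pRankLE_one hp) hP (e ▸ hN)⟩
  exact KappaTauTwo.false_of F hG
    ⟨hM, hH, hp, hPM, hP, hN, BG13.tau_two_of_normalizer_le F.bg12 hG hH hpH hP hN⟩
    (Or.inr fun s _ X L hs1 c => c.false_of F hG (Or.inl hs1))

end CfsgLib.OddOrder.BG14
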