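import Cfsg.Agent.OddOrder.BG14.Zhat
import Cfsg.Agent.OddOrder.BG3.Prop310

/-!
# BG 14.7, first part: the maximal subgroups over `N(X)`, `X ≤ K` of prime order
-/

set_option autoImplicit false
set_option linter.style.haveILetI false
set_option linter.unusedSectionVars false

namespace CfsgLib.OddOrder.BG14

open Cfsg Subgroup
open CfsgLib.OddOrder
open CfsgLib.OddOrder.BG11
open CfsgLib.OddOrder.BG13
open CfsgLib.ConjFunctor (IsSylowIn exists_isSylowIn_ge)

variable {G : Type*} [Group G] [Finite G] {p : ℕ} {M E K U X L : Subgroup G}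

/-- `M` is of type `P₁` when every prime of `M` outside `σ(M)` is in `κ(M)`. -/
abbrev IsP1 (M : Subgroup G) : Prop :=
  ∀ r : ℕ, r.Prime → r ∣ Nat.card M → r ∉ Cfsg.sigma M → r ∈ Cfsg.kappa M

variable (F : BG13Facts G) (hG : Cfsg.IsMinSimpleOddOrder G)
include F hG

theorem PTypeData.U_eq_bot_iff (d : PTypeData M E K U) (hM : IsCoatom M)
    (hK : Cfsg.IsPiHallOf (Cfsg.kappa M) K M) : U = ⊥ ↔ IsP1 M := by
  constructor
  · intro hU r hr hd hs
    haveI := Fact.mk hr
    have h := dvd_card_complIn F hG hM d.compl hs hd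
    rw [← d.sup, hU, bot_sup_eq] at h
    exact hK.2.1 r hr h
  · intro h
    by_contra hU
    obtain ⟨r, _, R, hR, hRc⟩ := exists_prime_subgroup hU
    obtain ⟨-, hk, hs⟩ := d.hallU.2.1 r Fact.out (dvd_card_of_card_le hR hRc)
    exact hk (h r Fact.out (dvd_card_of_card_le (hR.trans d.hallU.1) hRc) hs)

/-- `C_{M_σ}(U) = 1` when `U ≠ 1`. -/
theorem PTypeData.inf_centralizer_U (d : PTypeData M E K U) (hM : IsCoatom M) (hU : U ≠ ⊥) :
    Cfsg.sigmaCore M ⊓ centralizer (U : Set G) = ⊥ := by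
  obtain ⟨r, _, R, hR, hRc⟩ := exists_prime_subgroup hU
  obtain ⟨hrp, hk, hs⟩ := d.hallU.2.1 r Fact.out (dvd_card_of_card_le hR hRc)
  obtain ⟨T, -, hT⟩ := exists_isSylowIn_ge hR (isPGroup_of_card_prime hRc)
  have hTM : IsSylowIn r T M := ⟨hT.le.trans d.hallU.1, hT.isPGroup, fun hd => by
    rw [← relIndex_mul_relIndex T U M hT.le d.hallU.1] at hd
    exact (hrp.dvd_mul.1 hd).elim hT.not_dvd (d.hallU.2.2 r hrp ⟨hrp, hk, hs⟩)⟩
  rw [← le_bot_iff, ← (regular_of_not_kappa F hG hM (dvd_card_of_card_le (hR.trans d.hallU.1) hRc)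
    hs hk hTM).2.1]
  exact inf_le_inf_left _ (centralizer_le (SetLike.coe_subset_coe.2
    ((closure_le _).2 fun x hx => hT.le hx.1)))

/-- `K` has prime order when `U ≠ 1`. -/
theorem PTypeData.prime_card (d : PTypeData M E K U) (hM : IsCoatom M)
    (hK : Cfsg.IsPiHallOf (Cfsg.kappa M) K M) (hK1 : K ≠ ⊥) (hU : U ≠ ⊥) :
    (Nat.card K).Prime := by
  obtain ⟨p, _, X, hX, hXc⟩ := exists_prime_subgroup hK1
  refine (prime_card_of_frobenius_action hK1 d.inf (d.KE.trans d.normU) d.semiregular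
    (fun e => d.fixed_ne_bot F hG hK hX hXc (le_bot_iff.1 (e ▸ inf_le_left)))
    (d.nilpotent_of_U F hG hM hU) ((d.UE.trans d.compl.1).trans (le_normalizer_sigmaCore M))
    (hK.1.trans (le_normalizer_sigmaCore M)) ?_ (d.inf_centralizer_U F hG hM hU) d.semiprime).1
  rw [d.sup]
  exact (coprime_of_isPiSubgroup_not (isPiSubgroup_sigmaCore M)
    fun r hr hd => complIn_not_sigma F hG hM d.compl hr hd).symm

/-- For `X ≤ K` of prime order and `N(X) ≤ L`: `L` has a Hall `κ(L)`-subgroup `K'` with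
`K' C_{L_σ}(K') = K K*` and `C_{L_σ}(K') = K ∩ L_σ`. -/
theorem member_structure [Fact p.Prime] (d : PTypeData M E K U) (hM : IsCoatom M)
    (hK : Cfsg.IsPiHallOf (Cfsg.kappa M) K M) (hX : X ≤ K) (hXc : Nat.card X = p)
    (hL : IsCoatom L) (hN : normalizer (X : Set G) ≤ L) :
    ∃ E' K' U' : Subgroup G, PTypeData L E' K' U' ∧ Cfsg.IsPiHallOf (Cfsg.kappa L) K' L ∧
      K' ≠ ⊥ ∧ Cfsg.sigmaCore M ⊓ centralizer (K : Set G) ≤ K' ∧
      Cfsg.sigmaCore L ⊓ centralizer (K' : Set G) = K ⊓ Cfsg.sigmaCore L ∧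
      K' ⊔ (Cfsg.sigmaCore L ⊓ centralizer (K' : Set G)) =
        K ⊔ (Cfsg.sigmaCore M ⊓ centralizer (K : Set G)) := by
  set S := Cfsg.sigmaCore M ⊓ centralizer (K : Set G)
  have hS1 : S ≠ ⊥ := d.fixed_ne_bot F hG hK hX hXc
  have hp := d.kappa_of_prime F hG hK hX hXc Fact.out
  have hXM : X ≤ M := hX.trans hK.1
  obtain ⟨hnc, hdis, hXL⟩ := kappa_normalizer_nonconj F hG hM hp hXM hXc hL hN
  have hKL : K ≤ L := (d.primeNormal X hX (by rw [hXc]; exact Fact.out)).trans hN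
  have hSX : S = Cfsg.sigmaCore M ⊓ centralizer (X : Set G) := (d.fixed_eq F hG hX hXc).symm
  have hSL : S ≤ L := hSX ▸ inf_le_right.trans ((centralizer_le_normalizer _).trans hN)
  have hSK : S ≤ centralizer (K : Set G) := inf_le_right
  have hfix : ∀ (q : ℕ) [Fact q.Prime] (Q : Subgroup G), Q ≤ S → Nat.card Q = q →
      q ∈ Cfsg.kappa L ∧ normalizer (Q : Set G) ≤ M := fun q _ Q hQ hQc =>
    kappa_fixed_prime F hG hM hp hXM hXc hL hN (hSX ▸ hQ) hQc
  obtain ⟨q, _, Q, hQ, hQc⟩ := exists_prime_subgroup hS1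
  obtain ⟨hqL, hNQ⟩ := hfix q Q hQ hQc
  have hsolK : Group.IsSolvable K := minSimple_solvable hG (ne_top_of_le_ne_top hL.1 hKL)
  obtain ⟨Kb, hKb⟩ := exists_isPiHallOf (Cfsg.sigma L)ᶜ hsolK
  have hKbK : Kb ≤ K := hKb.1
  have hKbS : Kb ≤ normalizer (S : Set G) :=
    (hKbK.trans (le_centralizer_iff.1 hSK)).trans (centralizer_le_normalizer _)
  have hV : IsPiSubgroup (Cfsg.kappa L) (S ⊔ Kb) := by
    intro r hr hd
    haveI := Fact.mk hr
    rcases hr.dvd_mul.1 (hd.trans (BG13.card_sup_dvd_mul hKbS)) with h | h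
    · obtain ⟨x, hx⟩ := exists_prime_orderOf_dvd_card' (G := S) r h
      exact (hfix r _ (zpowers_le.2 x.2) (by rw [Nat.card_zpowers, Subgroup.orderOf_coe, hx])).1
    · have hrL : r ∉ Cfsg.sigma L := hKb.2.1 r hr h
      obtain ⟨y, hy⟩ := exists_prime_orderOf_dvd_card' (G := Kb) r h
      set Y := zpowers (y : G)
      have hYc : Nat.card Y = r := by rw [Nat.card_zpowers, Subgroup.orderOf_coe, hy]
      have hYK : Y ≤ K := (zpowers_le.2 y.2).trans hKbK
      have hrp : r ≠ p := fun e => hrL (e ▸ (kappa_sigma_normalizer F hG hM hp hXM hXc hL hN).1)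
      have hXY : X ≤ centralizer (Y : Set G) := le_centralizer_of_coprime
        (hX.trans (d.primeNormal Y hYK (by rw [hYc]; exact hr)))
        (hYK.trans (d.primeNormal X hX (by rw [hXc]; exact Fact.out)))
        (by rw [hXc, hYc]; exact (Nat.coprime_primes Fact.out hr).2 hrp.symm)
      refine (kappa_or_tau2 F hG hL hrL (hYK.trans hKL) hYc fun e =>
        BG11.ne_bot_of_card_prime hXc (le_bot_iff.1 (e ▸ le_inf hXL hXY))).resolve_right fun h2 => ?_
      exact kappa_tau2_no_fix F hG hL hqL (hQ.trans hSL) hQc h2 hYc (le_inf (hYK.trans hKL)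
        (hYK.trans (le_centralizer_iff.1 (hQ.trans hSK))))
  obtain ⟨K', hK', hVK'⟩ := exists_isPiHallOf_ge (minSimple_coatom_solvable hG hL)
    (sup_le hSL (hKbK.trans hKL)) hV
  have hSK' : S ≤ K' := le_sup_left.trans hVK'
  have hK'1 : K' ≠ ⊥ := fun e => hS1 (le_bot_iff.1 (e ▸ hSK'))
  obtain ⟨E', U', d'⟩ := exists_pTypeData F hG hL hK' hK'1
  set D := Cfsg.sigmaCore L ⊓ centralizer (K' : Set G)
  have hDQ : Cfsg.sigmaCore L ⊓ centralizer (Q : Set G) = D := d'.fixed_eq F hG (hQ.trans hSK') hQc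
  have hKD : K ⊓ Cfsg.sigmaCore L ≤ D := hDQ ▸
    le_inf inf_le_right (inf_le_left.trans (le_centralizer_iff.1 (hQ.trans hSK)))
  have hDM : D ≤ M := hDQ ▸ inf_le_right.trans ((centralizer_le_normalizer _).trans hNQ)
  have hKnD : K ≤ normalizer (D : Set G) := hDQ ▸ (le_inf (hKL.trans (le_normalizer_sigmaCore L))
    (((le_centralizer_iff.1 (hQ.trans hSK)).trans (centralizer_le_normalizer _)).trans
      (normalizer_le_normalizer_centralizer_subgroup Q))).trans inf_normalizer_le_normalizer_inf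
  have hDK : D ≤ K := by
    refine le_sup_left.trans (le_of_isPiHallOf_le hK le_sup_right (sup_le hDM hK.1) fun r hr hd => ?_)
    haveI := Fact.mk hr
    rcases hr.dvd_mul.1 (hd.trans (BG13.card_sup_dvd_mul hKnD)) with h | h
    · obtain ⟨x, hx⟩ := exists_prime_orderOf_dvd_card' (G := D) r h
      exact (kappa_fixed_prime F hG hL hqL (hQ.trans hSL) hQc hM hNQ
        ((zpowers_le.2 x.2).trans hDQ.ge) (by rw [Nat.card_zpowers, Subgroup.orderOf_coe, hx])).1
    · exact hK.2.1 r hr h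
  have hD : D = K ⊓ Cfsg.sigmaCore L := le_antisymm (le_inf hDK inf_le_left) hKD
  refine ⟨E', K', U', d', hK', hK'1, hSK', hD, le_antisymm (sup_le ?_ ?_) (sup_le ?_ ?_)⟩
  · rw [← d.inf_normalizer F hG hK hX hXc]
    refine le_inf ((d'.primeNormal Q (hQ.trans hSK') (by rw [hQc]; exact Fact.out)).trans hNQ) ?_
    exact (le_centralizer_iff.1 (inf_le_right : D ≤ _)).trans
      ((centralizer_le (SetLike.coe_subset_coe.2
        (show X ≤ D from hKD.trans' (le_inf hX hXL)))).trans (centralizer_le_normalizer _))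
  · exact hDK.trans le_sup_left
  · have hHall : Cfsg.IsPiHallOf (Cfsg.sigma L) (K ⊓ Cfsg.sigmaCore L) K :=
      ⟨inf_le_left, isPiSubgroup_mono inf_le_right (isPiSubgroup_sigmaCore L), fun r hr hrσ hd => by
        haveI := Fact.mk hr
        obtain ⟨T, hT⟩ := BG11.exists_isSylowIn (p := r) K
        exact hT.not_dvd (hd.trans (relIndex_dvd_of_le_left _
          (le_inf hT.le (pGroup_le_sigmaCore F.bg12.bg10 hL hrσ (hT.le.trans hKL) hT.isPGroup))))⟩
    obtain ⟨-, -, -, hprod⟩ := isComplIn_of_isPiHallOf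
      ((le_inf le_normalizer (hKL.trans (le_normalizer_sigmaCore L))).trans
        inf_normalizer_le_normalizer_inf) hHall hKb fun r _ => Iff.rfl
    intro k hk
    obtain ⟨a, ha, b, hb, rfl⟩ := hprod k hk
    exact mul_mem (mem_sup_left (hVK' (mem_sup_right ha))) (mem_sup_right (hKD hb))
  · exact hSK'.trans le_sup_left

end CfsgLib.OddOrder.BG14
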