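import Cfsg.Agent.OddOrder.BG14.Member
import Cfsg.Agent.OddOrder.BG14.SupportCover

/-!
# BG 14.7: not all of `M` and its members are of type `P₁` (the counting argument)
-/

set_option autoImplicit false
set_option linter.style.haveILetI false
set_option linter.unusedSectionVars false

namespace CfsgLib.OddOrder.BG14

open Cfsg Subgroup
open CfsgLib.OddOrder
open CfsgLib.OddOrder.BG11
open CfsgLib.OddOrder.BG13
open CfsgLib.PiClasses69 (IsPi IsPiCompl piPart piComplPart)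

variable {G : Type*} [Group G] [Finite G] {M E K U : Subgroup G}
variable (F : BG13Facts G) (hG : Cfsg.IsMinSimpleOddOrder G)
include F hG

/-- Not all of `M` and the maximal subgroups over `N(X)`, `X ≤ K` of prime order, are of type
`P₁`. -/
theorem exists_not_p1 (d : PTypeData M E K U) (hM : IsCoatom M)
    (hK : Cfsg.IsPiHallOf (Cfsg.kappa M) K M) (hK1 : K ≠ ⊥) :
    ¬ IsP1 M ∨ ∃ (p : ℕ) (X L : Subgroup G), p.Prime ∧ X ≤ K ∧ Nat.card X = p ∧ IsCoatom L ∧
      normalizer (X : Set G) ≤ L ∧ ¬ IsP1 L := by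
  classical
  haveI := Fintype.ofFinite G
  by_contra hcon
  push Not at hcon
  obtain ⟨hP1, hP1'⟩ := hcon
  set S := Cfsg.sigmaCore M ⊓ centralizer (K : Set G)
  set Z := K ⊔ S
  set mem : Set (Subgroup G) := {L | L = M ∨ ∃ (p : ℕ) (X : Subgroup G), p.Prime ∧ X ≤ K ∧
    Nat.card X = p ∧ IsCoatom L ∧ normalizer (X : Set G) ≤ L}
  obtain ⟨p₀, hp₀, X₀, hX₀, hX₀c⟩ := exists_prime_subgroup hK1
  -- the common structure of the members
  have hmem : ∀ L ∈ mem, IsCoatom L ∧ IsP1 L ∧ ∃ E' K' U' : Subgroup G, PTypeData L E' K' U' ∧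
      Cfsg.IsPiHallOf (Cfsg.kappa L) K' L ∧ K' ≠ ⊥ ∧
      K' ⊔ (Cfsg.sigmaCore L ⊓ centralizer (K' : Set G)) = Z := by
    rintro L (rfl | ⟨p, X, hp, hX, hXc, hL, hN⟩)
    · exact ⟨hM, hP1, E, K, U, d, hK, hK1, rfl⟩
    · haveI := Fact.mk hp
      obtain ⟨E', K', U', d', hK', hK'1, -, -, hZ⟩ :=
        member_structure F hG d hM hK hX hXc hL hN
      exact ⟨hL, hP1' p X L hp hX hXc hL hN, E', K', U', d', hK', hK'1, hZ⟩
  have hZn : ∀ L ∈ mem, Z ≤ normalizer (Cfsg.sigmaCore L : Set G) := by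
    intro L hL
    obtain ⟨-, -, E', K', U', -, hK', -, hZ⟩ := hmem L hL
    rw [← hZ]
    exact (sup_le hK'.1 (inf_le_left.trans (sigmaCore_le L))).trans (le_normalizer_sigmaCore L)
  have hcore : ∀ L ∈ mem, ∀ K' : Subgroup G, Cfsg.IsPiHallOf (Cfsg.kappa L) K' L →
      K' ⊔ (Cfsg.sigmaCore L ⊓ centralizer (K' : Set G)) = Z →
      Z ⊓ Cfsg.sigmaCore L = Cfsg.sigmaCore L ⊓ centralizer (K' : Set G) := by
    intro L hL K' hK' hZ
    refine le_antisymm (fun x hx => ?_) (le_inf (hZ ▸ le_sup_right) inf_le_left)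
    obtain ⟨k, hk, s, hs, rfl, -, -⟩ := kstar_mul_mem hK' (hZ.symm ▸ (mem_inf.1 hx).1 :)
    have hk1 : k ∈ K' ⊓ Cfsg.sigmaCore L :=
      mem_inf.2 ⟨hk, (Subgroup.mul_mem_cancel_right _ hs.1).1 (mem_inf.1 hx).2⟩
    rw [kstar_inf_eq_bot hK', mem_bot] at hk1
    rw [hk1, one_mul]
    exact hs
  have hnc : ∀ L ∈ mem, ∀ L' ∈ mem, L ≠ L' → ∀ g : G, L' ≠ L.map (MulAut.conj g).toMonoidHom := by
    intro L hL L' hL' hne g e
    rcases hL' with rfl | ⟨p, X, hp, hX, hXc, hL'c, hN'⟩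
    · rcases hL with rfl | ⟨p, X, hp, hX, hXc, hLc, hN⟩
      · exact hne rfl
      · haveI := Fact.mk hp
        obtain ⟨h, -, -⟩ := kappa_normalizer_nonconj F hG hM (d.kappa_of_prime F hG hK hX hXc hp)
          (hX.trans hK.1) hXc hLc hN
        exact not_conj_symm h g e
    · haveI := Fact.mk hp
      have hpκ := d.kappa_of_prime F hG hK hX hXc hp
      have hpL' := (kappa_sigma_normalizer F hG hM hpκ (hX.trans hK.1) hXc hL'c hN').1
      obtain ⟨hLc, -, E₁, K₁, U₁, -, hK₁, -, hZ₁⟩ := hmem L hL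
      refine hne (eq_of_conj_of_normalizer_le F.bg12.bg10 hG hLc ?_ (isPGroup_of_card_prime hXc)
        (BG11.ne_bot_of_card_prime hXc) ?_ hN' e).symm
      · rw [e, sigma_map_conj] at hpL'; exact hpL'
      · exact (hX.trans (le_sup_left : K ≤ Z)).trans
          (hZ₁.symm.le.trans (sup_le hK₁.1 (inf_le_left.trans (sigmaCore_le L))))
  -- the elements of `Z` in no `L_σ`
  set T : Set G := {t | t ∈ Z ∧ ∀ L ∈ mem, t ∉ Cfsg.sigmaCore L}
  have hMmem : M ∈ mem := Or.inl rfl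
  have hTr : ∀ t ∈ T, ∃ r, r.Prime ∧ r ∣ orderOf t ∧ ∃ L ∈ mem, r ∈ Cfsg.sigma L := by
    intro t ht
    have ht1 : t ≠ 1 := fun e => ht.2 M hMmem (e ▸ one_mem _)
    obtain ⟨k, hk, s, hs, he, -, hpk⟩ := kstar_mul_mem hK ht.1
    have hk1 : k ≠ 1 := fun e => ht.2 M hMmem (by rw [he, e, one_mul]; exact hs.1)
    obtain ⟨r, _, Y, hY, hYc⟩ := exists_prime_subgroup (S := zpowers k) (by simpa using hk1)
    have hYK : Y ≤ K := hY.trans (zpowers_le.2 hk)
    obtain ⟨L, hL, hNL⟩ := minSimple_exists_coatom hG (minSimple_normalizer_ne_top hG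
      (BG11.ne_bot_of_card_prime hYc) (minSimple_ne_top_of_isPGroup hG (isPGroup_of_card_prime hYc)))
    refine ⟨r, Fact.out, ?_, L, Or.inr ⟨r, Y, Fact.out, hYK, hYc, hL, hNL⟩,
      (kappa_sigma_normalizer F hG hM (d.kappa_of_prime F hG hK hYK hYc Fact.out)
        (hYK.trans hK.1) hYc hL hNL).1⟩
    refine (Nat.card_zpowers k ▸ dvd_card_of_card_le hY hYc).trans ?_
    rw [← hpk]
    exact orderOf_dvd_of_mem_zpowers
      (mul_mem (inv_mem (pow_mem (mem_zpowers t) _)) (mem_zpowers t))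
  have hTz : ∀ t ∈ T, ∀ r, r.Prime → r ∣ orderOf t → ∀ L ∈ mem, r ∈ Cfsg.sigma L →
      ∀ K' : Subgroup G, Cfsg.IsPiHallOf (Cfsg.kappa L) K' L →
        K' ⊔ (Cfsg.sigmaCore L ⊓ centralizer (K' : Set G)) = Z →
          t ∈ zhat K' (Cfsg.sigmaCore L ⊓ centralizer (K' : Set G)) := by
    intro t ht r hr hrd L hL hrL K' hK' hZ
    refine ⟨hZ.symm ▸ ht.1, ?_⟩
    rintro (h | h)
    · exact kappa_not_sigma (hK'.2.1 r hr (hrd.trans (K'.orderOf_dvd_natCard h))) hrL
    · exact ht.2 L hL h.1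
  have hord : ∀ g x : G, orderOf (g * x * g⁻¹) = orderOf x := fun g x => by
    rw [← MulAut.conj_apply, MulEquiv.orderOf_eq]
  have hTcount : Set.ncard (conjUnion T) * Nat.card Z = Set.ncard T * Nat.card G := by
    refine ncard_conjUnion (fun g hg z hz => ⟨mul_mem (mul_mem hg hz.1) (inv_mem hg),
      fun L hL h => hz.2 L hL ((mem_normalizer_iff.1 (hZn L hL hg) z).2 h)⟩) fun g z hz hgz => ?_
    obtain ⟨r, hr, hrd, L, hL, hrL⟩ := hTr z hz
    obtain ⟨hLc, -, E', K', U', d', hK', hK'1, hZ⟩ := hmem L hL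
    rw [← hZ]
    exact zhat_ti F hG d' hLc hK' hK'1 (hTz z hz r hr hrd L hL hrL K' hK' hZ)
      (hTz _ hgz r hr ((hord g z).symm ▸ hrd) L hL hrL K' hK' hZ)
  -- the finite family
  set fam := (Set.toFinite mem).toFinset
  have hfam : ∀ L, L ∈ fam ↔ L ∈ mem := fun L => Set.Finite.mem_toFinset _
  set tl : Subgroup G → Set G :=
    fun L => Cfsg.tildeOf L ((Cfsg.sigmaCore L : Set G) \ {1})
  set z : Subgroup G → ℕ := fun L => Nat.card ↥(Z ⊓ Cfsg.sigmaCore L)
  have hFF := fixFacts F hG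
  have htl : ∀ L ∈ mem, 3 * z L * Nat.card G ≤
      3 * Nat.card Z * (tl L).ncard + Nat.card G := by
    intro L hL
    obtain ⟨hLc, hLP, E', K', U', d', hK', hK'1, hZ⟩ := hmem L hL
    set S' := Cfsg.sigmaCore L ⊓ centralizer (K' : Set G)
    have hz : z L = Nat.card S' :=
      congrArg (fun A : Subgroup G => Nat.card A) (hcore L hL K' hK' hZ)
    have hE : E' = K' := by
      rw [← d'.sup, (d'.U_eq_bot_iff F hG hLc hK').2 hLP, bot_sup_eq]
    have hcardL : Nat.card L = Nat.card (Cfsg.sigmaCore L) * Nat.card K' := by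
      conv_lhs => rw [← complIn_sup_eq F hG d'.compl, hE, sup_comm]
      exact Coprime.card_sup_eq (hK'.1.trans (le_normalizer_sigmaCore L))
        ((inf_comm _ _).trans (kstar_inf_eq_bot hK'))
    have hZc : Nat.card Z = Nat.card K' * Nat.card S' := by rw [← hZ, card_kstar_sup hK']
    have h3 : 3 * Nat.card S' ≤ Nat.card (Cfsg.sigmaCore L) := by
      obtain ⟨q, _, X, hX, hXc⟩ := exists_prime_subgroup hK'1
      obtain ⟨s, _, Q, hQ, hQc⟩ := exists_prime_subgroup (d'.fixed_ne_bot F hG hK' hX hXc)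
      obtain ⟨P, hP⟩ := BG11.exists_isSylowIn (p := s) (Cfsg.sigmaCore L)
      have hnot := ((d'.kstar_unique F hG hLc hK' hK'1 hQ hQc).2.2 P hP).2
      have hle : S' ≤ Cfsg.sigmaCore L := inf_le_left
      have hmul := card_mul_relIndex hle
      have hne : S'.relIndex (Cfsg.sigmaCore L) ≠ 1 := fun h =>
        hnot (hP.le.trans (relIndex_eq_one.1 h))
      have hodd : Odd (S'.relIndex (Cfsg.sigmaCore L)) :=
        (Nat.odd_mul.1 (hmul.symm ▸ minSimple_odd_subgroup hG (Cfsg.sigmaCore L))).2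
      obtain ⟨i, hi⟩ := hodd
      calc 3 * Nat.card S' = Nat.card S' * 3 := mul_comm _ _
        _ ≤ Nat.card S' * S'.relIndex (Cfsg.sigmaCore L) := Nat.mul_le_mul_left _ (by omega)
        _ = _ := hmul
    have hb := ncard_tildeOf F hFF hG hLc
    have hGc : Nat.card G = Nat.card (Cfsg.sigmaCore L) * Nat.card K' * L.index := by
      rw [← hcardL, card_mul_index]
    have hs1 : 1 ≤ Nat.card (Cfsg.sigmaCore L) := Nat.card_pos
    obtain ⟨m, hm⟩ : ∃ m, Nat.card (Cfsg.sigmaCore L) = m + 1 := ⟨_, (Nat.sub_add_cancel hs1).symm⟩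
    rw [show (tl L).ncard = (Nat.card (Cfsg.sigmaCore L) - 1) * L.index from hb, hz, hZc, hGc, hm,
      Nat.add_sub_cancel]
    rw [hm] at h3
    nlinarith [Nat.mul_le_mul_right (Nat.card K' * L.index) h3]
  -- disjointness
  have hdisj : (fam : Set (Subgroup G)).Pairwise fun L L' => Disjoint (tl L) (tl L') := by
    intro L hL L' hL' hne
    rw [Finset.mem_coe, hfam] at hL hL'
    rw [Set.disjoint_iff_inter_eq_empty]
    exact tildeOf_inter_eq_empty F hFF hG (hmem L hL).1 (hmem L' hL').1 (hnc L hL L' hL' hne)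
  have hdisjT : ∀ L ∈ mem, Disjoint (conjUnion T) (tl L) := by
    intro L hL
    rw [Set.disjoint_left]
    rintro _ ⟨g, t, ht, rfl⟩ hmemL
    obtain ⟨r, hr, hrd, L', hL', hrL⟩ := hTr t ht
    obtain ⟨hL'c, -, E', K', U', d', hK', hK'1, hZ⟩ := hmem L' hL'
    exact zhat_not_mem_tildeOf F hG hL'c (hmem L hL).1 hK'
      (hTz t ht r hr hrd L' hL' hrL K' hK' hZ) ((tildeOf_conj_iff g).1 hmemL)
  have htot : (conjUnion T).ncard + ∑ L ∈ fam, (tl L).ncard ≤ Nat.card G := by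
    rw [← Set.ncard_univ]
    have h1 : ∑ L ∈ fam, (tl L).ncard = (⋃ L ∈ fam, tl L).ncard := by
      have h2 : (fam.biUnion fun L => (tl L).toFinset).card = ∑ L ∈ fam, (tl L).ncard := by
        rw [Finset.card_biUnion fun L hL L' hL' hne => Set.disjoint_toFinset.2 (hdisj hL hL' hne)]
        exact Finset.sum_congr rfl fun L _ => (Set.ncard_eq_toFinset_card' _).symm
      rw [← h2, ← Set.ncard_coe_finset]
      congr 1
      simp
    rw [h1, ← Set.ncard_union_eq ?_ (Set.toFinite _) (Set.toFinite _)]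
    · exact Set.ncard_le_ncard (Set.subset_univ _) (Set.toFinite _)
    · simp only [Set.disjoint_iUnion_right]
      exact fun L hL => hdisjT L ((hfam L).1 hL)
  -- the covering of `Z`
  have hcov : Nat.card Z + fam.card ≤ T.ncard + 1 + ∑ L ∈ fam, z L := by
    have hsub : (Z : Set G) ⊆ T ∪ {1} ∪ ⋃ L ∈ fam, ((↑(Z ⊓ Cfsg.sigmaCore L) : Set G) \ {1}) := by
      intro x hx
      by_cases hx1 : x = 1
      · exact Or.inl (Or.inr hx1)
      by_cases hxT : x ∈ T
      · exact Or.inl (Or.inl hxT)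
      obtain ⟨L, hL, hxL⟩ : ∃ L ∈ mem, x ∈ Cfsg.sigmaCore L := by
        by_contra h
        push Not at h
        exact hxT ⟨hx, h⟩
      exact Or.inr (Set.mem_biUnion ((hfam L).2 hL) ⟨mem_inf.2 ⟨hx, hxL⟩, hx1⟩)
    have h1 := Set.ncard_le_ncard hsub (Set.toFinite _)
    have h2 := Set.ncard_union_le (T ∪ {1})
      (⋃ L ∈ fam, ((↑(Z ⊓ Cfsg.sigmaCore L) : Set G) \ {1}))
    have h3 := Set.ncard_union_le T ({1} : Set G)
    have h4 := Finset.set_ncard_biUnion_le fam fun L => ((↑(Z ⊓ Cfsg.sigmaCore L) : Set G) \ {1})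
    have h5 : ∀ L ∈ fam, ((↑(Z ⊓ Cfsg.sigmaCore L) : Set G) \ {1}).ncard + 1 = z L := fun L _ => by
      rw [Set.ncard_sdiff_singleton_add_one (one_mem (Z ⊓ Cfsg.sigmaCore L)) (Set.toFinite _),
        ← Nat.card_coe_set_eq]
      rfl
    have h6 := Finset.sum_congr rfl h5
    rw [Finset.sum_add_distrib, Finset.sum_const, smul_eq_mul, mul_one] at h6
    rw [Set.ncard_singleton] at h3
    rw [← Nat.card_coe_set_eq, show Nat.card ↑(Z : Set G) = Nat.card Z from rfl] at h1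
    have h7 : fam.sum z = ∑ L ∈ fam, z L := rfl
    omega
  have hsum : 3 * (∑ L ∈ fam, z L) * Nat.card G ≤
      3 * Nat.card Z * (∑ L ∈ fam, (tl L).ncard) + fam.card * Nat.card G := by
    rw [Finset.mul_sum, Finset.sum_mul, Finset.mul_sum, ← smul_eq_mul (a := fam.card),
      ← Finset.sum_const, ← Finset.sum_add_distrib]
    exact Finset.sum_le_sum fun L hL => htl L ((hfam L).1 hL)
  have htwo : 1 < fam.card := by
    haveI := hp₀
    obtain ⟨L, hL, hNL⟩ := minSimple_exists_coatom hG (minSimple_normalizer_ne_top hG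
      (BG11.ne_bot_of_card_prime hX₀c) (minSimple_ne_top_of_isPGroup hG (isPGroup_of_card_prime hX₀c)))
    exact Finset.one_lt_card.2 ⟨M, (hfam M).2 hMmem, L,
      (hfam L).2 (Or.inr ⟨p₀, X₀, hp₀.out, hX₀, hX₀c, hL, hNL⟩),
      ((kappa_sigma_normalizer F hG hM (d.kappa_of_prime F hG hK hX₀ hX₀c hp₀.out)
        (hX₀.trans hK.1) hX₀c hL hNL).2).symm⟩
  have hGpos : 0 < Nat.card G := Nat.card_pos
  nlinarith [Nat.mul_le_mul_left (3 * Nat.card Z) htot, Nat.mul_le_mul_right (3 * Nat.card G) hcov,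
    hsum, hTcount, Nat.mul_le_mul_right (Nat.card G) htwo]

end CfsgLib.OddOrder.BG14
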