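import Cfsg.Agent.OddOrder.BG14.TauThreeMove
import Cfsg.Agent.OddOrder.BG3.KernelNilpotent

/-!
# BG 14.2: the structure of `M` when `κ(M)` is not empty

For a Hall `κ(M)`-subgroup `K ≠ 1` there are a complement `E ≥ K` of `M_σ` and a normal abelian
`κ(M)'`-Hall subgroup `U` of `E` on which `K` acts semiregularly; `K` acts semiprimely on `M_σ`
and normalizes each of its subgroups of prime order.
-/

set_option autoImplicit false
set_option linter.style.haveILetI false
set_option linter.unusedSectionVars false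

namespace CfsgLib.OddOrder.BG14

open Cfsg Subgroup
open CfsgLib.OddOrder
open CfsgLib.OddOrder.BG11
open CfsgLib.OddOrder.BG13
open CfsgLib.ConjFunctor (IsSylowIn exists_isSylowIn_ge)

variable {G : Type*} [Group G] [Finite G] {p q r : ℕ} {M E K U : Subgroup G}

omit [Finite G] in
theorem mem_centralizer_comm_of_isMulCommutative {W : Subgroup G} (hW : IsMulCommutative W)
    {A B : Subgroup G} (hA : A ≤ W) (hB : B ≤ W) : A ≤ centralizer (B : Set G) :=
  (hA.trans (le_centralizer_self hW)).trans (centralizer_le (SetLike.coe_subset_coe.2 hB))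

theorem exists_prime_subgroup {S : Subgroup G} (hS : S ≠ ⊥) :
    ∃ (s : ℕ) (_ : Fact s.Prime) (Y : Subgroup G), Y ≤ S ∧ Nat.card Y = s := by
  obtain ⟨s, hs, hd⟩ := Nat.exists_prime_and_dvd fun h => hS (Subgroup.card_eq_one.1 h)
  haveI := Fact.mk hs
  obtain ⟨x, hx⟩ := exists_prime_orderOf_dvd_card' (G := S) s hd
  exact ⟨s, Fact.mk hs, zpowers (x : G), zpowers_le.2 x.2, by
    rw [Nat.card_zpowers, Subgroup.orderOf_coe, hx]⟩

/-- The data of BG 14.2. -/
structure PTypeData (M E K U : Subgroup G) : Prop where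
  compl : Cfsg.IsComplIn E (Cfsg.sigmaCore M) M
  KE : K ≤ E
  UE : U ≤ E
  hallU : Cfsg.IsPiHallOf {q | q.Prime ∧ q ∉ Cfsg.kappa M ∧ q ∉ Cfsg.sigma M} U M
  sup : U ⊔ K = E
  inf : U ⊓ K = ⊥
  commU : IsMulCommutative U
  normU : E ≤ normalizer (U : Set G)
  semiregular : ∀ k ∈ K, k ≠ 1 → U ⊓ centralizer ({k} : Set G) = ⊥
  semiprime : ∀ k ∈ K, k ≠ 1 →
    Cfsg.sigmaCore M ⊓ centralizer ({k} : Set G) = Cfsg.sigmaCore M ⊓ centralizer (K : Set G)
  primeNormal : ∀ X : Subgroup G, X ≤ K → (Nat.card X).Prime → K ≤ normalizer (X : Set G)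

variable (F : BG13Facts G) (hG : Cfsg.IsMinSimpleOddOrder G)
include F hG

/-- Equal fixed points of all subgroups of prime order force prime action. -/
theorem semiprime_of_prime (hM : IsCoatom M) (hE : Cfsg.IsComplIn E (Cfsg.sigmaCore M) M)
    (hKE : K ≤ E) (hr1 : ∀ s : ℕ, s.Prime → s ∣ Nat.card K → Cfsg.PRankLE s 1 M)
    {C : Subgroup G}
    (hC : ∀ (s : ℕ) [Fact s.Prime] (X : Subgroup G), X ≤ K → Nat.card X = s →
      Cfsg.sigmaCore M ⊓ centralizer (X : Set G) = C) {k : G} (hk : k ∈ K) (hk1 : k ≠ 1) :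
    Cfsg.sigmaCore M ⊓ centralizer ({k} : Set G) = Cfsg.sigmaCore M ⊓ centralizer (K : Set G) := by
  have hCσ : ∀ (s : ℕ) [Fact s.Prime] (X : Subgroup G), X ≤ K → Nat.card X = s →
      C ≤ Cfsg.sigmaCore M := fun s _ X hX hXc => hC s X hX hXc ▸ inf_le_left
  have h1 : Cfsg.sigmaCore M ⊓ centralizer ({k} : Set G) ≤ C := by
    obtain ⟨s, _, X, hX, hXc⟩ := exists_prime_subgroup (S := zpowers k) (by simpa using hk1)
    rw [← hC s X (hX.trans (zpowers_le.2 hk)) hXc, ← centralizer_zpowers]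
    exact inf_le_inf_left _ (centralizer_le (SetLike.coe_subset_coe.2 hX))
  refine le_antisymm (le_inf inf_le_left (h1.trans (le_centralizer_iff.1 ?_))) (inf_le_inf_left _
    (centralizer_subgroup_le_singleton hk))
  refine BG4.le_of_sylow_le fun s hs => ?_
  haveI := Fact.mk hs
  obtain ⟨S0⟩ : Nonempty (Sylow s K) := inferInstance
  refine ⟨S0, ?_⟩
  set S := (S0 : Subgroup K).map K.subtype
  have hSp : IsPGroup s S := S0.2.map _
  by_cases hS1 : S = ⊥
  · rw [hS1]; exact bot_le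
  obtain ⟨X, hXS, hX⟩ := exists_card_prime_le hSp hS1
  have hXK : X ≤ K := hXS.trans (map_subtype_le _)
  obtain ⟨T, hST, hT⟩ := exists_isSylowIn_ge ((map_subtype_le _).trans hKE) hSp
  obtain ⟨x, hx, hx1⟩ := exists_mem_ne_one_of_card hX
  have h2 := F.cyclicPrimeAction M hM E hE s T hT
    (isCyclic_of_pRankLE_one (hT.le.trans hE.1) hT.isPGroup
      (minSimple_prime_ne_two_subgroup hG (dvd_card_of_card_le le_rfl hX))
      (hr1 s hs (dvd_card_of_card_le hXK hX))) x (hST (hXS hx)) hx1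
  rw [← centralizer_eq_singleton_of_card hX hx hx1, hC s X hXK hX] at h2
  exact hST.trans (le_centralizer_iff.1 (h2 ▸ inf_le_right))

/-- In a complement with a non-regular `τ₃`-subgroup `R` of prime order, every other subgroup of
prime order commutes with `R`. -/
theorem le_centralizer_nonregular [Fact p.Prime] [Fact r.Prime] (hM : IsCoatom M)
    (hE : Cfsg.IsComplIn E (Cfsg.sigmaCore M) M) {R X : Subgroup G} (hr : r ∈ Cfsg.tau3 M)
    (hRE : R ≤ E) (hR : Nat.card R = r)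
    (hfix : Cfsg.sigmaCore M ⊓ centralizer (R : Set G) ≠ ⊥) (hXE : X ≤ E)
    (hX : Nat.card X = p) : X ≤ centralizer (R : Set G) := by
  have hRn := (tau3_prime F hG hM hE hr hRE hR).2
  have hpE : p ∣ Nat.card E := dvd_card_of_card_le hXE hX
  rcases tau_cases F hG hM Fact.out (hpE.trans (card_dvd_of_le hE.1))
    (complIn_not_sigma F hG hM hE Fact.out hpE) with h | h | h
  · by_contra hnc
    exact TauThreeMove.false_of F hG
      ⟨hM, hr, h, hRE.trans hE.1, hXE.trans hE.1, hR, hX, hXE.trans hRn, hnc, hfix⟩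
  · exact absurd h (Set.eq_empty_iff_forall_notMem.1
      (tau2_empty_of_tau3_fixed F hG hM hr (hRE.trans hE.1) hR hfix) p)
  · exact mem_centralizer_comm_of_isMulCommutative
      (@IsCyclic.isMulCommutative _ _ (tau3_subgroup F hG hM hE (sup_le hXE hRE : X ⊔ R ≤ E)
        fun s hs hd => by
          rcases hs.dvd_mul.1 (hd.trans (BG13.card_sup_dvd_mul (hRE.trans
            (tau3_prime F hG hM hE h hXE hX).2))) with h' | h'
          · rw [hX, Nat.prime_dvd_prime_iff_eq hs Fact.out] at h'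
            exact h' ▸ h
          · rw [hR, Nat.prime_dvd_prime_iff_eq hs Fact.out] at h'
            exact h' ▸ hr).1) le_sup_left le_sup_right

/-- The fixed points of a non-regular `τ₃`-subgroup `R` are centralized by the subgroups of prime
order commuting with it. -/
theorem fixed_le_centralizer [Fact p.Prime] [Fact r.Prime] (hM : IsCoatom M) {R X : Subgroup G}
    (hr : r ∈ Cfsg.kappa M) (hRM : R ≤ M) (hR : Nat.card R = r) (hXM : X ≤ M)
    (hX : Nat.card X = p) (hp : p ∉ Cfsg.sigma M) (hXR : X ≤ centralizer (R : Set G)) :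
    Cfsg.sigmaCore M ⊓ centralizer (R : Set G) ≤ centralizer (X : Set G) := by
  obtain ⟨H, hH, hN, -, -, -⟩ := exists_coatom_normalizer F hG hM (kappa_not_sigma hr)
    (kappa_pRankLE_one hr) hR
  obtain ⟨-, hdis, hRH⟩ := kappa_normalizer_nonconj F hG hM hr hRM hR hH hN
  set C := Cfsg.sigmaCore M ⊓ centralizer (R : Set G)
  have hCH : C ≤ H := inf_le_right.trans ((centralizer_le_normalizer _).trans hN)
  have hXH : X ≤ H := hXR.trans ((centralizer_le_normalizer _).trans hN)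
  have hXC : X ≤ normalizer (C : Set G) :=
    (le_inf (hXM.trans (le_normalizer_sigmaCore M)) ((hXR.trans (centralizer_le_normalizer _)).trans
      (normalizer_le_normalizer_centralizer_subgroup R))).trans
      Subgroup.inf_normalizer_le_normalizer_inf
  have hcop : (Nat.card X).Coprime (Nat.card C) := by
    rw [hX]
    exact (Fact.out : p.Prime).coprime_iff_not_dvd.2 fun h => hp
      (isPiSubgroup_mono inf_le_left (isPiSubgroup_sigmaCore M) p Fact.out h)
  have hsol : Group.IsSolvable C := minSimple_solvable hG (ne_top_of_le_ne_top hH.1 hCH)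
  refine BG4.le_of_sylow_le fun q hq => ?_
  haveI := Fact.mk hq
  obtain ⟨T0, hT0⟩ := Coprime.exists_invariant_sylow hXC hcop (Or.inr hsol) q
  refine ⟨T0, ?_⟩
  set T := (T0 : Subgroup C).map C.subtype
  have hTC : T ≤ C := map_subtype_le _
  have hTp : IsPGroup q T := T0.2.map _
  by_cases hT1 : T = ⊥
  · rw [hT1]; exact bot_le
  obtain ⟨Q, hQT, hQ⟩ := exists_card_prime_le hTp hT1
  have hQH : Q ≤ H := (hQT.trans hTC).trans hCH
  obtain ⟨hqκ, -⟩ := kappa_fixed_prime F hG hM hr hRM hR hH hN (hQT.trans hTC) hQ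
  haveI hTc : IsCyclic T := isCyclic_of_pRankLE_one (hTC.trans hCH) hTp
    (minSimple_prime_ne_two_subgroup hG (dvd_card_of_card_le le_rfl hQ)) (kappa_pRankLE_one hqκ)
  refine le_centralizer_iff.1 (Coprime.le_centralizer_of_forall_prime_order hT0
    (hcop.coprime_dvd_right (card_dvd_of_le hTC)) fun v hv hvp => ?_)
  have hXQ : X ≤ normalizer (Q : Set G) := hT0.trans (normalizer_le_normalizer_of_isCyclic hTc hQT)
  have hvQ : v ∈ Q := by
    have hv1 : v ≠ 1 := fun h => by rw [h, orderOf_one] at hvp; exact Nat.not_prime_one hvp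
    obtain ⟨n, hn⟩ := IsPGroup.iff_orderOf.1 hTp ⟨v, hv⟩
    rw [Subgroup.orderOf_mk] at hn
    have hvq : orderOf v = q := (Nat.prime_dvd_prime_iff_eq hvp hq).1
      (hvp.dvd_of_dvd_pow hn.dvd)
    rw [← eq_of_card_prime_of_isCyclic hTc (zpowers_le.2 hv) hQT
      (by rw [Nat.card_zpowers, hvq]) hQ]
    exact mem_zpowers v
  suffices hXQc : X ≤ centralizer (Q : Set G) by
    exact le_centralizer_iff.1 hXQc hvQ
  by_contra hnc
  have hcomm : ⁅Q, X⁆ = Q := by
    refine eq_of_le_of_card_ge (Coprime.commutator_le_of_le_normalizer hXQ) ?_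
    rcases (Nat.dvd_prime hq).1
      (hQ ▸ card_dvd_of_le (Coprime.commutator_le_of_le_normalizer hXQ)) with h | h
    · exact absurd (le_centralizer_iff.1
        (commutator_eq_bot_iff_le_centralizer.1 (Subgroup.card_eq_one.1 h))) hnc
    · rw [h, hQ]
  have hqH : q ∉ Cfsg.sigma H := kappa_not_sigma hqκ
  by_cases hpH : p ∈ Cfsg.sigma H
  · refine hqH (isPiSubgroup_sigmaCore H q hq (dvd_card_of_card_le (hcomm.symm.le.trans ?_) hQ))
    rw [commutator_comm]
    refine (commutator_mono (pGroup_le_sigmaCore F.bg12.bg10 hH hpH hXH (isPGroup_of_card_prime hX))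
      hQH).trans ?_
    rw [commutator_comm]
    exact le_normalizer_iff_commutator_le_right.1 (le_normalizer_sigmaCore H)
  rcases kappa_tau13 F hG hqκ with h1 | h3
  · exact h1.2.2.2.1 (dvd_card_of_card_le (hcomm.symm.le.trans (commutator_mono hQH hXH)) hQ)
  obtain ⟨EH, hU, hEH⟩ := exists_complIn_ge F.bg12 hG hH (sup_le hQH hXH : Q ⊔ X ≤ H)
    fun s hs hd => by
      rcases hs.dvd_mul.1 (hd.trans (BG13.card_sup_dvd_mul hXQ)) with h | h
      · rw [hQ, Nat.prime_dvd_prime_iff_eq hs hq] at h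
        exact h ▸ hqH
      · rw [hX, Nat.prime_dvd_prime_iff_eq hs Fact.out] at h
        exact h ▸ hpH
  exact hnc (le_centralizer_nonregular F hG hH hEH h3 (le_sup_left.trans hU) hQ
    (kappa_fixed hqκ hQH hQ) (le_sup_right.trans hU) hX)

/-- The case `κ(M) ∩ τ₃(M) ≠ ∅`: every prime of a complement is in `κ(M)`. -/
theorem pType_tau3 (hM : IsCoatom M) (hE : Cfsg.IsComplIn E (Cfsg.sigmaCore M) M)
    (hKE : K ≤ E) (hK : Cfsg.IsPiHallOf (Cfsg.kappa M) K M) (hr : r ∈ Cfsg.kappa M)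
    (hr3 : r ∈ Cfsg.tau3 M) : PTypeData M E K (⊥ : Subgroup G) := by
  haveI := Fact.mk hr.1
  obtain ⟨x, hx⟩ := exists_prime_orderOf_dvd_card' (G := E) r
    (dvd_card_complIn F hG hM hE (kappa_not_sigma hr) hr.2.1)
  set R := zpowers (x : G)
  have hRE : R ≤ E := zpowers_le.2 x.2
  have hR : Nat.card R = r := by rw [Nat.card_zpowers, Subgroup.orderOf_coe, hx]
  have hfix := kappa_fixed hr (hRE.trans hE.1) hR
  have hτ2 := tau2_empty_of_tau3_fixed F hG hM hr3 (hRE.trans hE.1) hR hfix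
  set C := Cfsg.sigmaCore M ⊓ centralizer (R : Set G)
  have hmain : ∀ (s : ℕ) [Fact s.Prime] (X : Subgroup G), X ≤ E → Nat.card X = s →
      Cfsg.sigmaCore M ⊓ centralizer (X : Set G) = C ∧ s ∈ Cfsg.kappa M := by
    intro s _ X hXE hX
    have hsM := complIn_not_sigma F hG hM hE Fact.out (dvd_card_of_card_le hXE hX)
    have hXR := le_centralizer_nonregular F hG hM hE hr3 hRE hR hfix hXE hX
    have hle : C ≤ Cfsg.sigmaCore M ⊓ centralizer (X : Set G) := le_inf inf_le_left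
      (fixed_le_centralizer F hG hM hr (hRE.trans hE.1) hR (hXE.trans hE.1) hX hsM hXR)
    have hfixX : Cfsg.sigmaCore M ⊓ centralizer (X : Set G) ≠ ⊥ := fun e =>
      hfix (le_bot_iff.1 (e ▸ hle))
    have hs1 : Cfsg.PRankLE s 1 M := by
      by_contra h
      exact Set.eq_empty_iff_forall_notMem.1 hτ2 s
        ⟨Fact.out, hsM, pRankLE_two_of_not_sigma F.bg12.bg10 hM hsM, h⟩
    have hsκ : s ∈ Cfsg.kappa M := mem_kappa_of_fixed
      (minSimple_prime_ne_two_subgroup hG (dvd_card_of_card_le le_rfl hX)) hsM hs1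
      (hXE.trans hE.1) hX hfixX
    refine ⟨le_antisymm ?_ hle, hsκ⟩
    rcases kappa_tau13 F hG hsκ with h1 | h3
    · exact F.tauOneFix M hM E hE s h1 X hXE hX R (le_inf hRE (le_centralizer_iff.1 hXR))
        (by rw [hR]; exact Fact.out)
    · exact le_inf inf_le_left (fixed_le_centralizer F hG hM hsκ (hXE.trans hE.1) hX
        (hRE.trans hE.1) hR (kappa_not_sigma hr) (le_centralizer_iff.1 hXR))
  have hEκ : IsPiSubgroup (Cfsg.kappa M) E := by
    intro s hs hd
    haveI := Fact.mk hs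
    obtain ⟨y, hy⟩ := exists_prime_orderOf_dvd_card' (G := E) s hd
    exact (hmain s (zpowers (y : G)) (zpowers_le.2 y.2)
      (by rw [Nat.card_zpowers, Subgroup.orderOf_coe, hy])).2
  have hKeq : K = E := le_antisymm hKE (le_of_isPiHallOf_le hK hKE hE.1 hEκ)
  subst hKeq
  refine ⟨hE, le_rfl, bot_le, ⟨bot_le, fun s hs hd => absurd hd (by
      rw [card_bot]; exact hs.not_dvd_one), fun s hs hsπ hd => ?_⟩, by simp, by simp,
    inferInstance, fun g _ => mem_normalizer_iff_map_conj_eq.2 (Subgroup.map_bot _), fun k _ _ => by simp, fun k hk hk1 =>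
      semiprime_of_prime F hG hM hE le_rfl (fun s hs hd => kappa_pRankLE_one (hEκ s hs hd))
        (fun s _ X hX hXc => (hmain s X hX hXc).1) hk hk1, ?_⟩
  · rw [relIndex_bot_left] at hd
    haveI := Fact.mk hs
    exact hsπ.2.1 (hEκ s hs (dvd_card_complIn F hG hM hE hsπ.2.2 hd))
  intro X hXE hXp
  haveI := Fact.mk hXp
  obtain ⟨hXC, hsκ⟩ := hmain _ X hXE rfl
  rcases kappa_tau13 F hG hsκ with h1 | h3
  swap
  · exact (tau3_prime F hG hM hE h3 hXE rfl).2
  -- a subgroup of prime order `∈ τ₁` is central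
  have hsol : Group.IsSolvable K := minSimple_solvable hG (ne_top_of_le_ne_top hM.1 hE.1)
  obtain ⟨E₃, hE₃⟩ := exists_isPiHallOf (Cfsg.tau3 M) hsol
  obtain ⟨hE₃c, -, hE₃n⟩ := (F.complStructure M hM K hE).2 E₃ hE₃
  obtain ⟨W, hW, hXW⟩ := exists_isPiHallOf_ge (π := {s | s.Prime ∧ s ∉ Cfsg.tau3 M}) hsol hXE
    (isPiSubgroup_of_card_prime rfl ⟨hXp, fun h => h1.2.2.2.1 h.2.2.1⟩)
  haveI hWc : IsCyclic W := tau1_subgroup_isCyclic F hG hM hE hW.1 fun s hs hd => by
    rcases tau_cases F hG hM hs ((hd.trans (card_dvd_of_le hW.1)).trans (card_dvd_of_le hE.1))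
      (complIn_not_sigma F hG hM hE hs (hd.trans (card_dvd_of_le hW.1))) with h | h | h
    · exact h
    · simp [hτ2] at h
    · exact absurd h (hW.2.1 s hs hd).2
  have hX3 : E₃ ≤ centralizer (X : Set G) := by
    refine le_centralizer_iff.1 (Coprime.le_centralizer_of_forall_prime_order (hXE.trans hE₃n)
      (Nat.coprime_of_dvd fun t ht h2 h3 => ?_) fun v hv hvp => ?_)
    · exact (hW.2.1 t ht (h2.trans (card_dvd_of_le hXW))).2 (hE₃.2.1 t ht h3)
    · haveI := Fact.mk hvp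
      have hv3 := hE₃.2.1 _ hvp ((Subgroup.orderOf_dvd_natCard _ hv))
      have hvE : zpowers v ≤ K := zpowers_le.2 (hE₃.1 hv)
      exact (le_centralizer_iff.1 (le_centralizer_nonregular F hG hM hE hv3 hvE (Nat.card_zpowers v)
        (fun e => hfix (le_bot_iff.1 ((hmain _ _ hvE (Nat.card_zpowers v)).1.symm.le.trans e.le)))
        hXE rfl)) (mem_zpowers v)
  intro e he
  obtain ⟨-, -, -, h⟩ := isComplIn_of_isPiHallOf hE₃n hE₃ hW fun t ht =>
    ⟨fun h => h.2, fun h => ⟨ht, h⟩⟩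
  obtain ⟨a, ha, b, hb, rfl⟩ := h e he
  exact mul_mem (centralizer_le_normalizer _
      (mem_centralizer_comm_of_isMulCommutative IsCyclic.isMulCommutative le_rfl hXW ha))
    (centralizer_le_normalizer _ (hX3 hb))

/-- The case `κ(M) ⊆ τ₁(M)`. -/
theorem pType_tau1 (hM : IsCoatom M) (hE : Cfsg.IsComplIn E (Cfsg.sigmaCore M) M)
    (hKE : K ≤ E) (hK : Cfsg.IsPiHallOf (Cfsg.kappa M) K M) (hK1 : K ≠ ⊥)
    (hκ : Cfsg.kappa M ⊆ Cfsg.tau1 M) :
    Cfsg.kappa M = Cfsg.tau1 M ∧ IsCyclic K ∧ ∃ U : Subgroup G, PTypeData M E K U := by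
  have hKτ : IsPiSubgroup (Cfsg.tau1 M) K := isPiSubgroup_of_subset hκ hK.2.1
  obtain ⟨p, _, P, hPK, hP⟩ := exists_prime_subgroup hK1
  have hpκ : p ∈ Cfsg.kappa M := hK.2.1 p Fact.out (dvd_card_of_card_le hPK hP)
  have hPM : P ≤ M := hPK.trans hK.1
  have hsol : Group.IsSolvable E := minSimple_solvable hG (ne_top_of_le_ne_top hM.1 hE.1)
  obtain ⟨W, hW, hKW⟩ := exists_isPiHallOf_ge hsol hKE hKτ
  haveI hWc : IsCyclic W := tau1_subgroup_isCyclic F hG hM hE hW.1 hW.2.1
  set C := Cfsg.sigmaCore M ⊓ centralizer (W : Set G)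
  have hCP : Cfsg.sigmaCore M ⊓ centralizer (P : Set G) = C :=
    tauOne_semiprime F hG hM hE hW.1 hWc hW.2.1 (hPK.trans hKW) hP
  have heq : Cfsg.kappa M = Cfsg.tau1 M := by
    refine Set.Subset.antisymm hκ fun s hs => ?_
    haveI := Fact.mk hs.1
    have hsE := dvd_card_complIn F hG hM hE hs.2.1 hs.2.2.1
    have hsW : s ∣ Nat.card W := by
      rw [← card_mul_relIndex hW.1] at hsE
      exact (hs.1.dvd_mul.1 hsE).resolve_right (hW.2.2 s hs.1 hs)
    obtain ⟨y, hy⟩ := exists_prime_orderOf_dvd_card' (G := W) s hsW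
    have hY : Nat.card (zpowers (y : G)) = s := by
      rw [Nat.card_zpowers, Subgroup.orderOf_coe, hy]
    refine mem_kappa_of_fixed (minSimple_prime_ne_two_subgroup hG hsW) hs.2.1 hs.2.2.2.2
      ((zpowers_le.2 y.2).trans (hW.1.trans hE.1)) hY ?_
    rw [tauOne_semiprime F hG hM hE hW.1 hWc hW.2.1 (zpowers_le.2 y.2) hY]
    exact fun e => kappa_fixed hpκ hPM hP (hCP.trans e)
  have hKW' : K = W := le_antisymm hKW
    (le_of_isPiHallOf_le hK hKW (hW.1.trans hE.1) (heq ▸ hW.2.1))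
  subst hKW'
  refine ⟨heq, hWc, ?_⟩
  set π : Set ℕ := {q | q.Prime ∧ q ∉ Cfsg.kappa M ∧ q ∉ Cfsg.sigma M}
  obtain ⟨U, hU, hE'U⟩ := exists_isPiHallOf_ge (π := π) hsol (commutator_le_self E)
    fun s hs hd => ⟨hs, fun hsκ => (hκ hsκ).2.2.2.1
      (hd.trans (card_dvd_of_le (commutator_mono hE.1 hE.1))), complIn_not_sigma F hG hM hE hs
        (hd.trans (card_dvd_of_le (commutator_le_self E)))⟩
  have hUn : E ≤ normalizer (U : Set G) :=
    le_normalizer_iff_commutator_le_right.2 ((commutator_mono le_rfl hU.1).trans hE'U)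
  have hUM : Cfsg.IsPiHallOf π U M := ⟨hU.1.trans hE.1, hU.2.1, fun s hs hsπ hd => by
    rw [← relIndex_mul_relIndex U E M hU.1 hE.1] at hd
    rcases hs.dvd_mul.1 hd with h | h
    · exact hU.2.2 s hs hsπ h
    · exact (complIn_isPiHallOf F hG hM hE).2.2 s hs ⟨hs, hsπ.2.2⟩ h⟩
  obtain ⟨hUE', -, hinf, hprod⟩ := isComplIn_of_isPiHallOf (π := π) (ρ := {s | s ∉ π}) hUn hU
    (E := K) ⟨hKE, fun s hs hd h => h.2.1 (hK.2.1 s hs hd), fun s hs hsρ hd => by
      have hsE := hd.trans (relIndex_dvd_card _ _)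
      have hsκ : s ∈ Cfsg.kappa M := by_contra fun h =>
        hsρ ⟨hs, h, complIn_not_sigma F hG hM hE hs hsE⟩
      exact hW.2.2 s hs (hκ hsκ) hd⟩ fun s _ => Iff.rfl
  have hreg : ∀ (s : ℕ) [Fact s.Prime] (X : Subgroup G), X ≤ K → Nat.card X = s →
      U ⊓ centralizer (X : Set G) = ⊥ := by
    intro s _ X hX hXc
    by_contra hne
    obtain ⟨t, _, R, hR, hRc⟩ := exists_prime_subgroup hne
    have hsκ : s ∈ Cfsg.kappa M := hK.2.1 s Fact.out (dvd_card_of_card_le hX hXc)
    obtain ⟨-, htκ, htσ⟩ := hU.2.1 t Fact.out (dvd_card_of_card_le (hR.trans inf_le_left) hRc)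
    have hXM : X ≤ M := hX.trans hK.1
    have hRM : R ≤ M := (hR.trans inf_le_left).trans hUM.1
    rcases tau_cases F hG hM Fact.out (dvd_card_of_card_le hRM hRc) htσ with h | h | h
    · exact htκ (heq ▸ h)
    · exact kappa_tau2_no_fix F hG hM hsκ hXM hXc h hRc (le_inf hRM (hR.trans inf_le_right))
    · have h28 := F.tauOneFix M hM E hE s (hκ hsκ) X (hX.trans hKE) hXc R
        (le_inf ((hR.trans inf_le_left).trans hU.1) (hR.trans inf_le_right))
        (by rw [hRc]; exact Fact.out)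
      refine htκ (mem_kappa_of_fixed
        (minSimple_prime_ne_two_subgroup hG (dvd_card_of_card_le le_rfl hRc)) htσ h.2.2.2 hRM hRc
        fun e => kappa_fixed hsκ hXM hXc (le_bot_iff.1 (h28.trans e.le)))
  have hUnil : Group.IsNilpotent U :=
    isNilpotent_of_prime_fpf (minSimple_solvable hG (ne_top_of_le_ne_top hM.1 hUM.1))
      ((hPK.trans hKE).trans hUn) (by rw [hP]; exact Fact.out) (hreg p P hPK hP)
  refine ⟨U, hE, hKE, hU.1, hUM, ?_, by rw [inf_comm]; exact hinf, ?_, hUn, ?_, fun k hk hk1 =>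
    semiprime_of_prime F hG hM hE hKE (fun s hs hd => kappa_pRankLE_one (hK.2.1 s hs hd))
      (fun s _ X hX hXc => tauOne_semiprime F hG hM hE hKE hWc hW.2.1 hX hXc) hk hk1, ?_⟩
  · refine le_antisymm (sup_le hU.1 hKE) fun x hx => ?_
    obtain ⟨a, ha, b, hb, rfl⟩ := hprod x hx
    exact mul_mem (mem_sup_right ha) (mem_sup_left hb)
  · exact (F.complAbelian M hM E hE).1 U hUM.1 hUnil fun s hs hd => (hU.2.1 s hs hd).2.2
  · intro k hk hk1
    obtain ⟨s, _, X, hX, hXc⟩ := exists_prime_subgroup (S := zpowers k) (by simpa using hk1)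
    rw [← le_bot_iff, ← hreg s X (hX.trans (zpowers_le.2 hk)) hXc, ← centralizer_zpowers]
    exact inf_le_inf_left _ (centralizer_le (SetLike.coe_subset_coe.2 hX))
  · intro X hX _
    exact (mem_centralizer_comm_of_isMulCommutative IsCyclic.isMulCommutative le_rfl hX).trans
      (centralizer_le_normalizer _)

/-- BG 14.2. -/
theorem exists_pTypeData (hM : IsCoatom M) (hK : Cfsg.IsPiHallOf (Cfsg.kappa M) K M)
    (hK1 : K ≠ ⊥) : ∃ E U : Subgroup G, PTypeData M E K U := by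
  obtain ⟨E, hKE, hE⟩ := exists_complIn_ge F.bg12 hG hM hK.1
    fun s hs hd => kappa_not_sigma (hK.2.1 s hs hd)
  by_cases h3 : ∃ r, r ∈ Cfsg.kappa M ∧ r ∈ Cfsg.tau3 M
  · obtain ⟨r, hr, hr3⟩ := h3
    exact ⟨E, ⊥, pType_tau3 F hG hM hE hKE hK hr hr3⟩
  · push Not at h3
    exact ⟨E, (pType_tau1 F hG hM hE hKE hK hK1 fun s hs =>
      (kappa_tau13 F hG hs).resolve_right (h3 s hs)).2.2⟩

end CfsgLib.OddOrder.BG14
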