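import Cfsg.Agent.OddOrder.BG14.SigmaDisjoint
import Cfsg.Agent.OddOrder.BG5.Aut
import Cfsg.Agent.OddOrder.BG10.BetaCore
import Mathlib.GroupTheory.SpecificGroups.Cyclic

/-!
# Planes of `τ₂`-primes, normal cyclic `τ₃`-subgroups, and small automorphism facts

Convenient forms of BG 12.5-12.7 for subgroups of prime order, conjugation invariance of `τ₂` and
`κ`, and the abelian image of a coprime odd operator group on a narrow `p`-group.
-/

set_option autoImplicit false
set_option linter.style.haveILetI false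
set_option linter.unusedSectionVars false

namespace CfsgLib.OddOrder.BG14

open Cfsg Subgroup
open CfsgLib.OddOrder
open CfsgLib.OddOrder.BG11
open CfsgLib.OddOrder.BG13
open CfsgLib.ConjFunctor (IsSylowIn exists_isSylowIn_ge)

section General

variable {G : Type*} [Group G] [Finite G] {p q : ℕ}

theorem isPiSubgroup_of_card_prime {π : Set ℕ} [Fact p.Prime] {X : Subgroup G}
    (hX : Nat.card X = p) (hp : p ∈ π) : IsPiSubgroup π X :=
  isPiSubgroup_of_isPGroup (IsPGroup.of_card (n := 1) (by rw [hX, pow_one])) hp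

theorem isPGroup_of_card_prime [Fact p.Prime] {X : Subgroup G} (hX : Nat.card X = p) :
    IsPGroup p X :=
  IsPGroup.of_card (n := 1) (by rw [hX, pow_one])

theorem coprime_of_isPiSubgroup_not {π : Set ℕ} {A B : Subgroup G} (hA : IsPiSubgroup π A)
    (hB : ∀ r : ℕ, r.Prime → r ∣ Nat.card B → r ∉ π) : (Nat.card A).Coprime (Nat.card B) :=
  Nat.coprime_of_dvd fun r hr h1 h2 => hB r hr h2 (hA r hr h1)

/-- Coprime subgroups normalized by each other commute. -/
theorem le_centralizer_of_coprime {A B : Subgroup G} (hA : A ≤ normalizer (B : Set G))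
    (hB : B ≤ normalizer (A : Set G)) (hcop : (Nat.card A).Coprime (Nat.card B)) :
    A ≤ centralizer (B : Set G) :=
  le_centralizer_of_normalize hA hB (Coprime.inf_eq_bot_of_coprime hcop)

omit [Finite G] in
/-- A cyclic group of operators of prime order `q` moving a group of prime order `p` has
`q ∣ p - 1`. -/
theorem dvd_sub_one_of_normalizes [Finite G] [Fact p.Prime] [Fact q.Prime] {X Y : Subgroup G}
    (hX : Nat.card X = q) (hY : Nat.card Y = p) (hn : X ≤ normalizer (Y : Set G))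
    (hnc : ¬ X ≤ centralizer (Y : Set G)) : q ∣ p - 1 := by
  haveI : IsCyclic Y := isCyclic_of_prime_card hY
  let φ : X →* MulAut Y := (normalizerMonoidHom Y).comp (Subgroup.inclusion hn)
  obtain ⟨x, hx, hxc⟩ := SetLike.not_le_iff_exists.1 hnc
  have hφx : φ ⟨x, hx⟩ ≠ 1 := by
    intro h
    have h1 : Subgroup.inclusion hn ⟨x, hx⟩ ∈ (normalizerMonoidHom Y).ker := h
    rw [normalizerMonoidHom_ker, mem_subgroupOf] at h1
    exact hxc h1
  have h1 : orderOf (φ ⟨x, hx⟩) ∣ q := hX ▸ (orderOf_map_dvd φ _).trans (orderOf_dvd_natCard _)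
  have h2 : orderOf (φ ⟨x, hx⟩) = q :=
    ((Nat.dvd_prime Fact.out).1 h1).resolve_left fun h => hφx (orderOf_eq_one_iff.1 h)
  have h3 := h2 ▸ orderOf_dvd_natCard (φ ⟨x, hx⟩)
  rwa [IsCyclic.card_mulAut, hY, Nat.totient_prime Fact.out] at h3

/-- A solvable group of odd order prime to `p` induces an abelian group on a narrow `p`-group. -/
theorem commutator_le_centralizer_of_narrow [Fact p.Prime] {T V : Subgroup G}
    (hp2 : p ≠ 2) (hT : IsPGroup p T) (hn : Cfsg.IsNarrow p T)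
    (hVT : V ≤ normalizer (T : Set G)) (hsol : Group.IsSolvable V) (hodd : Odd (Nat.card V))
    (hcop : (Nat.card V).Coprime p) : ⁅V, V⁆ ≤ centralizer (T : Set G) := by
  haveI := hsol
  let φ : V →* MulAut T := (normalizerMonoidHom T).comp (Subgroup.inclusion hVT)
  have hpg := BG5.isPGroup_map_commutator hp2 hT hn hodd φ
  have hcard : Nat.card ↥((_root_.commutator V).map φ) ∣ Nat.card V :=
    (card_map_dvd _ φ).trans (card_subgroup_dvd_card _)
  have hbot : (_root_.commutator V).map φ = ⊥ := by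
    obtain ⟨n, hn⟩ := IsPGroup.iff_card.1 hpg
    refine Subgroup.card_eq_one.1 ?_
    rw [hn] at hcard ⊢
    rcases Nat.eq_zero_or_pos n with h0 | h0
    · rw [h0, pow_zero]
    · exact absurd ((dvd_pow_self p h0.ne').trans hcard)
        ((Fact.out : p.Prime).coprime_iff_not_dvd.1 hcop.symm)
  intro x hx
  rw [← map_subtype_commutator] at hx
  obtain ⟨v, hv, rfl⟩ := hx
  have h1 : φ v = 1 := mem_bot.1 (hbot ▸ mem_map_of_mem φ hv)
  have h2 : Subgroup.inclusion hVT v ∈ (normalizerMonoidHom T).ker := h1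
  rwa [normalizerMonoidHom_ker, mem_subgroupOf] at h2

end General

section Maximal

variable {G : Type*} [Group G] [Finite G] {p q r : ℕ} {M H : Subgroup G}
variable (F : BG13Facts G) (hG : Cfsg.IsMinSimpleOddOrder G)

theorem tau2_map_conj_le [Fact p.Prime] (h : p ∈ Cfsg.tau2 M) (g : G) :
    p ∈ Cfsg.tau2 (M.map (MulAut.conj g).toMonoidHom) := by
  refine ⟨h.1, by rw [sigma_map_conj]; exact h.2.1, pRankLE_map_conj h.2.2.1 g, fun h1 => h.2.2.2 ?_⟩
  have := pRankLE_map_conj h1 g⁻¹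
  rwa [map_conj_map_conj, inv_mul_cancel, map_conj_one] at this

include F hG

/-- Every complement of `M_σ` contains a plane for each prime of `τ₂(M)`. -/
theorem exists_plane_complIn [Fact r.Prime] (hM : IsCoatom M) (hr : r ∈ Cfsg.tau2 M)
    {E : Subgroup G} (hE : Cfsg.IsComplIn E (Cfsg.sigmaCore M) M) :
    ∃ A : Subgroup G, A ≤ E ∧ Cfsg.IsElementaryAbelian r A ∧ Nat.card A = r ^ 2 := by
  obtain ⟨A, hA, hAe, hAc⟩ := exists_card_sq_of_not_pRankLE_one hr.2.2.2
  haveI := minSimple_coatom_solvable hG hM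
  obtain ⟨m, -, hm⟩ := exists_conj_le_of_relIndex (L := E) hE.1 hA
    (isPiSubgroup_of_isPGroup (π := ({r} : Set ℕ)) (isPGroup_of_isElementaryAbelian hAe) rfl)
    fun s _ hd e => hr.2.1 (isPiSubgroup_sigmaCore M r Fact.out
      (Set.mem_singleton_iff.1 e ▸ hd.trans (complIn_relIndex F hG hM hE)))
  exact ⟨_, hm, isElementaryAbelian_map _ hAe, by rw [card_map_conj, hAc]⟩

theorem complIn_of_prime (hM : IsCoatom M) [Fact r.Prime] (hr : r ∉ Cfsg.sigma M)
    {X : Subgroup G} (hXM : X ≤ M) (hX : Nat.card X = r) :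
    ∃ E : Subgroup G, X ≤ E ∧ Cfsg.IsComplIn E (Cfsg.sigmaCore M) M :=
  exists_complIn_ge F.bg12 hG hM hXM fun s hs hd => by
    rw [hX] at hd
    rwa [(Nat.prime_dvd_prime_iff_eq hs Fact.out).1 hd]

/-- A `τ₂`-subgroup of prime order with fixed points on `M_σ` has its centralizer in `M` alone. -/
theorem tau2_line_unique [Fact r.Prime] (hM : IsCoatom M) (hr : r ∈ Cfsg.tau2 M)
    {X : Subgroup G} (hXM : X ≤ M) (hX : Nat.card X = r)
    (hfix : Cfsg.sigmaCore M ⊓ centralizer (X : Set G) ≠ ⊥) :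
    centralizer (X : Set G) ≤ M ∧
      ∀ L : Subgroup G, IsCoatom L → centralizer (X : Set G) ≤ L → L = M := by
  obtain ⟨E, hXE, hE⟩ := complIn_of_prime F hG hM hr.2.1 hXM hX
  obtain ⟨A, hAE, hAe, hAc⟩ := exists_plane_complIn F hG hM hr hE
  obtain ⟨h1, -, h3⟩ := F.tauTwoLine M hM E hE r hr A hAE hAe hAc
  exact h3 X (h1 X hXE hX) hX hfix

/-- A plane outside `σ` gives a `τ₂`-prime. -/
theorem tau2_of_plane [Fact r.Prime] (hM : IsCoatom M) (hs : r ∉ Cfsg.sigma M) {A : Subgroup G}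
    (hAM : A ≤ M) (hA : Cfsg.IsElementaryAbelian r A) (hAc : Nat.card A = r ^ 2) :
    r ∈ Cfsg.tau2 M :=
  ⟨Fact.out, hs, pRankLE_two_of_not_sigma F.bg12.bg10 hM hs,
    not_pRankLE_one_of_card_sq hAM hA hAc⟩

/-- The maximal subgroups over the normalizer of a plane of a `τ₂`-prime `r` have `r` in `σ`. -/
theorem plane_sigma [Fact r.Prime] (hM : IsCoatom M) {E A : Subgroup G}
    (hE : Cfsg.IsComplIn E (Cfsg.sigmaCore M) M) (hr : r ∈ Cfsg.tau2 M) (hAE : A ≤ E)
    (hA : Cfsg.IsElementaryAbelian r A) (hAc : Nat.card A = r ^ 2) {L : Subgroup G}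
    (hL : IsCoatom L) (hNL : normalizer (A : Set G) ≤ L) :
    r ∈ Cfsg.sigma L ∧ L ≠ M ∧ Cfsg.sigmaCore M ⊓ L = ⊥ ∧ E ≤ L ∧ A ≤ Cfsg.sigmaCore L := by
  have hne : L ≠ M := fun e =>
    (F.tauTwoLine M hM E hE r hr A hAE hA hAc).2.1.2 (e ▸ hNL)
  have hAL : A ≤ L := le_normalizer.trans hNL
  have hs : r ∈ Cfsg.sigma L := by
    by_contra hs
    obtain ⟨EL, hAEL, hEL⟩ := exists_complIn_ge F.bg12 hG hL hAL fun s hs' hd => by
      rw [hAc] at hd
      rw [(Nat.prime_dvd_prime_iff_eq hs' Fact.out).1 (hs'.dvd_of_dvd_pow hd)]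
      exact hs
    exact (F.tauTwoLine L hL EL hEL r (tau2_of_plane F hG hL hs hAL hA hAc) A hAEL hA hAc).2.1.2 hNL
  exact ⟨hs, hne, (F.bg12.tauTwo M hM r hr A (hAE.trans hE.1) hA hAc).2 L hL hne hAL,
    (F.bg12.tauTwoCompl M hM E hE r hr A hAE hA hAc).1.trans hNL,
    pGroup_le_sigmaCore F.bg12.bg10 hL hs hAL (isPGroup_of_isElementaryAbelian hA)⟩

/-- A `τ₃`-subgroup of a complement lies in `E'`, is cyclic and normal in the complement. -/
theorem tau3_subgroup (hM : IsCoatom M) {E X : Subgroup G}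
    (hE : Cfsg.IsComplIn E (Cfsg.sigmaCore M) M) (hXE : X ≤ E)
    (hX : IsPiSubgroup (Cfsg.tau3 M) X) :
    IsCyclic X ∧ X ≤ ⁅E, E⁆ ∧ E ≤ normalizer (X : Set G) := by
  obtain ⟨E₃, hE₃, hXE₃⟩ := exists_isPiHallOf_ge
    (minSimple_solvable hG (ne_top_of_le_ne_top hM.1 hE.1)) hXE hX
  obtain ⟨hc, hd, hn⟩ := (F.complStructure M hM E hE).2 E₃ hE₃
  haveI := hc
  exact ⟨isCyclic_of_injective (Subgroup.inclusion hXE₃) (Subgroup.inclusion_injective hXE₃),
    hXE₃.trans hd, hn.trans (normalizer_le_normalizer_of_isCyclic hc hXE₃)⟩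

theorem tau1_subgroup_isCyclic (hM : IsCoatom M) {E X : Subgroup G}
    (hE : Cfsg.IsComplIn E (Cfsg.sigmaCore M) M) (hXE : X ≤ E)
    (hX : IsPiSubgroup (Cfsg.tau1 M) X) : IsCyclic X := by
  obtain ⟨E₁, hE₁, hXE₁⟩ := exists_isPiHallOf_ge
    (minSimple_solvable hG (ne_top_of_le_ne_top hM.1 hE.1)) hXE hX
  haveI := (F.complStructure M hM E hE).1 E₁ hE₁
  exact isCyclic_of_injective (Subgroup.inclusion hXE₁) (Subgroup.inclusion_injective hXE₁)

/-- A `τ₃`-subgroup of prime order lies in `M'`; in a complement it is normal. -/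
theorem tau3_prime [Fact r.Prime] (hM : IsCoatom M) {E X : Subgroup G}
    (hE : Cfsg.IsComplIn E (Cfsg.sigmaCore M) M) (hr : r ∈ Cfsg.tau3 M) (hXE : X ≤ E)
    (hX : Nat.card X = r) : X ≤ ⁅M, M⁆ ∧ E ≤ normalizer (X : Set G) :=
  let h := tau3_subgroup F hG hM hE hXE (isPiSubgroup_of_card_prime hX hr)
  ⟨h.2.1.trans (commutator_mono hE.1 hE.1), h.2.2⟩

/-- In a complement the plane of a `τ₂`-prime commutes with every normal subgroup of coprime
order. -/
theorem plane_centralizes [Fact r.Prime] (hM : IsCoatom M) {E A X : Subgroup G}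
    (hE : Cfsg.IsComplIn E (Cfsg.sigmaCore M) M) (hr : r ∈ Cfsg.tau2 M) (hAE : A ≤ E)
    (hA : Cfsg.IsElementaryAbelian r A) (hAc : Nat.card A = r ^ 2) (hXE : X ≤ E)
    (hXn : E ≤ normalizer (X : Set G)) (hd : ¬ r ∣ Nat.card X) :
    A ≤ centralizer (X : Set G) :=
  le_centralizer_of_coprime (hAE.trans hXn)
    (hXE.trans (F.bg12.tauTwoCompl M hM E hE r hr A hAE hA hAc).1)
    (BG11.coprime_card_of_not_dvd (isPGroup_of_isElementaryAbelian hA) hd)

end Maximal

end CfsgLib.OddOrder.BG14
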