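import Cfsg.Agent.OddOrder.BG14.Complements
import Cfsg.Agent.OddOrder.BG12.Elem

/-!
# BG 13.9: non-conjugate maximal subgroups have disjoint `σ`

Suppose `M ≠ N` share a Sylow `p`-subgroup `P` of `G` with `p ∈ σ(M) ∩ σ(N)`. Then `P` is abelian,
`M ∩ N = N(P)`, `M = M_β N_M(P)`, and some `X ≤ M ∩ N` of prime order lies in `τ₁(M) ∩ τ₁(N)`, acts
fixed point freely on `P` and has fixed points outside `M ∩ N` on both `M_β` and `N_β`; a maximal
subgroup over `N(X)` then forces the fixed points of one side into the other maximal subgroup.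
-/

set_option autoImplicit false
set_option linter.style.haveILetI false
set_option linter.unusedSectionVars false

namespace CfsgLib.OddOrder.BG14

open Cfsg Subgroup
open CfsgLib.OddOrder
open CfsgLib.OddOrder.BG11
open CfsgLib.OddOrder.BG13
open CfsgLib.ConjFunctor (IsSylowIn exists_isSylowIn_ge)

variable {G : Type*} [Group G] [Finite G] {p q r : ℕ} {M N P X : Subgroup G}

/-- Two coatoms with a common Sylow `p`-subgroup for a common `p` of their `σ`. -/
structure CommonSylow (p : ℕ) (M N P : Subgroup G) : Prop where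
  coatomM : IsCoatom M
  coatomN : IsCoatom N
  ne : M ≠ N
  sigmaM : p ∈ Cfsg.sigma M
  sigmaN : p ∈ Cfsg.sigma N
  sylowM : IsSylowIn p P M
  sylowN : IsSylowIn p P N

theorem CommonSylow.symm (h : CommonSylow p M N P) : CommonSylow p N M P :=
  ⟨h.coatomN, h.coatomM, h.ne.symm, h.sigmaN, h.sigmaM, h.sylowN, h.sylowM⟩

omit [Finite G] in
/-- The trivially intersecting maximal subgroup over a Sylow subgroup is not conjugate. -/
theorem eq_of_conj_sylow [Finite G] [Fact p.Prime] (hp : p ∈ Cfsg.sigma M) {g : G}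
    (hP : IsSylowIn p P M) (hP' : IsSylowIn p P (M.map (MulAut.conj g).toMonoidHom)) :
    M.map (MulAut.conj g).toMonoidHom = M := by
  have h1 : IsSylowIn p (P.map (MulAut.conj g⁻¹).toMonoidHom) M := by
    have h : IsSylowIn p (P.map (MulAut.conj g⁻¹).toMonoidHom)
        ((M.map (MulAut.conj g).toMonoidHom).map (MulAut.conj g⁻¹).toMonoidHom) := hP'.cj g⁻¹
    rwa [map_conj_map_conj, inv_mul_cancel, map_conj_one] at h
  obtain ⟨m, hm, e⟩ : ∃ m ∈ M, (P.map (MulAut.conj g⁻¹).toMonoidHom).map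
      (MulAut.conj m).toMonoidHom = P := hP.exists_cj_eq h1
  rw [map_conj_map_conj] at e
  have h2 : m * g⁻¹ ∈ M := normalizer_le_of_sigma hp hP (map_conj_eq_self_iff.1 e)
  refine map_conj_eq_self_of_mem ?_
  have h3 := M.mul_mem (M.inv_mem h2) hm
  simpa using h3

namespace CommonSylow

variable [Fact p.Prime] (F : BG13Facts G) (hG : Cfsg.IsMinSimpleOddOrder G)

theorem not_conj (h : CommonSylow p M N P) :
    ∀ g : G, N ≠ M.map (MulAut.conj g).toMonoidHom := fun g e =>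
  h.ne (by rw [e, eq_of_conj_sylow h.sigmaM h.sylowM (e ▸ h.sylowN)])

theorem normalizer_le (h : CommonSylow p M N P) : normalizer (P : Set G) ≤ M ⊓ N :=
  le_inf (normalizer_le_of_sigma h.sigmaM h.sylowM) (normalizer_le_of_sigma h.sigmaN h.sylowN)

theorem ne_bot (h : CommonSylow p M N P) : P ≠ ⊥ :=
  sylowIn_ne_bot h.sylowM h.sigmaM.2.1

include F hG

theorem le_sigmaCore (h : CommonSylow p M N P) : P ≤ Cfsg.sigmaCore M :=
  pGroup_le_sigmaCore F.bg12.bg10 h.coatomM h.sigmaM h.sylowM.le h.sylowM.isPGroup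

theorem false_of_unique (h : CommonSylow p M N P) {Y : Subgroup G} (hYM : Y ≤ M)
    (hY : Nat.card Y = p)
    (hor : p ∈ Cfsg.beta M ∨ Y ≤ ⁅Cfsg.sigmaCore M, Cfsg.sigmaCore M⁆) : False := by
  have hu := (F.sigmaOrderUnique M h.coatomM p h.sigmaM Y hYM hY hor).2 P
    (h.sylowM.of_le (le_sigmaCore F hG h) (sigmaCore_le M))
  exact h.ne (inUniqueMaximal_eq hu h.coatomN h.sylowN.le h.coatomM h.sylowM.le)

theorem not_beta (h : CommonSylow p M N P) : p ∉ Cfsg.beta M := by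
  intro hb
  obtain ⟨Y, hYP, hY⟩ := exists_card_prime_le h.sylowM.isPGroup h.ne_bot
  exact false_of_unique F hG h (hYP.trans h.sylowM.le) hY (Or.inl hb)

theorem inf_derived_eq_bot (h : CommonSylow p M N P) :
    P ⊓ ⁅Cfsg.sigmaCore M, Cfsg.sigmaCore M⁆ = ⊥ := by
  by_contra hne
  obtain ⟨Y, hYP, hY⟩ := exists_card_prime_le (q := p) (h.sylowM.isPGroup.to_le inf_le_left) hne
  exact false_of_unique F hG h ((hYP.trans inf_le_left).trans h.sylowM.le) hY
    (Or.inr (hYP.trans inf_le_right))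

theorem betaCore_inf_eq_bot (h : CommonSylow p M N P) :
    Disjoint (Cfsg.beta M) (Cfsg.beta N) := by
  rw [Set.disjoint_left]
  intro s hsM hsN
  haveI := Fact.mk hsM.1.1
  obtain ⟨g, hg⟩ := (exists_conj_of_alpha F.bg12.bg10 hG h.coatomM h.coatomN
    (beta_subset_sigma F hG h.coatomM hsM) hsN.1).2
  exact h.not_conj g hg

theorem pRankLE_of_sigma (h : CommonSylow p M N P) {s : ℕ} (hs : s ∈ Cfsg.beta M) :
    s ∉ Cfsg.beta N := fun h' => Set.disjoint_left.1 (betaCore_inf_eq_bot F hG h) hs h'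

/-- `M_β ∩ N` centralizes `P`. -/
theorem betaCore_inf_le_centralizer (h : CommonSylow p M N P) :
    Cfsg.piCoreOf (Cfsg.beta M) M ⊓ N ≤ centralizer (P : Set G) := by
  set B := Cfsg.piCoreOf (Cfsg.beta M) M
  have hPn : P ≤ normalizer ((B ⊓ N : Subgroup G) : Set G) :=
    le_normalizer_inf_of_le (h.sylowM.le.trans (le_normalizer_piCoreOf _ _))
      (h.sylowN.le.trans le_normalizer)
  have hcop : (Nat.card P).Coprime (Nat.card ↥(B ⊓ N)) :=
    BG11.coprime_card_of_not_dvd h.sylowM.isPGroup fun hd => not_beta F hG h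
      (isPiSubgroup_mono inf_le_left (isPiSubgroup_piCoreOf _ M) p Fact.out hd)
  have hW : ⁅B ⊓ N, P⁆ ≤ B ⊓ N := BG12.commutator_le_of_normalizer hPn
  refine le_centralizer_iff.1 (BG12.le_centralizer_of_commutator hPn hcop ?_)
  refine le_centralizer_of_betaPrime F.bg12.bg10 hG h.coatomN
    ((le_sigmaCore F hG h.symm).trans (sigmaCore_le_derived F.bg12.bg10 hG h.coatomN))
    (commutator_mono inf_le_right h.sylowN.le) BG12.le_normalizer_of_commutator
    (isPiSubgroup_of_isPGroup h.sylowM.isPGroup ⟨Fact.out, not_beta F hG h.symm⟩) ?_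
    (hcop.coprime_dvd_right (card_dvd_of_le hW))
  intro s hs hd
  exact ⟨hs, pRankLE_of_sigma F hG h
    (isPiSubgroup_piCoreOf _ M s hs (hd.trans (card_dvd_of_le (hW.trans inf_le_left))))⟩

theorem eq_sup (h : CommonSylow p M N P) : M = Cfsg.piCoreOf (Cfsg.beta M) M ⊔ (M ⊓ N) := by
  refine le_antisymm ?_ (sup_le (piCoreOf_le _ _) inf_le_left)
  conv_lhs => rw [eq_sup_normalizer h.sylowM
    ((le_sigmaCore F hG h).trans (sigmaCore_le_derived F.bg12.bg10 hG h.coatomM))
    (isNilpotent_commutator_image_beta F.bg12 h.coatomM)]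
  exact sup_le_sup le_rfl (inf_le_right.trans h.normalizer_le)

/-- `M ∩ N` normalizes `P`. -/
theorem inf_le_normalizer (h : CommonSylow p M N P) : M ⊓ N ≤ normalizer (P : Set G) := by
  intro d hd
  have hd' := (eq_sup_normalizer h.sylowM
    ((le_sigmaCore F hG h).trans (sigmaCore_le_derived F.bg12.bg10 hG h.coatomM))
    (isNilpotent_commutator_image_beta F.bg12 h.coatomM)).le (mem_inf.1 hd).1
  rw [← SetLike.mem_coe, coe_mul_of_right_le_normalizer_left _ _
    (inf_le_left.trans (le_normalizer_piCoreOf _ _))] at hd'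
  obtain ⟨b, hb, n, hn, rfl⟩ := Set.mem_mul.1 hd'
  refine mul_mem (centralizer_le_normalizer _ (betaCore_inf_le_centralizer F hG h
    (mem_inf.2 ⟨hb, ?_⟩))) (mem_inf.1 hn).2
  have h1 := N.mul_mem (mem_inf.1 hd).2 (N.inv_mem (mem_inf.1 (h.normalizer_le (mem_inf.1 hn).2)).2)
  simpa using h1

theorem relIndex_inf (h : CommonSylow p M N P) {s : ℕ} (hs : s.Prime)
    (hd : s ∣ (M ⊓ N).relIndex M) : s ∈ Cfsg.sigma M :=
  beta_subset_sigma F hG h.coatomM (isPiSubgroup_piCoreOf _ M s hs (hd.trans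
    (relIndex_dvd_card_of_eq_sup (le_normalizer_piCoreOf _ _) (eq_sup F hG h))))

theorem exists_complIn_inf (h : CommonSylow p M N P) {U : Subgroup G} (hU : U ≤ M ⊓ N)
    (hUs : ∀ s : ℕ, s.Prime → s ∣ Nat.card U → s ∉ Cfsg.sigma M) :
    ∃ E : Subgroup G, U ≤ E ∧ E ≤ M ⊓ N ∧ Cfsg.IsComplIn E (Cfsg.sigmaCore M) M :=
  exists_complIn_between F hG h.coatomM inf_le_left hU (fun _ hs hd => relIndex_inf F hG h hs hd)
    hUs

/-- `τ₂(M)` is empty. -/
theorem not_tau2 (h : CommonSylow p M N P) {t : ℕ} : t ∉ Cfsg.tau2 M := by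
  intro ht
  haveI := Fact.mk ht.1
  obtain ⟨E, -, hED, hE⟩ := exists_complIn_inf F hG h bot_le fun s hs hd =>
    absurd hd (by rw [card_bot]; exact hs.not_dvd_one)
  obtain ⟨A₀, hA₀, hA₀e, hA₀c⟩ := exists_card_sq_of_not_pRankLE_one ht.2.2.2
  haveI := minSimple_coatom_solvable hG h.coatomM
  obtain ⟨m, -, hm⟩ := exists_conj_le_of_relIndex (L := E) hE.1 hA₀
    (isPiSubgroup_of_isPGroup (π := ({t} : Set ℕ)) (isPGroup_of_isElementaryAbelian hA₀e) rfl)
    fun s hs hd e => ht.2.1 (isPiSubgroup_sigmaCore M t Fact.out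
      (Set.mem_singleton_iff.1 e ▸ hd.trans (complIn_relIndex F hG h.coatomM hE)))
  set A := A₀.map (MulAut.conj m).toMonoidHom
  have hAe : Cfsg.IsElementaryAbelian t A := isElementaryAbelian_map _ hA₀e
  have hAc : Nat.card A = t ^ 2 := by rw [card_map_conj, hA₀c]
  have hAt : IsPGroup t A := isPGroup_of_isElementaryAbelian hAe
  have hAM : A ≤ M := hm.trans hE.1
  have hAN : A ≤ N := hm.trans (hED.trans inf_le_right)
  have hAn : A ≤ normalizer (P : Set G) := (hm.trans hED).trans (inf_le_normalizer F hG h)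
  have htp : t ≠ p := fun e => ht.2.1 (e ▸ h.sigmaM)
  have hcop : (Nat.card A).Coprime (Nat.card P) :=
    BG11.coprime_card_of_not_dvd hAt (BG12.ne_of_dvd_sigma h.sylowM.isPGroup htp.symm)
  have hncA : ¬ IsCyclic A := not_isCyclic_of_card_sq hAe hAc
  have hfix := (F.tauTwoPlane M h.coatomM t ht A hAM hAe hAc).2.1
  have hPC : ¬ A ≤ centralizer (P : Set G) := fun hc => h.ne_bot
    (le_bot_iff.1 (hfix ▸ le_inf (le_sigmaCore F hG h) (le_centralizer_iff.1 hc)))
  by_cases hsN : t ∈ Cfsg.sigma N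
  · refine hPC (le_centralizer_of_betaPrime F.bg12.bg10 hG h.coatomN ?_
      ((le_sigmaCore F hG h.symm).trans (sigmaCore_le_derived F.bg12.bg10 hG h.coatomN)) hAn
      (isPiSubgroup_of_isPGroup hAt ⟨Fact.out, tau2_not_beta F hG h.coatomM ht N⟩)
      (isPiSubgroup_of_isPGroup h.sylowM.isPGroup ⟨Fact.out, not_beta F hG h.symm⟩) hcop)
    exact (pGroup_le_sigmaCore F.bg12.bg10 h.coatomN hsN hAN hAt).trans
      (sigmaCore_le_derived F.bg12.bg10 hG h.coatomN)
  · have htN : t ∈ Cfsg.tau2 N := ⟨Fact.out, hsN,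
      pRankLE_two_of_not_sigma F.bg12.bg10 h.coatomN hsN, not_pRankLE_one_of_card_sq hAN hAe hAc⟩
    haveI := hAe.1
    apply h.ne_bot
    rw [← le_bot_iff]
    refine Coprime.le_of_forall_inf_centralizer_le hncA hAn hcop fun a ha ha1 => ?_
    by_contra hne
    have hY : Nat.card (zpowers a) = t := card_zpowers_of_mem hAe.2 ha ha1
    have hfixY : ∀ L : Subgroup G, IsCoatom L → P ≤ Cfsg.sigmaCore L →
        Cfsg.sigmaCore L ⊓ centralizer (zpowers a : Set G) ≠ ⊥ := by
      intro L _ hPL e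
      refine hne (e ▸ le_inf (inf_le_left.trans hPL) ?_)
      rw [centralizer_zpowers]
      exact inf_le_right
    obtain ⟨EN, hAEN, hEN⟩ := exists_complIn_ge F.bg12 hG h.coatomN hAN fun s hs hd => by
      obtain ⟨n, hn⟩ := IsPGroup.iff_card.1 hAt
      rw [hn] at hd
      rw [(Nat.prime_dvd_prime_iff_eq hs Fact.out).1 (hs.dvd_of_dvd_pow hd)]
      exact hsN
    have h1 := (F.tauTwoLine M h.coatomM E hE t ht A hm hAe hAc).2.2 (zpowers a)
      (zpowers_le.2 ha) hY (hfixY M h.coatomM (le_sigmaCore F hG h))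
    have h2 := (F.tauTwoLine N h.coatomN EN hEN t htN A hAEN hAe hAc).2.2 (zpowers a)
      (zpowers_le.2 ha) hY (hfixY N h.coatomN (le_sigmaCore F hG h.symm))
    exact h.ne (h1.2 N h.coatomN h2.1).symm

/-- A subgroup of prime order of `M ∩ N` outside `σ(M)` centralizes `P` or belongs to `τ₁(M)`. -/
theorem centralizes_or_tau1 (h : CommonSylow p M N P) [Fact r.Prime] (hXD : X ≤ M ⊓ N)
    (hX : Nat.card X = r) (hrs : r ∉ Cfsg.sigma M) :
    X ≤ centralizer (P : Set G) ∨ r ∈ Cfsg.tau1 M := by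
  have hXM : X ≤ M := hXD.trans inf_le_left
  rcases tau_cases F hG h.coatomM Fact.out (dvd_card_of_card_le hXM hX) hrs with h1 | h2 | h3
  · exact Or.inr h1
  · exact absurd h2 (not_tau2 F hG h)
  refine Or.inl ?_
  obtain ⟨E, hXE, -, hE⟩ := exists_complIn_inf F hG h hXD fun s hs hd => by
    rw [hX] at hd
    rw [(Nat.prime_dvd_prime_iff_eq hs Fact.out).1 hd]
    exact hrs
  obtain ⟨E₃, hE₃, hXE₃⟩ := exists_isPiHallOf_ge (π := Cfsg.tau3 M)
    (minSimple_solvable hG (ne_top_of_le_ne_top h.coatomM.1 hE.1)) hXE (fun s hs hd => by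
      rw [hX] at hd
      rw [(Nat.prime_dvd_prime_iff_eq hs Fact.out).1 hd]
      exact h3)
  have hXM' : X ≤ ⁅M, M⁆ :=
    hXE₃.trans (((F.complStructure M h.coatomM E hE).2 E₃ hE₃).2.1.trans
      (commutator_mono hE.1 hE.1))
  refine le_centralizer_of_betaPrime F.bg12.bg10 hG h.coatomM hXM'
    ((le_sigmaCore F hG h).trans (sigmaCore_le_derived F.bg12.bg10 hG h.coatomM))
    (hXD.trans (inf_le_normalizer F hG h))
    (isPiSubgroup_of_isPGroup (p := r) (IsPGroup.of_card (n := 1) (by rw [hX, pow_one]))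
      ⟨Fact.out, fun hb => hrs (beta_subset_sigma F hG h.coatomM hb)⟩)
    (isPiSubgroup_of_isPGroup h.sylowM.isPGroup ⟨Fact.out, not_beta F hG h⟩) ?_
  rw [hX]
  exact (Fact.out : r.Prime).coprime_iff_not_dvd.2
    (BG12.ne_of_dvd_sigma h.sylowM.isPGroup (fun e => hrs (e ▸ h.sigmaM)))

/-- A complement of `M_σ` in `M ∩ N` centralizes `C_P(W)`, `W` a Hall `τ₁`-subgroup of it. -/
theorem inf_centralizer_tauOne (h : CommonSylow p M N P) {E W : Subgroup G}
    (hE : Cfsg.IsComplIn E (Cfsg.sigmaCore M) M) (hED : E ≤ M ⊓ N)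
    (hW : Cfsg.IsPiHallOf (Cfsg.tau1 M) W E) : P ⊓ centralizer (W : Set G) = ⊥ := by
  set R := P ⊓ centralizer (W : Set G)
  have hsol : Group.IsSolvable E := minSimple_solvable hG (ne_top_of_le_ne_top h.coatomM.1 hE.1)
  have hER : E ≤ centralizer (R : Set G) := by
    refine BG4.le_of_sylow_le fun s hs => ?_
    haveI := Fact.mk hs
    obtain ⟨Q⟩ : Nonempty (Sylow s E) := inferInstance
    by_cases hs1 : s ∈ Cfsg.tau1 M
    · obtain ⟨S, hS⟩ := BG11.exists_isSylowIn (p := s) W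
      have hSE : IsSylowIn s S E := by
        refine ⟨hS.le.trans hW.1, hS.isPGroup, fun hd => ?_⟩
        rw [← relIndex_mul_relIndex S W E hS.le hW.1] at hd
        exact (hs.dvd_mul.1 hd).elim hS.not_dvd (hW.2.2 s hs hs1)
      refine ⟨(hSE.isPGroup.comap_subtype (K := E)).toSylow hSE.not_dvd, ?_⟩
      refine le_trans (le_of_eq ?_) (hS.le.trans (le_centralizer_iff.1 inf_le_right))
      exact map_subgroupOf_eq_of_le hSE.le
    · refine ⟨Q, ?_⟩
      by_cases hQ : (Q : Subgroup E).map E.subtype = ⊥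
      · rw [hQ]; exact bot_le
      obtain ⟨Y, hYQ, hY⟩ := exists_card_prime_le (q := s) (Q.2.map E.subtype) hQ
      have hYE : Y ≤ E := hYQ.trans (map_subtype_le _)
      have hsσ : s ∉ Cfsg.sigma M :=
        complIn_not_sigma F hG h.coatomM hE hs (dvd_card_of_card_le hYE hY)
      rcases tau_cases F hG h.coatomM hs (dvd_card_of_card_le (hYE.trans hE.1) hY) hsσ with
        h1 | h2 | h3
      · exact absurd h1 hs1
      · exact absurd h2 (not_tau2 F hG h)
      obtain ⟨E₃, hE₃, hQE₃⟩ := exists_isPiHallOf_ge (π := Cfsg.tau3 M) hsol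
        (map_subtype_le (Q : Subgroup E)) (isPiSubgroup_of_isPGroup (Q.2.map E.subtype) h3)
      have hQM' := hQE₃.trans (((F.complStructure M h.coatomM E hE).2 E₃ hE₃).2.1.trans
        (commutator_mono hE.1 hE.1))
      refine le_trans ?_ (centralizer_le inf_le_left)
      refine le_centralizer_of_betaPrime F.bg12.bg10 hG h.coatomM hQM'
        ((le_sigmaCore F hG h).trans (sigmaCore_le_derived F.bg12.bg10 hG h.coatomM))
        ((map_subtype_le _).trans (hED.trans (inf_le_normalizer F hG h)))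
        (isPiSubgroup_of_isPGroup (Q.2.map E.subtype)
          ⟨hs, fun hb => hsσ (beta_subset_sigma F hG h.coatomM hb)⟩)
        (isPiSubgroup_of_isPGroup h.sylowM.isPGroup ⟨Fact.out, not_beta F hG h⟩) ?_
      exact BG11.coprime_card_of_not_dvd (Q.2.map E.subtype)
        (BG12.ne_of_dvd_sigma h.sylowM.isPGroup fun e => hsσ (e ▸ h.sigmaM))
  rw [← le_bot_iff, ← inf_derived_eq_bot F hG h]
  exact le_inf inf_le_left ((le_inf (inf_le_left.trans (le_sigmaCore F hG h))
    (le_centralizer_iff.1 hER)).trans (sigmaCore_complIn_action F.bg12 hG h.coatomM hE).1)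

theorem inf_centralizer_eq_bot (h : CommonSylow p M N P) [Fact r.Prime] (hXD : X ≤ M ⊓ N)
    (hX : Nat.card X = r) (hr : r ∈ Cfsg.tau1 M) : P ⊓ centralizer (X : Set G) = ⊥ := by
  have hu : IsPiSubgroup (Cfsg.tau1 M) X := fun s hs hd => by
    rw [hX] at hd
    rwa [(Nat.prime_dvd_prime_iff_eq hs Fact.out).1 hd]
  obtain ⟨E, hXE, hED, hE⟩ := exists_complIn_inf F hG h hXD fun s hs hd => (hu s hs hd).2.1
  obtain ⟨W, hW, hXW⟩ := exists_isPiHallOf_ge (π := Cfsg.tau1 M)
    (minSimple_solvable hG (ne_top_of_le_ne_top h.coatomM.1 hE.1)) hXE hu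
  have hsp := tauOne_semiprime F hG h.coatomM hE hW.1
    ((F.complStructure M h.coatomM E hE).1 W hW) hW.2.1 hXW hX
  rw [← le_bot_iff, ← inf_centralizer_tauOne F hG h hE hED hW]
  refine le_inf inf_le_left ?_
  exact ((le_inf (inf_le_left.trans (le_sigmaCore F hG h)) inf_le_right).trans hsp.le).trans
    inf_le_right

theorem exists_mover (h : CommonSylow p M N P) :
    ∃ (r : ℕ) (X : Subgroup G), r.Prime ∧ r ∈ Cfsg.tau1 M ∧ X ≤ M ⊓ N ∧ Nat.card X = r := by
  obtain ⟨E, -, hED, hE⟩ := exists_complIn_inf F hG h bot_le fun s hs hd =>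
    absurd hd (by rw [card_bot]; exact hs.not_dvd_one)
  obtain ⟨W, hW⟩ := exists_isPiHallOf (Cfsg.tau1 M)
    (minSimple_solvable hG (ne_top_of_le_ne_top h.coatomM.1 hE.1))
  have hne : W ≠ ⊥ := by
    intro e
    refine h.ne_bot (le_bot_iff.1 ?_)
    rw [← inf_centralizer_tauOne F hG h hE hED hW, e]
    exact le_inf le_rfl (le_centralizer_iff.1 bot_le)
  obtain ⟨r, hr, hd⟩ := Nat.exists_prime_and_dvd
    (fun e => hne (Subgroup.card_eq_one.1 e))
  haveI := Fact.mk hr
  obtain ⟨x, hx⟩ := exists_prime_orderOf_dvd_card' (G := W) r hd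
  exact ⟨r, zpowers (x : G), hr, hW.2.1 r hr hd, zpowers_le.2 (hED (hW.1 x.2)),
    by rw [Nat.card_zpowers, orderOf_coe, hx]⟩

theorem tau1_symm (h : CommonSylow p M N P) [Fact r.Prime] (hXD : X ≤ M ⊓ N)
    (hX : Nat.card X = r) (hr : r ∈ Cfsg.tau1 M) : r ∈ Cfsg.tau1 N := by
  have hfix := inf_centralizer_eq_bot F hG h hXD hX hr
  have hXn : ¬ X ≤ centralizer (P : Set G) := fun hc =>
    h.ne_bot (le_bot_iff.1 (hfix ▸ le_inf le_rfl (le_centralizer_iff.1 hc)))
  have hXD' : X ≤ N ⊓ M := hXD.trans (inf_comm M N).le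
  have hXp : IsPGroup r X := IsPGroup.of_card (n := 1) (by rw [hX, pow_one])
  have hrσ : r ∉ Cfsg.sigma N := by
    intro hs
    by_cases hb : r ∈ Cfsg.beta N
    · refine hXn ?_
      have h1 : X ≤ Cfsg.piCoreOf (Cfsg.beta N) N :=
        le_of_isPiHallOf_normal (F.bg12.betaCore N h.coatomN) (le_normalizer_piCoreOf _ _)
          (hXD.trans inf_le_right) (isPiSubgroup_of_isPGroup hXp hb)
      exact (le_inf h1 (hXD.trans inf_le_left)).trans (betaCore_inf_le_centralizer F hG h.symm)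
    · refine hXn (le_centralizer_of_betaPrime F.bg12.bg10 hG h.coatomN
        ((pGroup_le_sigmaCore F.bg12.bg10 h.coatomN hs (hXD.trans inf_le_right) hXp).trans
          (sigmaCore_le_derived F.bg12.bg10 hG h.coatomN))
        ((le_sigmaCore F hG h.symm).trans (sigmaCore_le_derived F.bg12.bg10 hG h.coatomN))
        (hXD.trans (inf_le_normalizer F hG h))
        (isPiSubgroup_of_isPGroup hXp ⟨Fact.out, hb⟩)
        (isPiSubgroup_of_isPGroup h.sylowM.isPGroup ⟨Fact.out, not_beta F hG h.symm⟩) ?_)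
      exact BG11.coprime_card_of_not_dvd hXp
        (BG12.ne_of_dvd_sigma h.sylowM.isPGroup fun e => hr.2.1 (e ▸ h.sigmaM))
  exact (centralizes_or_tau1 F hG h.symm hXD' hX hrσ).resolve_left hXn

/-- The fixed points of `X` on `M_β` are not contained in `N`. -/
theorem fixed_not_le (h : CommonSylow p M N P) [Fact r.Prime] (hXD : X ≤ M ⊓ N)
    (hX : Nat.card X = r) (hr : r ∈ Cfsg.tau1 M) :
    ¬ Cfsg.piCoreOf (Cfsg.beta M) M ⊓ centralizer (X : Set G) ≤ N := by
  intro hle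
  set B := Cfsg.piCoreOf (Cfsg.beta M) M with hB
  have hfix := inf_centralizer_eq_bot F hG h hXD hX hr
  have hXp : IsPGroup r X := IsPGroup.of_card (n := 1) (by rw [hX, pow_one])
  have hXn := hXD.trans (inf_le_normalizer F hG h)
  have hrp : r ≠ p := fun e => hr.2.1 (e ▸ h.sigmaM)
  have hPX : P ⊔ X ≤ M := sup_le h.sylowM.le (hXD.trans inf_le_left)
  have hπ : IsPiSubgroup ({p, r} : Set ℕ) (X ⊔ P) :=
    isPiSubgroup_sup hXn (isPiSubgroup_of_isPGroup hXp (Or.inr rfl))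
      (isPiSubgroup_of_isPGroup h.sylowM.isPGroup (Or.inl rfl))
  have hform := frobenius_fixed_point_formula (U := P) (E := X) (H := B)
    (inf_eq_bot_of_isPiSubgroup (isPiSubgroup_of_isPGroup h.sylowM.isPGroup (Set.mem_singleton p))
      (isPiSubgroup_of_isPGroup hXp (Set.mem_singleton r))
      (Set.disjoint_singleton.2 hrp.symm))
    hXn
    (fun e he he1 u hu hc => by
      have h1 : u ∈ P ⊓ centralizer (X : Set G) := mem_inf.2 ⟨hu, by
        rw [centralizer_eq_singleton_of_card hX he he1, mem_centralizer_singleton_iff]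
        exact hc.symm⟩
      rwa [hfix, mem_bot] at h1)
    (hPX.trans (le_normalizer_piCoreOf _ _))
    (minSimple_solvable hG (ne_top_of_le_ne_top h.coatomM.1 (piCoreOf_le _ _)))
    (by
      refine coprime_card_of_isPiSubgroup (sup_comm X P ▸ hπ) (isPiSubgroup_piCoreOf _ M) ?_
      rw [Set.disjoint_left]
      rintro s (rfl | rfl) hs
      · exact not_beta F hG h hs
      · exact hr.2.1 (beta_subset_sigma F hG h.coatomM hs))
  have hC : B ⊓ centralizer ((P ⊔ X : Subgroup G) : Set G) = B ⊓ centralizer (X : Set G) := by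
    refine le_antisymm (inf_le_inf_left _ (centralizer_le (SetLike.coe_subset_coe.2 le_sup_right)))
      (le_inf inf_le_left (le_centralizer_iff.1 (sup_le (le_centralizer_iff.1 ?_)
        (le_centralizer_iff.1 inf_le_right))))
    exact (le_inf inf_le_left hle).trans (betaCore_inf_le_centralizer F hG h)
  rw [hC] at hform
  have h2 : B ⊓ centralizer (P : Set G) = B :=
    Subgroup.eq_of_le_of_card_ge inf_le_left
      (Nat.eq_of_mul_eq_mul_left (pow_pos Nat.card_pos _) hform).le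
  refine h.ne ((h.coatomM.le_iff.1 ?_).resolve_left h.coatomN.1).symm
  conv_lhs => rw [eq_sup F hG h]
  exact sup_le ((inf_eq_left.1 h2).trans ((centralizer_le_normalizer _).trans
    (h.normalizer_le.trans inf_le_right))) inf_le_right

/-- No `C(X)`-conjugate of `C_{N_β}(X)` lies in `M`. -/
theorem conj_fixed_not_le (h : CommonSylow p M N P) [Fact r.Prime] (hXD : X ≤ M ⊓ N)
    (hX : Nat.card X = r) (hr : r ∈ Cfsg.tau1 M) {c : G}
    (hc : c ∈ centralizer (X : Set G)) :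
    ¬ (Cfsg.piCoreOf (Cfsg.beta N) N ⊓ centralizer (X : Set G)).map
      (MulAut.conj c).toMonoidHom ≤ M := by
  intro hle
  have hrN := tau1_symm F hG h hXD hX hr
  set Z := Cfsg.piCoreOf (Cfsg.beta N) N ⊓ centralizer (X : Set G)
  set N' := N.map (MulAut.conj c).toMonoidHom with hN'
  have hZ1 : Z ≠ ⊥ := fun e => fixed_not_le F hG h.symm (hXD.trans (inf_comm M N).le) hX hrN
    (by rw [show Cfsg.piCoreOf (Cfsg.beta N) N ⊓ centralizer (X : Set G) = ⊥ from e]; exact bot_le)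
  obtain ⟨s, hs, hsd⟩ := Nat.exists_prime_and_dvd (fun e => hZ1 (Subgroup.card_eq_one.1 e))
  haveI := Fact.mk hs
  obtain ⟨z, hz⟩ := exists_prime_orderOf_dvd_card' (G := Z) s hsd
  set Y₀ := (zpowers (z : G)).map (MulAut.conj c).toMonoidHom with hY₀
  have hY₀c : Nat.card Y₀ = s := by rw [card_map_conj, Nat.card_zpowers, orderOf_coe, hz]
  have hY₀Z : Y₀ ≤ Z.map (MulAut.conj c).toMonoidHom := map_mono (zpowers_le.2 z.2)
  have hsb : s ∈ Cfsg.beta N := isPiSubgroup_piCoreOf _ N s hs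
    (hsd.trans (card_dvd_of_le inf_le_left))
  have hsσ : s ∉ Cfsg.sigma M := by
    intro hsM
    obtain ⟨g, hg⟩ := (exists_conj_of_alpha F.bg12.bg10 hG h.coatomM h.coatomN hsM hsb.1).2
    exact h.not_conj g hg
  -- conjugate `Y₀` into `M ∩ N`
  haveI := minSimple_coatom_solvable hG h.coatomM
  obtain ⟨m, hm, hY⟩ := exists_conj_le_of_relIndex (L := M ⊓ N) inf_le_left (hY₀Z.trans hle)
    (isPiSubgroup_of_isPGroup (π := ({s} : Set ℕ))
      (IsPGroup.of_card (n := 1) (by rw [hY₀c, pow_one])) rfl)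
    fun t ht hd e => hsσ (Set.mem_singleton_iff.1 e ▸ relIndex_inf F hG h ht hd)
  set Y := Y₀.map (MulAut.conj m).toMonoidHom with hYdef
  have hYc : Nat.card Y = s := by rw [card_map_conj, hY₀c]
  have hCN : centralizer (Y : Set G) ≤ N :=
    F.bg12.sigmaOrderP N h.coatomN s (beta_subset_sigma F hG h.coatomN hsb) Y
      (hY.trans inf_le_right) hYc (Or.inl hsb)
  have hu := (F.sigmaOrderUnique N h.coatomN s (beta_subset_sigma F hG h.coatomN hsb) Y
    (hY.trans inf_le_right) hYc (Or.inl hsb)).1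
  -- the same centralizer lies in a conjugate of `N'`
  have hN'' : IsCoatom (N'.map (MulAut.conj m).toMonoidHom) :=
    isCoatom_map_conj (isCoatom_map_conj h.coatomN c) m
  have hY'' : Y ≤ Cfsg.piCoreOf (Cfsg.beta (N'.map (MulAut.conj m).toMonoidHom))
      (N'.map (MulAut.conj m).toMonoidHom) := by
    rw [beta_map_conj, hN', beta_map_conj, map_conj_map_conj, piCoreOf_map_conj, hYdef, hY₀,
      map_conj_map_conj]
    exact map_mono ((zpowers_le.2 z.2).trans inf_le_left)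
  have hsb'' : s ∈ Cfsg.beta (N'.map (MulAut.conj m).toMonoidHom) := by
    rwa [beta_map_conj, hN', beta_map_conj]
  have heq : N'.map (MulAut.conj m).toMonoidHom = N :=
    hu _ hN'' (F.bg12.sigmaOrderP _ hN'' s (beta_subset_sigma F hG hN'' hsb'') Y
      (hY''.trans (piCoreOf_le _ _)) hYc (Or.inl hsb''))
  have hN'eq : N' = N.map (MulAut.conj m⁻¹).toMonoidHom := by
    rw [← heq, map_conj_map_conj, inv_mul_cancel, map_conj_one]
  have h' : CommonSylow p M N' (P.map (MulAut.conj m⁻¹).toMonoidHom) := by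
    refine ⟨h.coatomM, isCoatom_map_conj h.coatomN c, fun e => h.not_conj c⁻¹ ?_, h.sigmaM, ?_,
      ?_, ?_⟩
    · rw [e, hN', map_conj_map_conj, inv_mul_cancel, map_conj_one]
    · rw [hN', sigma_map_conj]; exact h.sigmaN
    · have : IsSylowIn p (P.map (MulAut.conj m⁻¹).toMonoidHom)
          (M.map (MulAut.conj m⁻¹).toMonoidHom) := h.sylowM.cj m⁻¹
      rwa [map_conj_eq_self_of_mem (inv_mem hm)] at this
    · rw [hN'eq]
      exact h.sylowN.cj m⁻¹
  have hXN' : X ≤ M ⊓ N' := le_inf (hXD.trans inf_le_left) (by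
    rw [hN', ← map_conj_eq_self_of_le_centralizer hc]
    exact map_mono (hXD.trans inf_le_right))
  refine fixed_not_le F hG h'.symm (hXN'.trans (inf_comm M N').le) hX
    (tau1_symm F hG h' hXN' hX hr) ?_
  rw [hN', beta_map_conj, piCoreOf_map_conj]
  intro y hy
  obtain ⟨hy1, hy2⟩ := mem_inf.1 hy
  obtain ⟨u, hu', rfl⟩ := hy1
  refine hle ⟨u, mem_inf.2 ⟨hu', ?_⟩, rfl⟩
  have h3 := mem_map_of_mem (MulAut.conj c⁻¹).toMonoidHom hy2
  rw [map_conj_centralizer] at h3
  have e : centralizer ((fun x => c⁻¹ * x * c⁻¹⁻¹) '' (X : Set G)) = centralizer (X : Set G) := by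
    congr 1
    conv_rhs => rw [← map_conj_eq_self_of_le_centralizer (inv_mem hc)]
    rfl
  rw [e] at h3
  simpa [mul_assoc] using h3

theorem false_of_common (h : CommonSylow p M N P) : False := by
  obtain ⟨r, X, hr0, hr, hXD, hX⟩ := exists_mover F hG h
  haveI := Fact.mk hr0
  have hrN := tau1_symm F hG h hXD hX hr
  have hXD' : X ≤ N ⊓ M := hXD.trans (inf_comm M N).le
  obtain ⟨H, hH, hNH, -, hncM, -⟩ := exists_coatom_normalizer F hG h.coatomM hr.2.1 hr.2.2.2.2 hX
  obtain ⟨-, -, -, -, hncN, -⟩ := exists_coatom_normalizer F hG h.coatomN hrN.2.1 hrN.2.2.2.2 hX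
  have hCH : centralizer (X : Set G) ≤ H := (centralizer_le_normalizer _).trans hNH
  -- the primes of both fixed point groups are in `τ₁(H) ∪ τ₃(H)`
  have key : ∀ L L' : Subgroup G, CommonSylow p L L' P → X ≤ L ⊓ L' → r ∈ Cfsg.tau1 L →
      (∀ g : G, H ≠ L.map (MulAut.conj g).toMonoidHom) → ∀ s : ℕ, s.Prime →
      s ∣ Nat.card ↥(Cfsg.piCoreOf (Cfsg.beta L) L ⊓ centralizer (X : Set G)) →
      s ∈ Cfsg.beta L ∧ s ∉ Cfsg.sigma H ∧ (s ∈ Cfsg.tau1 H ∨ s ∈ Cfsg.tau3 H) := by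
    intro L L' hL _ _ hncL s hs hd
    haveI := Fact.mk hs
    have hsb : s ∈ Cfsg.beta L :=
      isPiSubgroup_piCoreOf _ L s hs (hd.trans (card_dvd_of_le inf_le_left))
    have hsσ : s ∉ Cfsg.sigma H := fun hsH =>
      not_alpha_of_sigma F.bg12 hG hH hL.coatomM (not_conj_symm hncL) hsH hsb.1
    refine ⟨hsb, hsσ, ?_⟩
    rcases tau_cases F hG hH hs (hd.trans (card_dvd_of_le (inf_le_right.trans hCH))) hsσ with
      h1 | h2 | h3
    · exact Or.inl h1
    · exact absurd hsb (tau2_not_beta F hG hH h2 L)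
    · exact Or.inr h3
  have hncN' : ∀ g : G, H ≠ N.map (MulAut.conj g).toMonoidHom := by
    intro g e
    rcases (show r ∈ Cfsg.sigma H ∨ r ∈ Cfsg.tau2 H from by
        by_cases hs : r ∈ Cfsg.sigma H
        · exact Or.inl hs
        · exact Or.inr ⟨hr0, hs, pRankLE_two_of_not_sigma F.bg12.bg10 hH hs,
            (F.bg12.orderP H hH r hs X hX hNH).1⟩) with hs | ht
    · rw [e, sigma_map_conj] at hs
      exact hrN.2.1 hs
    · exact ht.2.2.2 (e ▸ pRankLE_map_conj hrN.2.2.2.2 g)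
  set ZM := Cfsg.piCoreOf (Cfsg.beta M) M ⊓ centralizer (X : Set G)
  set ZN := Cfsg.piCoreOf (Cfsg.beta N) N ⊓ centralizer (X : Set G)
  have keyM := key M N h hXD hr hncM
  have keyN := key N M h.symm hXD' hrN hncN'
  have hsolC : Group.IsSolvable (centralizer (X : Set G)) :=
    minSimple_solvable hG (ne_top_of_le_ne_top hH.1 hCH)
  set π : Set ℕ := {t | t.Prime ∧ t ∉ Cfsg.sigma H}
  obtain ⟨T, hT, hZMT⟩ := exists_isPiHallOf_ge (π := π) hsolC (inf_le_right : ZM ≤ _)
    fun s hs hd => ⟨hs, (keyM s hs hd).2.1⟩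
  obtain ⟨c, hc, hZNT⟩ := exists_conj_le_isPiHallOf hsolC (inf_le_right : ZN ≤ _)
    (fun s hs hd => (⟨hs, (keyN s hs hd).2.1⟩ : s ∈ π)) hT
  obtain ⟨E, hTE, hE⟩ := exists_complIn_ge F.bg12 hG hH (hT.1.trans hCH) fun s hs hd =>
    (hT.2.1 s hs hd).2
  -- if a prime of `L_β` is in `τ₃(H)` the complement lies in `L`
  have hE3 : ∀ (L : Subgroup G), IsCoatom L → ∀ s : ℕ, s.Prime → s ∈ Cfsg.beta L →
      s ∈ Cfsg.tau3 H → ∀ Z : Subgroup G, Z ≤ E → Z ≤ Cfsg.piCoreOf (Cfsg.beta L) L →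
      s ∣ Nat.card Z → E ≤ L := by
    intro L hL s hs hsb hs3 Z hZE hZL hd
    haveI := Fact.mk hs
    obtain ⟨y, hy⟩ := exists_prime_orderOf_dvd_card' (G := Z) s hd
    set Y := zpowers (y : G)
    have hYc : Nat.card Y = s := by rw [Nat.card_zpowers, orderOf_coe, hy]
    have hYp : IsPGroup s Y := IsPGroup.of_card (n := 1) (by rw [hYc, pow_one])
    have hYL : Y ≤ L := (zpowers_le.2 y.2).trans (hZL.trans (piCoreOf_le _ _))
    obtain ⟨E₃, hE₃, hYE₃⟩ := exists_isPiHallOf_ge (π := Cfsg.tau3 H)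
      (minSimple_solvable hG (ne_top_of_le_ne_top hH.1 hE.1)) ((zpowers_le.2 y.2).trans hZE)
      (isPiSubgroup_of_isPGroup hYp hs3)
    obtain ⟨hc3, -, hn3⟩ := (F.complStructure H hH E hE).2 E₃ hE₃
    exact (hn3.trans (normalizer_le_normalizer_of_isCyclic hc3 hYE₃)).trans
      (normalizer_le_of_centralizer_le F hG hL (beta_subset_sigma F hG hL hsb) hYp
        (BG11.ne_bot_of_card_prime hYc) hYL
        (F.bg12.sigmaOrderP L hL s (beta_subset_sigma F hG hL hsb) Y hYL hYc (Or.inl hsb)))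
  by_cases hM3 : ∃ s : ℕ, s.Prime ∧ s ∣ Nat.card ZM ∧ s ∈ Cfsg.tau3 H
  · obtain ⟨s, hs, hd, hs3⟩ := hM3
    exact conj_fixed_not_le F hG h hXD hX hr hc (hZNT.trans (hTE.trans
      (hE3 M h.coatomM s hs (keyM s hs hd).1 hs3 ZM (hZMT.trans hTE) inf_le_left hd)))
  by_cases hN3 : ∃ s : ℕ, s.Prime ∧ s ∣ Nat.card ZN ∧ s ∈ Cfsg.tau3 H
  · obtain ⟨s, hs, hd, hs3⟩ := hN3
    have hEN : E ≤ N.map (MulAut.conj c).toMonoidHom := by
      refine hE3 _ (isCoatom_map_conj h.coatomN c) s hs (by rw [beta_map_conj]; exact (keyN s hs hd).1)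
        hs3 (ZN.map (MulAut.conj c).toMonoidHom) (hZNT.trans hTE) ?_ (by rwa [card_map_conj])
      rw [beta_map_conj, piCoreOf_map_conj]
      exact map_mono inf_le_left
    refine conj_fixed_not_le F hG h.symm hXD' hX hrN (inv_mem hc) ?_
    have h1 := map_mono (f := (MulAut.conj c⁻¹).toMonoidHom) ((hZMT.trans hTE).trans hEN)
    rwa [map_conj_map_conj, inv_mul_cancel, map_conj_one] at h1
  -- otherwise both fixed point groups lie in a cyclic `τ₁(H)`-group
  have hπM : IsPiSubgroup (Cfsg.tau1 H) ZM := fun s hs hd =>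
    (keyM s hs hd).2.2.resolve_right fun h3 => hM3 ⟨s, hs, hd, h3⟩
  have hπN : IsPiSubgroup (Cfsg.tau1 H) (ZN.map (MulAut.conj c).toMonoidHom) := fun s hs hd => by
    rw [card_map_conj] at hd
    exact (keyN s hs hd).2.2.resolve_right fun h3 => hN3 ⟨s, hs, hd, h3⟩
  have hsolT : Group.IsSolvable T := minSimple_solvable hG (ne_top_of_le_ne_top hH.1 (hT.1.trans hCH))
  obtain ⟨T₁, hT₁, hMT₁⟩ := exists_isPiHallOf_ge (π := Cfsg.tau1 H) hsolT hZMT hπM
  obtain ⟨d, hd, hNT₁⟩ := exists_conj_le_isPiHallOf hsolT hZNT hπN hT₁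
  obtain ⟨E₁, hE₁, hTE₁⟩ := exists_isPiHallOf_ge (π := Cfsg.tau1 H)
    (minSimple_solvable hG (ne_top_of_le_ne_top hH.1 hE.1)) (hT₁.1.trans hTE) hT₁.2.1
  haveI := (F.complStructure H hH E hE).1 E₁ hE₁
  rw [map_conj_map_conj] at hNT₁
  have hdc : d * c ∈ centralizer (X : Set G) := mul_mem (hT.1 hd) hc
  refine conj_fixed_not_le F hG h hXD hX hr hdc ?_
  have hZM1 : ZM ≠ ⊥ := fun e => fixed_not_le F hG h hXD hX hr
    (by rw [show Cfsg.piCoreOf (Cfsg.beta M) M ⊓ centralizer (X : Set G) = ⊥ from e]; exact bot_le)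
  obtain ⟨s, hs, hsd⟩ := Nat.exists_prime_and_dvd (fun e => hZM1 (Subgroup.card_eq_one.1 e))
  haveI := Fact.mk hs
  obtain ⟨y, hy⟩ := exists_prime_orderOf_dvd_card' (G := ZM) s hsd
  have hYM : zpowers (y : G) ≤ M :=
    zpowers_le.2 (piCoreOf_le _ _ (mem_inf.1 y.2).1)
  have hYc : Nat.card (zpowers (y : G)) = s := by rw [Nat.card_zpowers, orderOf_coe, hy]
  refine le_trans ?_ (F.bg12.sigmaOrderP M h.coatomM s
    (beta_subset_sigma F hG h.coatomM (keyM s hs hsd).1) (zpowers (y : G)) hYM hYc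
    (Or.inl (keyM s hs hsd).1))
  intro a ha
  rw [mem_centralizer_iff]
  intro b hb
  exact congrArg Subtype.val (IsMulCommutative.is_comm.comm
    (⟨b, hTE₁ (hMT₁ ((zpowers_le.2 y.2) hb))⟩ : E₁) ⟨a, hTE₁ (hNT₁ ha)⟩)

end CommonSylow

/-- BG 13.9: two maximal subgroups with a common prime in their `σ` are conjugate. -/
theorem exists_conj_of_sigma (F : BG13Facts G) (hG : Cfsg.IsMinSimpleOddOrder G) (hM : IsCoatom M)
    (hN : IsCoatom N) (hpM : p ∈ Cfsg.sigma M) (hpN : p ∈ Cfsg.sigma N) :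
    ∃ g : G, N = M.map (MulAut.conj g).toMonoidHom := by
  haveI := Fact.mk hpM.1
  obtain ⟨P, hP⟩ := BG11.exists_isSylowIn (p := p) M
  obtain ⟨Q, hQ⟩ := BG11.exists_isSylowIn (p := p) N
  obtain ⟨a, -, ha⟩ := (isSylowIn_top_of_sigma F.bg12.bg10 hM hpM hP).exists_cj_eq
    (isSylowIn_top_of_sigma F.bg12.bg10 hN hpN hQ)
  by_contra hne
  push Not at hne
  refine CommonSylow.false_of_common (N := N.map (MulAut.conj a).toMonoidHom) (P := P) F hG
    ⟨hM, isCoatom_map_conj hN a, fun e => hne a⁻¹ ?_, hpM, ?_, hP, ?_⟩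
  · rw [e, map_conj_map_conj, inv_mul_cancel, map_conj_one]
  · rw [sigma_map_conj]; exact hpN
  · rw [← ha]; exact hQ.cj a

/-- BG 13.9: the `σ` of non-conjugate maximal subgroups are disjoint. -/
theorem disjoint_sigma (F : BG13Facts G) (hG : Cfsg.IsMinSimpleOddOrder G) (hM : IsCoatom M)
    (hN : IsCoatom N) (hne : ∀ g : G, N ≠ M.map (MulAut.conj g).toMonoidHom) :
    Disjoint (Cfsg.sigma M) (Cfsg.sigma N) :=
  Set.disjoint_left.2 fun _ h1 h2 =>
    let ⟨g, hg⟩ := exists_conj_of_sigma F hG hM hN h1 h2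
    hne g hg

end CfsgLib.OddOrder.BG14
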