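import Cfsg.Agent.OddOrder.BG14.Signalizer

/-!
# BG 14.5, 14.9: the sets `M̃` and their size

`R(x)` depends only on `x` and the class of `M`, is compatible with conjugation, and has as many
elements as there are conjugates of `M` containing `x`. The cosets `x R(x)` are disjoint, so
`|M̃| = (|M_σ| - 1) |G : M|`, and non-conjugate maximal subgroups have disjoint `M̃`.
-/

set_option autoImplicit false
set_option linter.style.haveILetI false
set_option linter.unusedSectionVars false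

namespace CfsgLib.OddOrder.BG14

open Cfsg Subgroup
open CfsgLib.OddOrder
open CfsgLib.OddOrder.BG11
open CfsgLib.OddOrder.BG13

variable {G : Type*} [Group G] [Finite G] {M N : Subgroup G} {x y r s : G}

/-- If `x r = y s` with commuting factors, the orders of `x, y` are prime to those of `r, s`, then
`x = y`. -/
theorem eq_of_mul_eq_mul_of_coprime (hr : Commute x r) (hs : Commute y s)
    (hcop : (orderOf x * orderOf y).Coprime (orderOf r * orderOf s))
    (h : x * r = y * s) : x = y := by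
  obtain ⟨k, hk1, hk0⟩ := Nat.chineseRemainder hcop 1 0
  have key : ∀ a b : G, Commute a b → orderOf a ∣ orderOf x * orderOf y →
      orderOf b ∣ orderOf r * orderOf s → (a * b) ^ k = a := by
    intro a b hab ha hb
    rw [hab.mul_pow, pow_eq_pow_iff_modEq.2 (Nat.ModEq.of_dvd hb hk0), pow_zero, mul_one,
      pow_eq_pow_iff_modEq.2 (Nat.ModEq.of_dvd ha hk1), pow_one]
  have h1 := key x r hr (dvd_mul_right _ _) (dvd_mul_right _ _)
  rw [h, key y s hs (dvd_mul_left _ _) (dvd_mul_left _ _)] at h1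
  exact h1.symm

theorem orderOf_mul_dvd_mul (h : Commute x r) : orderOf (x * r) ∣ orderOf x * orderOf r := by
  rw [orderOf_dvd_iff_pow_eq_one, h.mul_pow, pow_mul, pow_orderOf_eq_one, one_pow, one_mul,
    mul_comm, pow_mul, pow_orderOf_eq_one, one_pow]

theorem prime_dvd_orderOf_mem_sigma (hx : x ∈ Cfsg.sigmaCore M) {p : ℕ} (hp : p.Prime)
    (hd : p ∣ orderOf x) : p ∈ Cfsg.sigma M :=
  isPiSubgroup_sigmaCore M p hp (hd.trans ((Cfsg.sigmaCore M).orderOf_dvd_natCard hx))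

theorem orderOf_coprime_of_disjoint (hx : x ∈ Cfsg.sigmaCore M) (hy : y ∈ Cfsg.sigmaCore N)
    (h : Disjoint (Cfsg.sigma M) (Cfsg.sigma N)) : (orderOf x).Coprime (orderOf y) :=
  Nat.coprime_of_dvd fun _ hp h1 h2 => Set.disjoint_left.1 h
    (prime_dvd_orderOf_mem_sigma hx hp h1) (prime_dvd_orderOf_mem_sigma hy hp h2)

variable (F : BG13Facts G) (K : FixFacts G) (hG : Cfsg.IsMinSimpleOddOrder G)
include F K hG

/-- If `C(x) ≤ M`, then `M` is the only one of its conjugates containing `x`. -/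
theorem eq_of_mem_conj_of_centralizer_le (hM : IsCoatom M) (hx : x ∈ Cfsg.sigmaCore M)
    (hx1 : x ≠ 1) (hC : centralizer ({x} : Set G) ≤ M) {g : G}
    (hg : x ∈ M.map (MulAut.conj g).toMonoidHom) : M.map (MulAut.conj g).toMonoidHom = M := by
  obtain ⟨-, R, -, hR, hmove⟩ := signalizer F hG hM hx hx1
  obtain ⟨r, ⟨hr, he⟩, -⟩ := hmove g hg
  have hr1 : r ∈ (M ⊓ centralizer ({x} : Set G)) ⊓ R :=
    mem_inf.2 ⟨mem_inf.2 ⟨hC (hR.2.1 hr), hR.2.1 hr⟩, hr⟩
  rw [hR.2.2.1, mem_bot] at hr1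
  rw [← he, hr1, map_conj_one]

omit F K hG in
theorem supportR_of_le (hC : centralizer ({x} : Set G) ≤ M) : Cfsg.supportR M x = ⊥ := by
  rw [Cfsg.supportR, dif_neg]
  exact fun h => h.1 hC

/-- `R(x)` when `C(x) ≰ M`. -/
theorem supportR_of_not_le (hM : IsCoatom M) (hx : x ∈ Cfsg.sigmaCore M) (hx1 : x ≠ 1)
    (hC : ¬ centralizer ({x} : Set G) ≤ M) :
    ∃ (q : ℕ) (L X A : Subgroup G), q.Prime ∧ Cover q M L x X A ∧
      (∀ H : Subgroup G, IsCoatom H → centralizer ({x} : Set G) ≤ H → H = L) ∧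
      Cfsg.supportR M x = Cfsg.sigmaCore L ⊓ centralizer ({x} : Set G) := by
  obtain ⟨q, L, X, A, hq, h, hu⟩ := exists_cover_of_not_le F hG K hM hx hx1 hC
  have hex : ∃! H : Subgroup G, IsCoatom H ∧ centralizer ({x} : Set G) ≤ H :=
    ⟨L, ⟨h.coatomN, Cover.centralizer_le F hG h⟩, fun H hH => hu H hH.1 hH.2⟩
  refine ⟨q, L, X, A, hq, h, hu, ?_⟩
  rw [Cfsg.supportR, dif_pos ⟨hC, hex⟩]
  have hc := Classical.choose_spec hex.exists
  rw [hu _ hc.1 hc.2,
    fittingHallOf_eq_sigmaCore hG h.coatomN (F.bg12.bg10.sigmaHall L h.coatomN).1 h.nilpotent]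

/-- Either `R(x) = 1`, or it is `C_{L_σ}(x)` for the covering subgroup `L`. -/
theorem supportR_cases (hM : IsCoatom M) (hx : x ∈ Cfsg.sigmaCore M) (hx1 : x ≠ 1)
    (hr : r ∈ Cfsg.supportR M x) (hr1 : r ≠ 1) :
    ∃ (q : ℕ) (L X A : Subgroup G), q.Prime ∧ Cover q M L x X A ∧
      (∀ H : Subgroup G, IsCoatom H → centralizer ({x} : Set G) ≤ H → H = L) ∧
      r ∈ Cfsg.sigmaCore L ∧ Commute x r := by
  have hC : ¬ centralizer ({x} : Set G) ≤ M := fun hC => hr1 (by
    rw [supportR_of_le hC] at hr; exact mem_bot.1 hr)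
  obtain ⟨q, L, X, A, hq, h, hu, he⟩ := supportR_of_not_le F K hG hM hx hx1 hC
  rw [he] at hr
  exact ⟨q, L, X, A, hq, h, hu, hr.1, (mem_centralizer_singleton_iff.1 hr.2).symm⟩

theorem supportR_commute (hM : IsCoatom M) (hx : x ∈ Cfsg.sigmaCore M) (hx1 : x ≠ 1)
    (hr : r ∈ Cfsg.supportR M x) : Commute x r := by
  by_cases hr1 : r = 1
  · rw [hr1]; exact Commute.one_right x
  · obtain ⟨q, L, X, A, -, -, -, -, h⟩ := supportR_cases F K hG hM hx hx1 hr hr1
    exact h

/-- BG 14.5 (S1433): the cosets `x R(x)` are disjoint. -/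
theorem supportR_mul_ne (hM : IsCoatom M) (hN : IsCoatom N) (hx : x ∈ Cfsg.sigmaCore M)
    (hy : y ∈ Cfsg.sigmaCore N) (hx1 : x ≠ 1) (hy1 : y ≠ 1) (hxy : x ≠ y)
    (hr : r ∈ Cfsg.supportR M x) (hs : s ∈ Cfsg.supportR N y) : x * r ≠ y * s := by
  intro e
  -- the order of `r` is prime to `σ(M)`, and similarly for `s`
  have aux : ∀ (M : Subgroup G) (x r : G), IsCoatom M → x ∈ Cfsg.sigmaCore M → x ≠ 1 →
      r ∈ Cfsg.supportR M x → ∀ p : ℕ, p.Prime → p ∣ orderOf r → p ∉ Cfsg.sigma M := by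
    intro M x r hM hx hx1 hr p hp hd hpM
    have hr1 : r ≠ 1 := fun h => by rw [h, orderOf_one] at hd; exact hp.not_dvd_one hd
    obtain ⟨q, L, X, A, -, hc, -, hrL, -⟩ := supportR_cases F K hG hM hx hx1 hr hr1
    exact Set.disjoint_left.1 (disjoint_sigma F hG hM hc.coatomN hc.not_conj) hpM
      (prime_dvd_orderOf_mem_sigma hrL hp hd)
  have cx := supportR_commute F K hG hM hx hx1 hr
  have cy := supportR_commute F K hG hN hy hy1 hs
  by_cases hσ : ∀ p, p ∈ Cfsg.sigma N → p ∈ Cfsg.sigma M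
  · -- `M` and `N` are conjugate
    obtain ⟨p, hp, hpy⟩ := Nat.exists_prime_and_dvd (mt orderOf_eq_one_iff.1 hy1)
    obtain ⟨g, hg⟩ := exists_conj_of_sigma F hG hM hN
      (hσ p (prime_dvd_orderOf_mem_sigma hy hp hpy)) (prime_dvd_orderOf_mem_sigma hy hp hpy)
    have hsig : Cfsg.sigma N = Cfsg.sigma M := by rw [hg, sigma_map_conj]
    refine hxy (eq_of_mul_eq_mul_of_coprime cx cy (Nat.coprime_of_dvd fun t ht h1 h2 => ?_) e)
    have h1' : t ∈ Cfsg.sigma M := by
      rcases ht.dvd_mul.1 h1 with h | h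
      · exact prime_dvd_orderOf_mem_sigma hx ht h
      · exact hsig ▸ prime_dvd_orderOf_mem_sigma hy ht h
    rcases ht.dvd_mul.1 h2 with h | h
    · exact aux M x r hM hx hx1 hr t ht h h1'
    · exact aux N y s hN hy hy1 hs t ht h (hsig.symm ▸ h1')
  have hMN : Disjoint (Cfsg.sigma M) (Cfsg.sigma N) :=
    disjoint_sigma F hG hM hN fun g hg => hσ fun p hp => by rwa [hg, sigma_map_conj] at hp
  -- `x` is a power of `z = x r`, so its order divides `|y| |s|`
  have hdiv : ∀ (M : Subgroup G) (x r : G), IsCoatom M → x ∈ Cfsg.sigmaCore M → x ≠ 1 →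
      r ∈ Cfsg.supportR M x → orderOf x ∣ orderOf (x * r) := fun M x r hM hx hx1 hr => by
    refine (supportR_commute F K hG hM hx hx1 hr).symm.orderOf_mul_eq_mul_orderOf_of_coprime
      (Nat.coprime_of_dvd fun t ht h1 h2 => aux M x r hM hx hx1 hr t ht h1
        (prime_dvd_orderOf_mem_sigma hx ht h2)) |> fun h => ?_
    rw [(supportR_commute F K hG hM hx hx1 hr).eq, h]
    exact dvd_mul_left _ _
  obtain ⟨p, hp, hpx⟩ := Nat.exists_prime_and_dvd (mt orderOf_eq_one_iff.1 hx1)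
  have hpM := prime_dvd_orderOf_mem_sigma hx hp hpx
  have hps : p ∣ orderOf s := (hp.dvd_mul.1 ((hpx.trans (hdiv M x r hM hx hx1 hr)).trans
    (e ▸ orderOf_mul_dvd_mul cy))).resolve_left fun h =>
      Set.disjoint_left.1 hMN hpM (prime_dvd_orderOf_mem_sigma hy hp h)
  obtain ⟨t, ht, hty⟩ := Nat.exists_prime_and_dvd (mt orderOf_eq_one_iff.1 hy1)
  have htN := prime_dvd_orderOf_mem_sigma hy ht hty
  have htr : t ∣ orderOf r := (ht.dvd_mul.1 ((hty.trans (hdiv N y s hN hy hy1 hs)).trans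
    (e.symm ▸ orderOf_mul_dvd_mul cx))).resolve_left fun h =>
      Set.disjoint_left.1 hMN (prime_dvd_orderOf_mem_sigma hx ht h) htN
  have hs1 : s ≠ 1 := fun h => by rw [h, orderOf_one] at hps; exact hp.not_dvd_one hps
  have hr1 : r ≠ 1 := fun h => by rw [h, orderOf_one] at htr; exact ht.not_dvd_one htr
  obtain ⟨qx, Lx, Xx, Ax, -, hcx, hux, hrL, -⟩ := supportR_cases F K hG hM hx hx1 hr hr1
  obtain ⟨qy, Ly, Xy, Ay, -, hcy, -, hsL, -⟩ := supportR_cases F K hG hN hy hy1 hs hs1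
  obtain ⟨a, ha⟩ := exists_conj_of_sigma F hG hM hcy.coatomN hpM
    (prime_dvd_orderOf_mem_sigma hsL hp hps)
  obtain ⟨b, hb⟩ := exists_conj_of_sigma F hG hN hcx.coatomN htN
    (prime_dvd_orderOf_mem_sigma hrL ht htr)
  have hsy : Cfsg.sigma Ly = Cfsg.sigma M := by rw [ha, sigma_map_conj]
  have hsx : Cfsg.sigma Lx = Cfsg.sigma N := by rw [hb, sigma_map_conj]
  -- comparing the `σ(M)`-parts gives `x = s`, and then `y = r`
  have hxs : x = s := by
    refine eq_of_mul_eq_mul_of_coprime (r := r) (s := y) cx cy.symm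
      (Nat.coprime_of_dvd fun u hu h1 h2 => ?_) (e.trans cy.eq)
    have h1' : u ∈ Cfsg.sigma M := by
      rcases hu.dvd_mul.1 h1 with h | h
      · exact prime_dvd_orderOf_mem_sigma hx hu h
      · exact hsy ▸ prime_dvd_orderOf_mem_sigma hsL hu h
    refine Set.disjoint_left.1 hMN h1' ?_
    rcases hu.dvd_mul.1 h2 with h | h
    · exact hsx ▸ prime_dvd_orderOf_mem_sigma hrL hu h
    · exact prime_dvd_orderOf_mem_sigma hy hu h
  subst hxs
  have hry : r = y := mul_left_cancel (e.trans cy.eq)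
  -- `x` lies in the core of `Ly`, whose covering subgroup is `Lx`
  have hne : ¬ centralizer ({x} : Set G) ≤ Ly := fun hC => by
    have h1 := hux Ly hcy.coatomN hC
    exact Set.disjoint_left.1 hMN hpM (hsx ▸ h1 ▸ (hsy.symm ▸ hpM : p ∈ Cfsg.sigma Ly))
  obtain ⟨q', N', X', A', -, hc', -⟩ := exists_cover_of_not_le F hG K hcy.coatomN hsL hx1 hne
  obtain rfl := hux N' hc'.coatomN (Cover.centralizer_le F hG hc')
  have hyL : y ∈ Ly := Cover.centralizer_le F hG hcy (mem_centralizer_singleton_iff.2 rfl)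
  have hy' : y ∈ (Ly ⊓ N') ⊓ Cfsg.sigmaCore N' :=
    mem_inf.2 ⟨mem_inf.2 ⟨hyL, sigmaCore_le _ (hry ▸ hrL)⟩, hry ▸ hrL⟩
  rw [hc'.compl.2.2.1, mem_bot] at hy'
  exact hy1 hy'

/-- BG 14.4: `R(x)` does not depend on the conjugate of `M`. -/
theorem supportR_eq_of_conj (hM : IsCoatom M) {g : G} (hx1 : x ≠ 1)
    (hx : x ∈ Cfsg.sigmaCore M) (hx' : x ∈ Cfsg.sigmaCore (M.map (MulAut.conj g).toMonoidHom)) :
    Cfsg.supportR (M.map (MulAut.conj g).toMonoidHom) x = Cfsg.supportR M x := by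
  have hM' := isCoatom_map_conj hM g
  by_cases hC : centralizer ({x} : Set G) ≤ M
  · rw [eq_of_mem_conj_of_centralizer_le F K hG hM hx hx1 hC (sigmaCore_le _ hx')]
  · by_cases hC' : centralizer ({x} : Set G) ≤ M.map (MulAut.conj g).toMonoidHom
    · have h := eq_of_mem_conj_of_centralizer_le F K hG hM' hx' hx1 hC' (g := g⁻¹)
        (by rw [map_conj_map_conj, inv_mul_cancel, map_conj_one]; exact sigmaCore_le M hx)
      rw [map_conj_map_conj, inv_mul_cancel, map_conj_one] at h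
      rw [← h]
    · obtain ⟨_, L, _, _, -, h1, hu, he⟩ := supportR_of_not_le F K hG hM hx hx1 hC
      obtain ⟨_, L', _, _, -, h1', -, he'⟩ := supportR_of_not_le F K hG hM' hx' hx1 hC'
      rw [he, he', hu L' h1'.coatomN (Cover.centralizer_le F hG h1')]

/-- `R` is compatible with conjugation. -/
theorem supportR_map_conj (hM : IsCoatom M) (hx : x ∈ Cfsg.sigmaCore M) (hx1 : x ≠ 1) (g : G) :
    Cfsg.supportR (M.map (MulAut.conj g).toMonoidHom) (g * x * g⁻¹) =
      (Cfsg.supportR M x).map (MulAut.conj g).toMonoidHom := by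
  have hx' : g * x * g⁻¹ ∈ Cfsg.sigmaCore (M.map (MulAut.conj g).toMonoidHom) := by
    rw [sigmaCore_map_conj F.bg12.bg10 hM g]; exact ⟨x, hx, rfl⟩
  have hC : centralizer ({g * x * g⁻¹} : Set G) =
      (centralizer ({x} : Set G)).map (MulAut.conj g).toMonoidHom := by
    rw [map_conj_centralizer, Set.image_singleton]
  by_cases hle : centralizer ({x} : Set G) ≤ M
  · rw [supportR_of_le hle, Subgroup.map_bot, supportR_of_le]
    rw [hC]; exact map_mono hle
  · have hle' : ¬ centralizer ({g * x * g⁻¹} : Set G) ≤ M.map (MulAut.conj g).toMonoidHom := by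
      rw [hC, map_le_map_iff_of_injective (MulAut.conj g).injective]
      exact hle
    obtain ⟨_, L, _, _, -, h, -, he⟩ := supportR_of_not_le F K hG hM hx hx1 hle
    obtain ⟨_, L', _, _, -, -, hu', he'⟩ := supportR_of_not_le F K hG (isCoatom_map_conj hM g) hx'
      (fun h => hx1 (conj_eq_one_iff.1 h)) hle'
    rw [he', he, Subgroup.map_inf _ _ _ (MulAut.conj g).injective, ← hC,
      ← hu' _ (isCoatom_map_conj h.coatomN g)
        (hC ▸ map_mono (Cover.centralizer_le F hG h)),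
      sigmaCore_map_conj F.bg12.bg10 h.coatomN g]

/-- The elements of `M̃` are `a r` with `a` in the core of some conjugate of `M` and `r ∈ R(a)`. -/
theorem mem_tildeOf_iff (hM : IsCoatom M) {z : G} :
    z ∈ Cfsg.tildeOf M ((Cfsg.sigmaCore M : Set G) \ {1}) ↔
      ∃ g : G, ∃ a ∈ Cfsg.sigmaCore (M.map (MulAut.conj g).toMonoidHom), a ≠ 1 ∧
        ∃ r ∈ Cfsg.supportR (M.map (MulAut.conj g).toMonoidHom) a, z = a * r := by
  constructor
  · rintro ⟨a, ⟨ha, ha1⟩, r, hr, g, rfl⟩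
    refine ⟨g, g * a * g⁻¹, ?_, fun h => ha1 (conj_eq_one_iff.1 h), g * r * g⁻¹, ?_, by group⟩
    · rw [sigmaCore_map_conj F.bg12.bg10 hM g]; exact ⟨a, ha, rfl⟩
    · rw [supportR_map_conj F K hG hM ha ha1 g]; exact ⟨r, hr, rfl⟩
  · rintro ⟨g, a, ha, ha1, r, hr, rfl⟩
    rw [sigmaCore_map_conj F.bg12.bg10 hM g] at ha
    obtain ⟨b, hb, rfl⟩ := ha
    replace ha1 : g * b * g⁻¹ ≠ 1 := ha1
    have hb1 : b ≠ 1 := fun h => ha1 (by rw [h]; group)
    rw [show (MulAut.conj g).toMonoidHom b = g * b * g⁻¹ from rfl,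
      supportR_map_conj F K hG hM hb hb1 g] at hr
    obtain ⟨c, hc, rfl⟩ := hr
    refine ⟨b, ⟨hb, hb1⟩, c, hc, g, ?_⟩
    show g * b * g⁻¹ * (g * c * g⁻¹) = g * (b * c) * g⁻¹
    group

/-- BG 14 (S1379, first part): non-conjugate maximal subgroups have disjoint `M̃`. -/
theorem tildeOf_inter_eq_empty (hM : IsCoatom M) (hN : IsCoatom N)
    (hne : ∀ g : G, N ≠ M.map (MulAut.conj g).toMonoidHom) :
    Cfsg.tildeOf M ((Cfsg.sigmaCore M : Set G) \ {1}) ∩
      Cfsg.tildeOf N ((Cfsg.sigmaCore N : Set G) \ {1}) = ∅ := by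
  rw [Set.eq_empty_iff_forall_notMem]
  rintro z ⟨hzM, hzN⟩
  obtain ⟨g, a, ha, ha1, r, hr, rfl⟩ := (mem_tildeOf_iff F K hG hM).1 hzM
  obtain ⟨h, b, hb, hb1, s, hs, e⟩ := (mem_tildeOf_iff F K hG hN).1 hzN
  by_cases hab : a = b
  · obtain ⟨p, hp, hpa⟩ := Nat.exists_prime_and_dvd (mt orderOf_eq_one_iff.1 ha1)
    have h1 := prime_dvd_orderOf_mem_sigma ha hp hpa
    have h2 := prime_dvd_orderOf_mem_sigma hb hp (hab ▸ hpa)
    rw [sigma_map_conj] at h1 h2
    obtain ⟨c, hc⟩ := exists_conj_of_sigma F hG hM hN h1 h2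
    exact hne c hc
  · exact supportR_mul_ne F K hG (isCoatom_map_conj hM g) (isCoatom_map_conj hN h) ha hb ha1 hb1
      hab hr hs e

omit F K hG in
theorem mem_sigmaCore_conj_iff (hM : IsCoatom M) (F₀ : BG11.BG10Facts G) (g : G) :
    g * x * g⁻¹ ∈ Cfsg.sigmaCore (M.map (MulAut.conj g).toMonoidHom) ↔ x ∈ Cfsg.sigmaCore M := by
  rw [sigmaCore_map_conj F₀ hM g]
  exact ⟨fun ⟨y, hy, e⟩ => (MulAut.conj g).injective e ▸ hy, fun h => ⟨x, h, rfl⟩⟩

/-- The number of conjugates of `M` whose core contains `x` is the order of `R(x)`. -/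
theorem card_conjugates_containing (hM : IsCoatom M) (hx : x ∈ Cfsg.sigmaCore M) (hx1 : x ≠ 1) :
    Nat.card {H : Subgroup G // (∃ g : G, H = M.map (MulAut.conj g).toMonoidHom) ∧
      x ∈ Cfsg.sigmaCore H} = Nat.card (Cfsg.supportR M x) := by
  by_cases hC : centralizer ({x} : Set G) ≤ M
  · rw [supportR_of_le hC, card_bot, Nat.card_eq_one_iff_unique]
    refine ⟨⟨fun a b => ?_⟩, ⟨M, ⟨1, (map_conj_one M).symm⟩, hx⟩⟩
    obtain ⟨A, ⟨g, rfl⟩, hA⟩ := a
    obtain ⟨B, ⟨h, rfl⟩, hB⟩ := b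
    exact Subtype.ext ((eq_of_mem_conj_of_centralizer_le F K hG hM hx hx1 hC
      (sigmaCore_le _ hA)).trans (eq_of_mem_conj_of_centralizer_le F K hG hM hx hx1 hC
      (sigmaCore_le _ hB)).symm)
  obtain ⟨q, L, X, A, hq, h, -, he⟩ := supportR_of_not_le F K hG hM hx hx1 hC
  haveI := Fact.mk hq
  rw [he]
  symm
  refine Nat.card_congr (Equiv.ofBijective (fun r => ⟨M.map (MulAut.conj (r : G)).toMonoidHom,
    ⟨(r : G), rfl⟩, ?_⟩) ⟨fun r r' e => Subtype.ext
      (Cover.mover_unique F hG h r.2.1 r'.2.1 (congrArg Subtype.val e)), ?_⟩)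
  · have hrx : (r : G) * x * (r : G)⁻¹ = x := by
      rw [mem_centralizer_singleton_iff.1 r.2.2, mul_inv_cancel_right]
    have := (mem_sigmaCore_conj_iff hM F.bg12.bg10 (r : G)).2 hx
    rwa [hrx] at this
  · rintro ⟨H, ⟨g, rfl⟩, hH⟩
    obtain ⟨r, hr, e⟩ := Cover.exists_mover F hG h (sigmaCore_le _ hH)
    exact ⟨⟨r, hr⟩, Subtype.ext e⟩

omit F K hG in
theorem card_conjugates (hG : Cfsg.IsMinSimpleOddOrder G) (hM : IsCoatom M) :
    Nat.card {H : Subgroup G // ∃ g : G, H = M.map (MulAut.conj g).toMonoidHom} = M.index := by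
  let f : G ⧸ M → {H : Subgroup G // ∃ g : G, H = M.map (MulAut.conj g).toMonoidHom} :=
    Quotient.lift (fun g => ⟨M.map (MulAut.conj g).toMonoidHom, g, rfl⟩) fun a b hab =>
      Subtype.ext (by
        have : a⁻¹ * b ∈ M := QuotientGroup.leftRel_apply.1 hab
        show M.map (MulAut.conj a).toMonoidHom = M.map (MulAut.conj b).toMonoidHom
        rw [show b = a * (a⁻¹ * b) by group, ← map_conj_map_conj (g := a),
          map_conj_eq_self_of_mem this])
  rw [index_eq_card]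
  refine (Nat.card_congr (Equiv.ofBijective f ⟨?_, ?_⟩)).symm
  · rintro ⟨a⟩ ⟨b⟩ e
    have e' : M.map (MulAut.conj a).toMonoidHom = M.map (MulAut.conj b).toMonoidHom :=
      congrArg Subtype.val e
    refine Quotient.sound (QuotientGroup.leftRel_apply.2 ?_)
    rw [← minSimple_normalizer_coatom hG hM, ← map_conj_eq_self_iff,
      ← map_conj_map_conj (g := a⁻¹), ← e', map_conj_map_conj, inv_mul_cancel, map_conj_one]
  · rintro ⟨H, g, rfl⟩
    exact ⟨QuotientGroup.mk g, rfl⟩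

/-- BG 14.9 (S1377). -/
theorem ncard_tildeOf (hM : IsCoatom M) :
    Set.ncard (Cfsg.tildeOf M ((Cfsg.sigmaCore M : Set G) \ {1})) =
      (Nat.card (Cfsg.sigmaCore M) - 1) * M.index := by
  classical
  -- the elements of the conjugates of `M_σ`, and the pairs conjugate, element
  let cls := {H : Subgroup G // ∃ g : G, H = M.map (MulAut.conj g).toMonoidHom}
  let elts := {a : G // a ≠ 1 ∧ ∃ H : cls, a ∈ Cfsg.sigmaCore H.1}
  let base : elts → Subgroup G := fun a => (Classical.choose a.2.2).1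
  have hbase : ∀ a : elts, ∃ g : G, base a = M.map (MulAut.conj g).toMonoidHom :=
    fun a => (Classical.choose a.2.2).2
  have hmem : ∀ a : elts, (a : G) ∈ Cfsg.sigmaCore (base a) :=
    fun a => Classical.choose_spec a.2.2
  have hco : ∀ a : elts, IsCoatom (base a) := fun a => by
    obtain ⟨g, hg⟩ := hbase a
    rw [hg]; exact isCoatom_map_conj hM g
  -- first count
  have h1 : Nat.card ((a : elts) × Cfsg.supportR (base a) (a : G)) =
      Set.ncard (Cfsg.tildeOf M ((Cfsg.sigmaCore M : Set G) \ {1})) := by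
    have hin : ∀ t : (a : elts) × Cfsg.supportR (base a) (a : G),
        (t.1 : G) * (t.2 : G) ∈ Cfsg.tildeOf M ((Cfsg.sigmaCore M : Set G) \ {1}) := fun t => by
      rw [mem_tildeOf_iff F K hG hM]
      obtain ⟨g, hg⟩ := hbase t.1
      exact ⟨g, t.1, hg ▸ hmem t.1, t.1.2.1, t.2, hg ▸ t.2.2, rfl⟩
    refine (Nat.card_congr (Equiv.ofBijective (fun t => ⟨(t.1 : G) * (t.2 : G), hin t⟩)
      ⟨fun t t' e => ?_, fun z => ?_⟩)).trans (Nat.card_coe_set_eq _)
    · have e' : (t.1 : G) * (t.2 : G) = (t'.1 : G) * (t'.2 : G) := congrArg Subtype.val e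
      obtain ⟨a, r⟩ := t
      obtain ⟨a', r'⟩ := t'
      have haa : a = a' := by
        by_contra hne
        exact supportR_mul_ne F K hG (hco a) (hco a') (hmem a) (hmem a') a.2.1 a'.2.1
          (fun h => hne (Subtype.ext h)) r.2 r'.2 e'
      subst haa
      exact Sigma.ext rfl (heq_of_eq (Subtype.ext (mul_left_cancel e')))
    · obtain ⟨g, a, ha, ha1, r, hr, hz⟩ := (mem_tildeOf_iff F K hG hM).1 z.2
      let a' : elts := ⟨a, ha1, ⟨⟨_, g, rfl⟩, ha⟩⟩
      refine ⟨⟨a', r, ?_⟩, Subtype.ext hz.symm⟩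
      obtain ⟨h, hh⟩ := hbase a'
      have hm := hmem a'
      rw [hh] at hm ⊢
      have e : M.map (MulAut.conj h).toMonoidHom =
          (M.map (MulAut.conj g).toMonoidHom).map (MulAut.conj (h * g⁻¹)).toMonoidHom := by
        rw [map_conj_map_conj, inv_mul_cancel_right]
      rw [e] at hm ⊢
      rw [supportR_eq_of_conj F K hG (isCoatom_map_conj hM g) ha1 ha hm]
      exact hr
  -- second count
  have h2 : Nat.card ((a : elts) × {H : cls // (a : G) ∈ Cfsg.sigmaCore H.1}) =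
      (Nat.card (Cfsg.sigmaCore M) - 1) * M.index := by
    have e : ((a : elts) × {H : cls // (a : G) ∈ Cfsg.sigmaCore H.1}) ≃
        ((H : cls) × {a : G // a ∈ ((Cfsg.sigmaCore H.1 : Set G) \ {1})}) :=
      { toFun := fun t => ⟨t.2.1, t.1.1, t.2.2, t.1.2.1⟩
        invFun := fun t => ⟨⟨t.2.1, t.2.2.2, t.1, t.2.2.1⟩, t.1, t.2.2.1⟩
        left_inv := fun t => rfl
        right_inv := fun t => rfl }
    haveI := Fintype.ofFinite cls
    rw [Nat.card_congr e, Nat.card_sigma, Finset.sum_congr rfl (g := fun _ =>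
      Nat.card (Cfsg.sigmaCore M) - 1) fun H _ => ?_, Finset.sum_const, Finset.card_univ,
      ← Nat.card_eq_fintype_card, smul_eq_mul, mul_comm, card_conjugates hG hM]
    obtain ⟨H, g, rfl⟩ := H
    show Nat.card ↥((Cfsg.sigmaCore (M.map (MulAut.conj g).toMonoidHom) : Set G) \ {1}) = _
    rw [Nat.card_coe_set_eq, Set.ncard_diff_singleton_of_mem (one_mem _), ← Nat.card_coe_set_eq,
      SetLike.coe_sort_coe, sigmaCore_map_conj F.bg12.bg10 hM g, card_map_conj]
  rw [← h1, ← h2]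
  haveI := Fintype.ofFinite elts
  rw [Nat.card_sigma, Nat.card_sigma]
  refine Finset.sum_congr rfl fun a _ => ?_
  rw [← card_conjugates_containing F K hG (hco a) (hmem a) a.2.1]
  obtain ⟨g, hg⟩ := hbase a
  refine Nat.card_congr
    { toFun := fun H => ⟨⟨H.1, ?_⟩, H.2.2⟩
      invFun := fun H => ⟨H.1.1, ?_, H.2⟩
      left_inv := fun H => rfl
      right_inv := fun H => rfl }
  · obtain ⟨h, hh⟩ := H.2.1
    exact ⟨h * g, by rw [hh, hg, map_conj_map_conj]⟩
  · obtain ⟨h, hh⟩ := H.1.2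
    exact ⟨h * g⁻¹, by rw [hh, hg, map_conj_map_conj, inv_mul_cancel_right]⟩

/-- BG 14 (S1436, second part): the covering subgroups of `M` which are conjugate in `G` are
conjugate in `M`. -/
theorem cover_conj_in (hM : IsCoatom M) (hx : x ∈ Cfsg.sigmaCore M) (hx1 : x ≠ 1)
    (hxM : ¬ centralizer ({x} : Set G) ≤ M) (hN : IsCoatom N)
    (hxN : centralizer ({x} : Set G) ≤ N) {N' : Subgroup G} {g : G}
    (hy : y ∈ Cfsg.sigmaCore M) (hy1 : y ≠ 1) (hyM : ¬ centralizer ({y} : Set G) ≤ M)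
    (hN' : IsCoatom N') (hyN' : centralizer ({y} : Set G) ≤ N')
    (hg : N'.map (MulAut.conj g).toMonoidHom = N) :
    ∃ m ∈ M, N'.map (MulAut.conj m).toMonoidHom = N := by
  obtain ⟨q₁, N₁, X₁, A₁, -, h₁, hu₁⟩ := exists_cover_of_not_le F hG K hM hx hx1 hxM
  obtain rfl := hu₁ N hN hxN
  obtain ⟨q, N₂, X, A, hq, h, hu₂⟩ := exists_cover_of_not_le F hG K hM hy hy1 hyM
  obtain rfl := hu₂ N' hN' hyN'
  haveI := Fact.mk hq
  haveI := minSimple_coatom_solvable hG hN
  obtain ⟨n, hn, hle⟩ := exists_conj_le_of_relIndex (π := {r | r ∉ Cfsg.sigma N}) (L := M ⊓ N)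
    (U := (M ⊓ N').map (MulAut.conj g).toMonoidHom) inf_le_right
    ((map_mono inf_le_right).trans hg.le) (fun r hr hd => by
      show r ∉ Cfsg.sigma N
      rw [← hg, sigma_map_conj]
      rw [card_map_conj] at hd
      exact complIn_not_sigma F hG hN' h.compl hr hd)
    fun r hr hd hs => hs (isPiSubgroup_sigmaCore N r hr
      (hd.trans (complIn_relIndex F hG hN h₁.compl)))
  rw [map_conj_map_conj] at hle
  have hA1 : A ≠ ⊥ := fun e => by
    have := h.card_A
    rw [e, card_bot] at this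
    exact hq.ne_one ((Nat.pow_eq_one.1 this.symm).resolve_right two_ne_zero)
  obtain ⟨m, hm, c, hc, hmc⟩ := F.bg12.bg10.fusion M hM q h.sigma A
    (isPGroup_of_isElementaryAbelian h.elementary) hA1 (h.A_le.trans inf_le_left) (n * g)
    (((map_mono h.A_le).trans hle).trans inf_le_left)
  refine ⟨n * g, hmc ▸ mul_mem hm (h.centralizer_A hc).1, ?_⟩
  rw [← map_conj_map_conj (g := n), hg, map_conj_eq_self_of_mem hn]

end CfsgLib.OddOrder.BG14
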