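import Cfsg.Agent.OddOrder.BG14.SupportCover
import Cfsg.Agent.OddOrder.BG14.KappaCover

/-!
# BG 14.12 (S1379): the partition of `G` by the sets `M̃` and the conjugates of `Ẑ`
-/

set_option autoImplicit false
set_option linter.style.haveILetI false
set_option linter.unusedSectionVars false

namespace CfsgLib.OddOrder.BG14

open Cfsg Subgroup
open CfsgLib.OddOrder
open CfsgLib.OddOrder.BG11
open CfsgLib.OddOrder.BG13

variable {G : Type*} [Group G] [Finite G]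

/-- BG 14.12 (S1379), from the facts on Hall `κ`-subgroups. -/
theorem support_partition (F : BG13Facts G) (hG : Cfsg.IsMinSimpleOddOrder G) (KF : KappaFacts G)
    (hfix : ∀ M : Subgroup G, IsCoatom M → ∀ K : Subgroup G,
      Cfsg.IsPiHallOf (Cfsg.kappa M) K M → K ≠ ⊥ → ∀ k ∈ K, k ≠ 1 →
        Cfsg.sigmaCore M ⊓ centralizer ({k} : Set G) = Cfsg.sigmaCore M ⊓ centralizer (K : Set G)) :
    (∀ M N : Subgroup G, IsCoatom M → IsCoatom N →
      (∀ g : G, N ≠ M.map (MulAut.conj g).toMonoidHom) →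
        Cfsg.tildeOf M ((Cfsg.sigmaCore M : Set G) \ {1}) ∩
          Cfsg.tildeOf N ((Cfsg.sigmaCore N : Set G) \ {1}) = ∅) ∧
      ((∀ M : Subgroup G, IsCoatom M → Cfsg.kappa M = ∅) →
        ∀ g : G, g ≠ 1 → ∃ M : Subgroup G, IsCoatom M ∧
          g ∈ Cfsg.tildeOf M ((Cfsg.sigmaCore M : Set G) \ {1})) ∧
      ∀ (M K U : Subgroup G), IsCoatom M → Cfsg.IsSigmaDecomposition M K U → K ≠ ⊥ →
        (∀ g : G, g ≠ 1 → (∃ N : Subgroup G, IsCoatom N ∧
              g ∈ Cfsg.tildeOf N ((Cfsg.sigmaCore N : Set G) \ {1})) ∨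
            ∃ y : G, ∃ z ∈ ((↑(K ⊔ (Cfsg.sigmaCore M ⊓ centralizer (K : Set G))) : Set G) \
              ((K : Set G) ∪ ↑(Cfsg.sigmaCore M ⊓ centralizer (K : Set G)))),
              g = y * z * y⁻¹) ∧
        ∀ N : Subgroup G, IsCoatom N → ∀ y : G,
          ∀ z ∈ ((↑(K ⊔ (Cfsg.sigmaCore M ⊓ centralizer (K : Set G))) : Set G) \
            ((K : Set G) ∪ ↑(Cfsg.sigmaCore M ⊓ centralizer (K : Set G)))),
            y * z * y⁻¹ ∉ Cfsg.tildeOf N ((Cfsg.sigmaCore N : Set G) \ {1}) := by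
  refine ⟨fun M N hM hN hne => tildeOf_inter_eq_empty F (fixFacts F hG) hG hM hN hne,
    fun hκ g hg => exists_tildeOf_of_kappa_empty F hG hκ hg,
    fun M K U hM hKU hK1 => ⟨fun g hg => ?_, fun N hN y z hz hmem =>
      zhat_not_mem_tildeOf F hG hM hN hKU.hall hz ((tildeOf_conj_iff y).1 hmem)⟩⟩
  rcases exists_tildeOf_or_conj_kappa F hG hg with h | ⟨L, c, a, b, hL, ha, ha1, hb1, hbL, hab, hk, e⟩
  · exact Or.inl h
  right
  obtain ⟨p, hp, hpd⟩ := Nat.exists_prime_and_dvd (mt orderOf_eq_one_iff.1 hb1)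
  obtain ⟨H, hH, hKeq, hSH, hclasses⟩ := KF.star M hM K U hKU hK1
  obtain ⟨w, hw⟩ := hclasses L hL ⟨p, hk p hp hpd⟩
  -- pull a conjugate of `a b` back to `M` or to `H`
  have main : ∀ M₁ : Subgroup G, IsCoatom M₁ → ∀ K₁ : Subgroup G,
      Cfsg.IsPiHallOf (Cfsg.kappa M₁) K₁ M₁ → L = M₁.map (MulAut.conj w).toMonoidHom →
      ∃ y : G, ∃ z ∈ ((↑(K₁ ⊔ (Cfsg.sigmaCore M₁ ⊓ centralizer (K₁ : Set G))) : Set G) \
        ((K₁ : Set G) ∪ ↑(Cfsg.sigmaCore M₁ ⊓ centralizer (K₁ : Set G)))),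
        g = y * z * y⁻¹ := by
    intro M₁ hM₁ K₁ hK₁ hL₁
    rw [hL₁, sigmaCore_map_conj F.bg12.bg10 hM₁ w, mem_map_conj_iff] at ha
    rw [hL₁, mem_map_conj_iff] at hbL
    have hab' : Commute (w⁻¹ * a * w) (w⁻¹ * b * w) := by
      have := hab.map (MulAut.conj w⁻¹).toMonoidHom
      simpa using this
    have hk' : ∀ r : ℕ, r.Prime → r ∣ orderOf (w⁻¹ * b * w) → r ∈ Cfsg.kappa M₁ := by
      intro r hr hd
      have ho : orderOf (w⁻¹ * b * w) = orderOf b := by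
        have := orderOf_injective (MulAut.conj w⁻¹).toMonoidHom (MulAut.conj w⁻¹).injective b
        simpa using this
      have hr' := hk r hr (ho ▸ hd)
      haveI := Fact.mk hr
      obtain ⟨P, hPb, hP⟩ := exists_card_prime_le_zpowers hd
      refine mem_kappa_of_fixed (minSimple_prime_ne_two_subgroup hG
        (dvd_card_of_card_le le_rfl hP)) ?_ ?_ (hPb.trans (zpowers_le.2 hbL)) hP fun e0 =>
          ha1 ?_
      · have := kappa_not_sigma hr'
        rwa [hL₁, sigma_map_conj] at this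
      · have := pRankLE_map_conj (hL₁ ▸ kappa_pRankLE_one hr') w⁻¹
        rwa [map_conj_map_conj, inv_mul_cancel, map_conj_one] at this
      · have h1 : w⁻¹ * a * w ∈ Cfsg.sigmaCore M₁ ⊓ centralizer (P : Set G) := mem_inf.2 ⟨ha,
          centralizer_singleton_le_of_le_zpowers hPb (mem_centralizer_singleton_iff.2 hab'.eq)⟩
        rw [e0, mem_bot] at h1
        calc a = w * (w⁻¹ * a * w) * w⁻¹ := by group
          _ = 1 := by rw [h1]; group
    have hb1' : w⁻¹ * b * w ≠ 1 := fun e0 => hb1 (by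
      calc b = w * (w⁻¹ * b * w) * w⁻¹ := by group
        _ = 1 := by rw [e0]; group)
    have hK₁1 : K₁ ≠ ⊥ := fun e0 => by
      obtain ⟨r, hr, hrd⟩ := Nat.exists_prime_and_dvd (mt orderOf_eq_one_iff.1 hb1')
      have hrk := hk' r hr hrd
      refine hK₁.2.2 r hr hrk ?_
      rw [e0, relIndex_bot_left]
      exact hrk.2.1
    obtain ⟨y, z, hz, hyz⟩ := conj_mem_zhat F hG hM₁ hK₁ (hfix M₁ hM₁ K₁ hK₁ hK₁1) ha
      (fun e0 => ha1 (by
        calc a = w * (w⁻¹ * a * w) * w⁻¹ := by group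
          _ = 1 := by rw [e0]; group)) hb1' hbL hab' hk'
    refine ⟨c⁻¹ * w * y, z, hz, ?_⟩
    calc g = c⁻¹ * (c * g * c⁻¹) * c := by group
      _ = c⁻¹ * (w * (w⁻¹ * a * w * (w⁻¹ * b * w)) * w⁻¹) * c := by rw [e]; group
      _ = _ := by rw [hyz]; group
  rcases hw with hw | hw
  · exact main M hM K hKU.hall hw
  · obtain ⟨y, z, hz, hyz⟩ := main H hH _ hSH hw
    refine ⟨y, z, ?_, hyz⟩
    have hKeq' : K = Cfsg.sigmaCore H ⊓ centralizer
        ((Cfsg.sigmaCore M ⊓ centralizer (K : Set G) : Subgroup G) : Set G) := hKeq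
    rw [← hKeq'] at hz
    obtain ⟨h1, h2⟩ := hz
    exact ⟨by rwa [sup_comm] at h1, fun h => h2 (h.symm)⟩

end CfsgLib.OddOrder.BG14
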