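import Cfsg.Agent.OddOrder.BG13.PrimeTools
import Cfsg.Agent.OddOrder.BG14.Planes

/-!
# A `τ₃`-prime with fixed points on `M_σ` excludes `τ₂(M)`
-/

set_option autoImplicit false
set_option linter.style.haveILetI false
set_option linter.unusedSectionVars false

namespace CfsgLib.OddOrder.BG14

open Cfsg Subgroup
open CfsgLib.OddOrder
open CfsgLib.OddOrder.BG11
open CfsgLib.OddOrder.BG13

variable {G : Type*} [Group G] [Finite G] {r t : ℕ} {M : Subgroup G}
variable (F : BG13Facts G) (hG : Cfsg.IsMinSimpleOddOrder G)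
include F hG

/-- If a subgroup of order `r ∈ τ₃(M)` has non-trivial fixed points on `M_σ`, then `τ₂(M)` is
empty. -/
theorem tau2_empty_of_tau3_fixed [Fact r.Prime] (hM : IsCoatom M) (hr : r ∈ Cfsg.tau3 M)
    {R : Subgroup G} (hRM : R ≤ M) (hR : Nat.card R = r)
    (hfix : Cfsg.sigmaCore M ⊓ centralizer (R : Set G) ≠ ⊥) : Cfsg.tau2 M = ∅ := by
  refine Set.eq_empty_iff_forall_notMem.2 fun t ht => ?_
  haveI := Fact.mk ht.1
  obtain ⟨E, hRE, hE⟩ := complIn_of_prime F hG hM hr.2.1 hRM hR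
  obtain ⟨A, hAE, hA, hAc⟩ := exists_plane_complIn F hG hM ht hE
  have hne : t ≠ r := fun e => ht.2.2.2 (e ▸ hr.2.2.2)
  have hAR : A ≤ centralizer (R : Set G) := plane_centralizes F hG hM hE ht hAE hA hAc hRE
    (tau3_prime F hG hM hE hr hRE hR).2 fun hd => hne (by
      rwa [hR, Nat.prime_dvd_prime_iff_eq Fact.out Fact.out] at hd)
  have hAp := isPGroup_of_isElementaryAbelian hA
  have hA1 : A ≠ ⊥ := fun e => by
    rw [e, card_bot] at hAc
    exact (Fact.out : t.Prime).one_lt.ne' ((Nat.pow_eq_one.1 hAc.symm).resolve_right two_ne_zero)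
  obtain ⟨L, hL, hNL⟩ := minSimple_exists_coatom hG (minSimple_normalizer_ne_top hG hA1
    (minSimple_ne_top_of_isPGroup hG hAp))
  obtain ⟨htL, hLM, hbot, hEL, -⟩ := plane_sigma F hG hM hE ht hAE hA hAc hL hNL
  have hCL : ¬ centralizer (R : Set G) ≤ L := fun h =>
    hfix (le_bot_iff.1 (hbot ▸ inf_le_inf_left _ h))
  obtain ⟨H, hH, hNH, -, -, hor⟩ := exists_coatom_normalizer F hG hM hr.2.1 hr.2.2.2 hR
  have hCH : centralizer (R : Set G) ≤ H := (centralizer_le_normalizer _).trans hNH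
  have hAH : A ≤ H := hAR.trans hCH
  by_cases htH : t ∈ Cfsg.sigma H
  · obtain ⟨g, hg⟩ := exists_conj_of_sigma F hG hL hH htL htH
    rcases hor with hs | h2
    · rw [hg, sigma_map_conj] at hs
      exact hCL (hCH.trans (eq_of_conj_of_normalizer_le F.bg12.bg10 hG hL hs
        (isPGroup_of_card_prime hR) (BG11.ne_bot_of_card_prime hR) (hRE.trans hEL) hNH hg).le)
    · have h2L : r ∈ Cfsg.tau2 L := by
        have := tau2_map_conj_le h2 g⁻¹
        rwa [hg, map_conj_map_conj, inv_mul_cancel, map_conj_one] at this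
      refine hCL (tau2_line_unique F hG hL h2L (hRE.trans hEL) hR fun e => hA1 ?_).1
      exact le_bot_iff.1 (e ▸ le_inf (pGroup_le_sigmaCore F.bg12.bg10 hL htL
        (hAE.trans hEL) hAp) hAR)
  · have ht2 : t ∈ Cfsg.tau2 H := tau2_of_plane F hG hH htH hAH hA hAc
    rcases hor with hs | h2
    · have h1 : R ≤ Cfsg.sigmaCore H ⊓ centralizer (A : Set G) :=
        le_inf (pGroup_le_sigmaCore F.bg12.bg10 hH hs (le_normalizer.trans hNH)
          (isPGroup_of_card_prime hR)) (le_centralizer_iff.1 hAR)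
      rw [(F.tauTwoPlane H hH t ht2 A hAH hA hAc).2.1, le_bot_iff] at h1
      exact BG11.ne_bot_of_card_prime hR h1
    · obtain ⟨EH, hU, hEH⟩ := exists_complIn_ge F.bg12 hG hH
        (sup_le (le_normalizer.trans hNH) hAH : R ⊔ A ≤ H) fun s hs hd => by
        rcases hs.dvd_mul.1 (hd.trans (BG13.card_sup_dvd_mul (hAR.trans (centralizer_le_normalizer _))))
          with h | h
        · rw [hR, Nat.prime_dvd_prime_iff_eq hs Fact.out] at h
          exact h ▸ h2.2.1
        · rw [hAc] at h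
          rw [(Nat.prime_dvd_prime_iff_eq hs Fact.out).1 (hs.dvd_of_dvd_pow h)]
          exact ht2.2.1
      obtain ⟨B, hBE, hB, hBc⟩ := exists_plane_complIn F hG hH h2 hEH
      have hBA : B ≤ centralizer (A : Set G) := by
        refine plane_centralizes F hG hH hEH h2 hBE hB hBc (le_sup_right.trans hU)
          (F.bg12.tauTwoCompl H hH EH hEH t ht2 A (le_sup_right.trans hU) hA hAc).1 fun hd => ?_
        rw [hAc] at hd
        exact hne ((Nat.prime_dvd_prime_iff_eq Fact.out Fact.out).1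
          ((Fact.out : r.Prime).dvd_of_dvd_pow hd)).symm
      exact not_pRankLE_one_of_card_sq
        (hBA.trans ((F.tauTwoLine M hM E hE t ht A hAE hA hAc).2.1.1.trans hE.1)) hB hBc hr.2.2.2

end CfsgLib.OddOrder.BG14
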