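import Cfsg.Agent.OddOrder.BG14.KappaSigma
import Cfsg.Agent.OddOrder.BG3.Wielandt

/-!
# A `τ₁`-subgroup of prime order does not move a non-regular `τ₃`-subgroup of prime order

The configuration `r ∈ τ₃(M)`, `p ∈ τ₁(M)`, `#R = r`, `#P = p`, `P` normalizes and does not
centralize `R`, `C_{M_σ}(R) ≠ 1` is refuted.
-/

set_option autoImplicit false
set_option linter.style.haveILetI false
set_option linter.unusedSectionVars false

namespace CfsgLib.OddOrder.BG14

open Cfsg Subgroup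
open CfsgLib.OddOrder
open CfsgLib.OddOrder.BG11
open CfsgLib.OddOrder.BG13
open CfsgLib.ConjFunctor (IsSylowIn exists_isSylowIn_ge)
open scoped commutatorElement

section General

variable {G : Type*} [Group G] [Finite G] {p r : ℕ}

/-- If `W` is abelian and `N` is an abelian normal subgroup of `E = N W` of coprime order inside
`E'`, then `C_N(W) = 1`. -/
theorem inf_centralizer_eq_bot_of_le_commutator {E N W : Subgroup G} (hE : N ⊔ W = E)
    (hN : IsMulCommutative N) (hW : IsMulCommutative W) (hn : W ≤ normalizer (N : Set G))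
    (hd : N ≤ ⁅E, E⁆) (hcop : (Nat.card W).Coprime (Nat.card N)) :
    N ⊓ centralizer (W : Set G) = ⊥ := by
  haveI := hN
  have hNE : N ≤ E := hE ▸ le_sup_left
  have hWE : W ≤ E := hE ▸ le_sup_right
  set D := ⁅N, W⁆
  have hDn : E ≤ normalizer (D : Set G) := hE ▸ Coprime.sup_le_normalizer_commutator N W
  have hDE : D ≤ E := (Coprime.commutator_le_of_le_normalizer hn).trans hNE
  haveI : (D.subgroupOf E).Normal := (normal_subgroupOf_iff_le_normalizer hDE).2 hDn
  set f := QuotientGroup.mk' (D.subgroupOf E)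
  have hcomm : ∀ {A B : Subgroup G}, A ≤ E → B ≤ E → ⁅A, B⁆ ≤ D →
      (A.subgroupOf E).map f ≤ centralizer (((B.subgroupOf E).map f : Subgroup _) : Set _) := by
    intro A B hA hB hle
    rw [← commutator_eq_bot_iff_le_centralizer, ← map_commutator, Subgroup.map_eq_bot_iff,
      QuotientGroup.ker_mk', commutator_le]
    exact fun a ha b hb => hle (commutator_mem_commutator ha hb)
  have hab : ∀ {A : Subgroup G}, IsMulCommutative A → ⁅A, A⁆ ≤ D := fun h => by
    rw [commutator_eq_bot_iff_le_centralizer.2 (le_centralizer_self h)]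
    exact bot_le
  have htop : (N.subgroupOf E).map f ⊔ (W.subgroupOf E).map f = ⊤ := by
    rw [← Subgroup.map_sup, ← subgroupOf_sup hNE hWE, hE, subgroupOf_self,
      map_top_of_surjective _ (QuotientGroup.mk'_surjective _)]
  have h1 : (⊤ : Subgroup (E ⧸ D.subgroupOf E)) ≤ centralizer ((⊤ : Subgroup (E ⧸ D.subgroupOf E)) : Set (E ⧸ D.subgroupOf E)) := by
    rw [← htop]
    refine sup_le ?_ ?_
    · exact le_centralizer_iff.1 (sup_le (hcomm hNE hNE (hab hN))
        (hcomm hWE hNE ((commutator_comm W N).le)))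
    · exact le_centralizer_iff.1 (sup_le (hcomm hNE hWE le_rfl) (hcomm hWE hWE (hab hW)))
  have hle : ⁅E, E⁆ ≤ D := by
    refine commutator_le.2 fun a ha b hb => ?_
    have h3 : f ⁅(⟨a, ha⟩ : E), ⟨b, hb⟩⁆ = 1 := by
      rw [map_commutatorElement, commutatorElement_eq_one_iff_mul_comm]
      exact (mem_centralizer_iff.1 (h1 (mem_top (f ⟨a, ha⟩))) _ (mem_top (f ⟨b, hb⟩))).symm
    rw [← MonoidHom.mem_ker, QuotientGroup.ker_mk', mem_subgroupOf] at h3
    exact h3
  rw [← le_bot_iff, ← Coprime.inf_centralizer_inf_commutator_eq_bot hn hcop]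
  exact le_inf le_rfl (inf_le_left.trans (hd.trans hle))

/-- If the fixed points of `P` lie in `C(R)`, `P R` a Frobenius group acting coprimely, then `R`
acts trivially. -/
theorem le_centralizer_of_fixed_le_of_move [Fact p.Prime] [Fact r.Prime] {R P S : Subgroup G}
    (hne : p ≠ r) (hR : Nat.card R = r) (hP : Nat.card P = p) (hn : P ≤ normalizer (R : Set G))
    (hnc : ¬ P ≤ centralizer (R : Set G)) (hRS : R ≤ normalizer (S : Set G))
    (hPS : P ≤ normalizer (S : Set G)) (hsolv : Group.IsSolvable S)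
    (hpS : ¬ p ∣ Nat.card S) (hrS : ¬ r ∣ Nat.card S)
    (hle : S ⊓ centralizer (P : Set G) ≤ centralizer (R : Set G)) :
    S ≤ centralizer (R : Set G) := by
  have hcop : (Nat.card ↥(R ⊔ P)).Coprime (Nat.card S) := by
    refine Nat.Coprime.coprime_dvd_left (BG13.card_sup_dvd_mul hn) (Nat.Coprime.mul_left ?_ ?_)
    · rw [hR]; exact (Fact.out : r.Prime).coprime_iff_not_dvd.2 hrS
    · rw [hP]; exact (Fact.out : p.Prime).coprime_iff_not_dvd.2 hpS
  have hfpf : ∀ e ∈ P, e ≠ 1 → ∀ u ∈ R, e * u = u * e → u = 1 := by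
    intro e he he1 u hu h
    by_contra hu1
    refine hnc ?_
    rw [centralizer_eq_singleton_of_card hR hu hu1, ← zpowers_eq_of_card hP he he1, zpowers_le,
      mem_centralizer_singleton_iff]
    exact h
  have hinf : R ⊓ P = ⊥ := Coprime.inf_eq_bot_of_coprime (by
    rw [hR, hP]; exact (Nat.coprime_primes Fact.out Fact.out).2 hne.symm)
  have h := frobenius_fixed_point_formula hinf hn hfpf (sup_le hRS hPS) hsolv hcop
  have h1 : S ⊓ centralizer ((R ⊔ P : Subgroup G) : Set G) = S ⊓ centralizer (P : Set G) := by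
    refine le_antisymm (inf_le_inf_left _ (centralizer_le (SetLike.coe_subset_coe.2 le_sup_right))) (le_inf inf_le_left ?_)
    exact le_centralizer_iff.1 (sup_le (le_centralizer_iff.1 hle)
      (le_centralizer_iff.1 inf_le_right))
  rw [h1] at h
  have h2 := Nat.eq_of_mul_eq_mul_left (pow_pos Nat.card_pos _) h
  exact inf_eq_left.1 (eq_of_le_of_card_ge inf_le_left h2.le)

end General

variable {G : Type*} [Group G] [Finite G] {p q r : ℕ} {M H R P Q : Subgroup G}

/-- `P` of order `p ∈ τ₁(M)` moves the non-regular `R` of order `r ∈ τ₃(M)`. -/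
structure TauThreeMove (r p : ℕ) (M R P : Subgroup G) : Prop where
  maxM : IsCoatom M
  tauThree : r ∈ Cfsg.tau3 M
  tauOne : p ∈ Cfsg.tau1 M
  RM : R ≤ M
  PM : P ≤ M
  cardR : Nat.card R = r
  cardP : Nat.card P = p
  norm : P ≤ normalizer (R : Set G)
  moves : ¬ P ≤ centralizer (R : Set G)
  fixed : Cfsg.sigmaCore M ⊓ centralizer (R : Set G) ≠ ⊥

namespace TauThreeMove

variable [Fact p.Prime] [Fact r.Prime] (F : BG13Facts G) (hG : Cfsg.IsMinSimpleOddOrder G)

theorem ne_primes (c : TauThreeMove r p M R P) : p ≠ r := fun e =>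
  (e ▸ c.tauOne).2.2.2.1 c.tauThree.2.2.1

include F hG

theorem r_mem_kappa (c : TauThreeMove r p M R P) : r ∈ Cfsg.kappa M :=
  mem_kappa_of_fixed (minSimple_prime_ne_two_subgroup hG (dvd_card_of_card_le le_rfl c.cardR))
    c.tauThree.2.1 c.tauThree.2.2.2 c.RM c.cardR c.fixed

/-- A complement over `R P` lies in `H`; `M_σ ∩ H` centralizes `R`; `M ∩ H` normalizes it. -/
theorem base (c : TauThreeMove r p M R P) (hH : IsCoatom H)
    (hN : normalizer (R : Set G) ≤ H) :
    ∃ E : Subgroup G, R ⊔ P ≤ E ∧ Cfsg.IsComplIn E (Cfsg.sigmaCore M) M ∧ E ≤ H ∧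
      Cfsg.sigmaCore M ⊓ H ≤ centralizer (R : Set G) := by
  obtain ⟨E, hU, hE⟩ := exists_complIn_ge F.bg12 hG c.maxM (sup_le c.RM c.PM : R ⊔ P ≤ M)
    fun s hs hd => by
      rcases hs.dvd_mul.1 (hd.trans (BG13.card_sup_dvd_mul c.norm)) with h | h
      · rw [c.cardR, Nat.prime_dvd_prime_iff_eq hs Fact.out] at h
        exact h ▸ c.tauThree.2.1
      · rw [c.cardP, Nat.prime_dvd_prime_iff_eq hs Fact.out] at h
        exact h ▸ c.tauOne.2.1
  obtain ⟨-, hdis, hRH⟩ :=
    kappa_normalizer_nonconj F hG c.maxM (c.r_mem_kappa F hG) c.RM c.cardR hH hN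
  refine ⟨E, hU, hE, ((tau3_prime F hG c.maxM hE c.tauThree (le_sup_left.trans hU) c.cardR).2).trans
    hN, (inf_sigmaCore_commute hdis).trans (centralizer_le ?_)⟩
  exact le_inf hRH c.RM

theorem fixed_not_le (c : TauThreeMove r p M R P) :
    ¬ Cfsg.sigmaCore M ⊓ centralizer (P : Set G) ≤ centralizer (R : Set G) := by
  intro hle
  obtain ⟨H, hH, hN, hne, -, -⟩ :=
    exists_coatom_normalizer F hG c.maxM c.tauThree.2.1 c.tauThree.2.2.2 c.cardR
  obtain ⟨E, -, hE, hEH, -⟩ := c.base F hG hH hN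
  have h := le_centralizer_of_fixed_le_of_move c.ne_primes c.cardR c.cardP c.norm c.moves
    (c.RM.trans (le_normalizer_sigmaCore M)) (c.PM.trans (le_normalizer_sigmaCore M))
    (minSimple_solvable hG (ne_top_of_le_ne_top c.maxM.1 (sigmaCore_le M)))
    (not_dvd_card_sigmaCore c.tauOne.2.1) (not_dvd_card_sigmaCore c.tauThree.2.1) hle
  refine hne ((c.maxM.le_iff.1 ?_).resolve_left hH.1)
  rw [← complIn_sup_eq F hG hE]
  exact sup_le hEH (h.trans ((centralizer_le_normalizer _).trans hN))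

theorem p_mem_kappa (c : TauThreeMove r p M R P) : p ∈ Cfsg.kappa M :=
  mem_kappa_of_fixed (minSimple_prime_ne_two_subgroup hG (dvd_card_of_card_le le_rfl c.cardP))
    c.tauOne.2.1 c.tauOne.2.2.2.2 c.PM c.cardP fun e => c.fixed_not_le F hG (e ▸ bot_le)

theorem not_sigma (c : TauThreeMove r p M R P) (hH : IsCoatom H)
    (hN : normalizer (R : Set G) ≤ H) : p ∉ Cfsg.sigma H := by
  intro hp
  obtain ⟨E, hU, hE, hEH, hC⟩ := c.base F hG hH hN
  obtain ⟨L, hL, hNL⟩ := minSimple_exists_coatom hG (minSimple_normalizer_ne_top hG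
    (BG11.ne_bot_of_card_prime c.cardP)
    (minSimple_ne_top_of_isPGroup hG (isPGroup_of_card_prime c.cardP)))
  obtain ⟨g, hg⟩ := exists_conj_of_sigma F hG hH hL hp
    (kappa_sigma_normalizer F hG c.maxM (c.p_mem_kappa F hG) c.PM c.cardP hL hNL).1
  have hLH : L = H := eq_of_conj_of_normalizer_le F.bg12.bg10 hG hH hp
    (isPGroup_of_card_prime c.cardP) (BG11.ne_bot_of_card_prime c.cardP)
    ((le_sup_right.trans hU).trans hEH) hNL hg
  exact c.fixed_not_le F hG ((le_inf inf_le_left (inf_le_right.trans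
    ((centralizer_le_normalizer _).trans (hLH ▸ hNL)))).trans hC)

/-- The key step: `P` moves every subgroup `Q` of prime order of `C_{M_σ}(R)`, in `H` this is
the same configuration, and `N(Q) ≤ M`. -/
theorem fixed_move (c : TauThreeMove r p M R P) (hH : IsCoatom H)
    (hN : normalizer (R : Set G) ≤ H) [Fact q.Prime]
    (hQ : Q ≤ Cfsg.sigmaCore M ⊓ centralizer (R : Set G)) (hQc : Nat.card Q = q) :
    TauThreeMove q p H Q P ∧ normalizer (Q : Set G) ≤ M := by
  have hrκ := c.r_mem_kappa F hG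
  obtain ⟨-, hdis, hRH⟩ := kappa_normalizer_nonconj F hG c.maxM hrκ c.RM c.cardR hH hN
  obtain ⟨E, hU, hE, hEH, hMσH⟩ := c.base F hG hH hN
  have hp := c.not_sigma F hG hH hN
  set C := Cfsg.sigmaCore M ⊓ centralizer (R : Set G)
  have hCH : C ≤ H := inf_le_right.trans ((centralizer_le_normalizer _).trans hN)
  have hPC : P ≤ normalizer (C : Set G) :=
    (le_inf (c.PM.trans (le_normalizer_sigmaCore M))
      (c.norm.trans (normalizer_le_normalizer_centralizer_subgroup R))).trans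
      Subgroup.inf_normalizer_le_normalizer_inf
  have hPH : P ≤ H := (le_sup_right.trans hU).trans hEH
  have hCσ : ∀ s : ℕ, s.Prime → s ∣ Nat.card C → s ∈ Cfsg.sigma M :=
    isPiSubgroup_mono inf_le_left (isPiSubgroup_sigmaCore M)
  obtain ⟨EH, hUH, hEH'⟩ := exists_complIn_ge F.bg12 hG hH (sup_le hCH hPH : C ⊔ P ≤ H)
    fun s hs hd => by
      rcases hs.dvd_mul.1 (hd.trans (BG13.card_sup_dvd_mul hPC)) with h | h
      · exact Set.disjoint_left.1 hdis (hCσ s hs h)
      · rw [c.cardP, Nat.prime_dvd_prime_iff_eq hs Fact.out] at h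
        exact h ▸ hp
  have hCE : C ≤ EH := le_sup_left.trans hUH
  have hPE : P ≤ EH := le_sup_right.trans hUH
  have hkey : ∀ (s : ℕ) [Fact s.Prime] (Y : Subgroup G), Y ≤ C → Nat.card Y = s →
      s ∈ Cfsg.kappa H ∧ normalizer (Y : Set G) ≤ M := fun s _ Y hY hYc =>
    kappa_fixed_prime F hG c.maxM hrκ c.RM c.cardR hH hN hY hYc
  have hfixed : ∀ {Y : Subgroup G}, Y ≤ C → Cfsg.sigmaCore H ⊓ centralizer (Y : Set G) ≠ ⊥ :=
    fun hY e => BG11.ne_bot_of_card_prime c.cardR
      (le_bot_iff.1 (e ▸ le_inf hRH (le_centralizer_iff.1 (hY.trans inf_le_right))))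
  -- the primes of `C` are in `τ₃(H)`
  have hτ3 : IsPiSubgroup (Cfsg.tau3 H) C := by
    intro s hs hd
    haveI := Fact.mk hs
    have hCsolv : Group.IsSolvable C :=
      minSimple_solvable hG (ne_top_of_le_ne_top hH.1 hCH)
    obtain ⟨T, hT⟩ := Coprime.exists_invariant_sylow hPC (by
      rw [c.cardP]
      exact (Fact.out : p.Prime).coprime_iff_not_dvd.2 fun h => c.tauOne.2.1 (hCσ p Fact.out h))
      (Or.inr hCsolv) s
    set T' := (T : Subgroup C).map C.subtype
    have hTC : T' ≤ C := map_subtype_le _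
    have hTp : IsPGroup s T' := T.2.map _
    have hT1 : T' ≠ ⊥ := sylowIn_ne_bot (isSylowIn_map_subtype T) hd
    obtain ⟨Y, hYT, hYc⟩ := exists_card_prime_le hTp hT1
    obtain ⟨hsκ, -⟩ := hkey s Y (hYT.trans hTC) hYc
    refine (kappa_tau13 F hG hsκ).resolve_left fun hs1 => ?_
    have hTcyc : IsCyclic T' := isCyclic_of_pRankLE_one (hTC.trans hCH) hTp
      (minSimple_prime_ne_two_subgroup hG hd) (kappa_pRankLE_one hsκ)
    have hPY : P ≤ normalizer (Y : Set G) := hT.trans (normalizer_le_normalizer_of_isCyclic hTcyc hYT)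
    by_cases hPYc : P ≤ centralizer (Y : Set G)
    · have h := F.tauOneFix H hH EH hEH' s hs1 Y ((hYT.trans hTC).trans hCE) hYc P
        (le_inf hPE hPYc) (by rw [c.cardP]; exact Fact.out)
      exact c.moves (le_centralizer_iff.1
        ((le_inf hRH (le_centralizer_iff.1 ((hYT.trans hTC).trans inf_le_right))).trans
          (h.trans inf_le_right)))
    · have h1 : ⁅Y, P⁆ = Y := by
        have hle := Coprime.commutator_le_of_le_normalizer hPY
        refine eq_of_le_of_card_ge hle ?_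
        rcases (Nat.dvd_prime hs).1 (hYc ▸ card_dvd_of_le hle) with h | h
        · exact absurd (le_centralizer_iff.1
            (commutator_eq_bot_iff_le_centralizer.1 (Subgroup.card_eq_one.1 h))) hPYc
        · rw [h, hYc]
      refine hs1.2.2.2.1 (hYc ▸ card_dvd_of_le ?_)
      rw [← h1]
      exact commutator_mono ((hYT.trans hTC).trans hCH) hPH
  obtain ⟨hCc, -, hCn⟩ := tau3_subgroup F hG hH hEH' hCE hτ3
  have hQC : Q ≤ C := hQ
  have hQn : EH ≤ normalizer (Q : Set G) :=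
    hCn.trans (normalizer_le_normalizer_of_isCyclic hCc hQC)
  obtain ⟨-, hNQ⟩ := hkey q Q hQC hQc
  have hEM : EH ≤ M := hQn.trans hNQ
  have hq3 : q ∈ Cfsg.tau3 H := hτ3 q Fact.out (dvd_card_of_card_le hQC hQc)
  have hQH : Q ≤ H := hQC.trans hCH
  have hτ2H : Cfsg.tau2 H = ∅ := tau2_empty_of_tau3_fixed F hG hH hq3 hQH hQc (hfixed hQC)
  have hqp : q ≠ p := fun e =>
    c.tauOne.2.1 (e ▸ hCσ q Fact.out (dvd_card_of_card_le hQC hQc))
  -- `P` moves `Q`
  have hmove : ¬ P ≤ centralizer (Q : Set G) := by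
    intro hPQ
    have hsol : Group.IsSolvable EH := minSimple_solvable hG (ne_top_of_le_ne_top hH.1 hEH'.1)
    obtain ⟨E₃, hE₃⟩ := exists_isPiHallOf (Cfsg.tau3 H) hsol
    obtain ⟨hE₃c, hE₃d, hE₃n⟩ := (F.complStructure H hH EH hEH').2 E₃ hE₃
    set π₁ : Set ℕ := {s | s.Prime ∧ s ∉ Cfsg.tau3 H}
    have hπ₁ : ∀ {s : ℕ}, s.Prime → s ∣ Nat.card EH → s ∉ Cfsg.tau3 H → s ∈ Cfsg.tau1 H := by
      intro s hs hd h3
      rcases tau_cases F hG hH hs (hd.trans (card_dvd_of_le hEH'.1))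
        (complIn_not_sigma F hG hH hEH' hs hd) with h | h | h
      · exact h
      · simp [hτ2H] at h
      · exact absurd h h3
    obtain ⟨W, hW, hPW⟩ : ∃ W : Subgroup G, Cfsg.IsPiHallOf π₁ W EH ∧
        W ≤ normalizer (P : Set G) := by
      by_cases h3 : p ∈ Cfsg.tau3 H
      · obtain ⟨W, hW⟩ := exists_isPiHallOf π₁ hsol
        exact ⟨W, hW, hW.1.trans (tau3_prime F hG hH hEH' h3 hPE c.cardP).2⟩
      · obtain ⟨W, hW, hPW⟩ := exists_isPiHallOf_ge (π := π₁) hsol hPE
          (isPiSubgroup_of_card_prime c.cardP ⟨Fact.out, h3⟩)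
        haveI := tau1_subgroup_isCyclic F hG hH hEH' hW.1 fun s hs hd =>
          hπ₁ hs (hd.trans (card_dvd_of_le hW.1)) (hW.2.1 s hs hd).2
        refine ⟨W, hW, fun w hw => centralizer_le_normalizer _ (mem_centralizer_iff.2 fun y hy => ?_)⟩
        exact congrArg Subtype.val
          (IsMulCommutative.is_comm.comm (⟨y, hPW hy⟩ : W) ⟨w, hw⟩)
    have hW1 : IsPiSubgroup (Cfsg.tau1 H) W := fun s hs hd =>
      hπ₁ hs (hd.trans (card_dvd_of_le hW.1)) (hW.2.1 s hs hd).2
    haveI hWc : IsCyclic W := tau1_subgroup_isCyclic F hG hH hEH' hW.1 hW1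
    have hWM : W ≤ M := hW.1.trans hEM
    have hWP : W ≤ centralizer (P : Set G) := by
      intro a ha
      refine mem_centralizer_iff.2 fun b hb => ?_
      have h1 : b * a * b⁻¹ * a⁻¹ ∈ P ⊓ ⁅M, M⁆ := by
        refine mem_inf.2 ⟨?_, ?_⟩
        · simpa [mul_assoc] using
            mul_mem hb ((mem_normalizer_iff.1 (hPW ha) b⁻¹).1 (inv_mem hb))
        · simpa [commutatorElement_def] using commutator_mem_commutator (c.PM hb) (hWM ha)
      rw [Coprime.inf_eq_bot_of_coprime (by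
        rw [c.cardP]; exact (Fact.out : p.Prime).coprime_iff_not_dvd.2 c.tauOne.2.2.2.1), mem_bot] at h1
      calc b * a = b * a * b⁻¹ * a⁻¹ * (a * b) := by group
        _ = a * b := by rw [h1, one_mul]
    have hWQ : W ≤ centralizer (Q : Set G) := by
      refine BG4.le_of_sylow_le fun s hs => ?_
      haveI := Fact.mk hs
      obtain ⟨S0⟩ : Nonempty (Sylow s W) := inferInstance
      refine ⟨S0, ?_⟩
      set S := (S0 : Subgroup W).map W.subtype
      have hSW : S ≤ W := map_subtype_le _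
      have hSp : IsPGroup s S := S0.2.map _
      by_cases hS1 : S = ⊥
      · rw [hS1]; exact bot_le
      by_cases hsM : s ∈ Cfsg.sigma M
      · have hSσ : S ≤ Cfsg.sigmaCore M :=
          pGroup_le_sigmaCore F.bg12.bg10 c.maxM hsM (hSW.trans hWM) hSp
        have hSC : S ≤ C := le_inf hSσ
          ((le_inf hSσ ((hSW.trans hW.1).trans hEH'.1)).trans hMσH)
        haveI := hCc
        exact (hSC.trans (le_centralizer_iff_isMulCommutative.2 inferInstance)).trans
          (centralizer_le hQC)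
      obtain ⟨X, hXS, hX⟩ := exists_card_prime_le hSp hS1
      obtain ⟨EM, hUM, hEM'⟩ := exists_complIn_ge F.bg12 hG c.maxM
        (sup_le c.PM (hSW.trans hWM) : P ⊔ S ≤ M) fun t ht hd => by
          rcases ht.dvd_mul.1 (hd.trans (BG13.card_sup_dvd_mul (hSW.trans hPW))) with h | h
          · rw [c.cardP, Nat.prime_dvd_prime_iff_eq ht Fact.out] at h
            exact h ▸ c.tauOne.2.1
          · obtain ⟨n, hn⟩ := IsPGroup.iff_card.1 hSp
            rw [hn] at h
            exact (Nat.prime_dvd_prime_iff_eq ht hs).1 (ht.dvd_of_dvd_pow h) ▸ hsM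
      have hQX : Q ≤ centralizer (X : Set G) :=
        ((le_inf (hQC.trans inf_le_left) (le_centralizer_iff.1 hPQ)).trans
          (F.tauOneFix M c.maxM EM hEM' p c.tauOne P (le_sup_left.trans hUM) c.cardP X
            (le_inf ((hXS.trans le_sup_right).trans hUM) ((hXS.trans hSW).trans hWP))
            (by rw [hX]; exact hs))).trans inf_le_right
      obtain ⟨x, hx, hx1⟩ := exists_mem_ne_one_of_card hX
      obtain ⟨T, hST, hT⟩ := exists_isSylowIn_ge (le_sup_right.trans hUM) hSp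
      have hsr1 : Cfsg.PRankLE s 1 M := by
        by_contra h
        exact Set.eq_empty_iff_forall_notMem.1
          (tau2_empty_of_tau3_fixed F hG c.maxM c.tauThree c.RM c.cardR c.fixed) s
          ⟨hs, hsM, pRankLE_two_of_not_sigma F.bg12.bg10 c.maxM hsM, h⟩
      have h2 := F.cyclicPrimeAction M c.maxM EM hEM' s T hT
        (isCyclic_of_pRankLE_one (hT.le.trans hEM'.1) hT.isPGroup
          (minSimple_prime_ne_two_subgroup hG (dvd_card_of_card_le le_rfl hX)) hsr1)
        x (hST (hXS hx)) hx1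
      refine hST.trans (le_centralizer_iff.1 ?_)
      refine (le_inf (hQC.trans inf_le_left) ?_).trans (h2.le.trans inf_le_right)
      rw [← centralizer_eq_singleton_of_card hX hx hx1]
      exact hQX
    have hsup : E₃ ⊔ W = EH := by
      refine le_antisymm (sup_le hE₃.1 hW.1) fun x hx => ?_
      obtain ⟨-, -, -, h⟩ := isComplIn_of_isPiHallOf hE₃n hE₃ hW fun t ht =>
        ⟨fun h => h.2, fun h => ⟨ht, h⟩⟩
      obtain ⟨a, ha, b, hb, rfl⟩ := h x hx
      exact mul_mem (mem_sup_right ha) (mem_sup_left hb)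
    have h3 := inf_centralizer_eq_bot_of_le_commutator hsup inferInstance inferInstance
      (hW.1.trans hE₃n) hE₃d (Nat.coprime_of_dvd fun t ht h1 h2 =>
        (hW.2.1 t ht h1).2 (hE₃.2.1 t ht h2))
    obtain ⟨z, hz, hzQ⟩ := exists_conj_le_isPiHallOf hsol (hQC.trans hCE)
      (isPiSubgroup_of_card_prime hQc hq3) hE₃
    rw [map_conj_eq_self_iff.2 (hQn hz)] at hzQ
    exact BG11.ne_bot_of_card_prime hQc
      (le_bot_iff.1 (h3 ▸ le_inf hzQ (le_centralizer_iff.1 hWQ)))
  refine ⟨⟨hH, hq3, ?_, hQH, hPH, hQc, c.cardP, hPE.trans hQn, hmove, hfixed hQC⟩, hNQ⟩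
  rcases tau_cases F hG hH Fact.out (dvd_card_of_card_le hPH c.cardP) hp with h | h | h
  · exact h
  · simp [hτ2H] at h
  · exact absurd (le_centralizer_of_coprime (hPE.trans hQn) ((hQC.trans hCE).trans
      (tau3_prime F hG hH hEH' h hPE c.cardP).2) (by
        rw [c.cardP, hQc]; exact (Nat.coprime_primes Fact.out Fact.out).2 hqp.symm)) hmove

/-- The configuration does not occur. -/
theorem false_of (c : TauThreeMove r p M R P) : False := by
  obtain ⟨H, hH, hN⟩ := minSimple_exists_coatom hG (minSimple_normalizer_ne_top hG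
    (BG11.ne_bot_of_card_prime c.cardR)
    (minSimple_ne_top_of_isPGroup hG (isPGroup_of_card_prime c.cardR)))
  obtain ⟨E, hU, hE, hEH, -⟩ := c.base F hG hH hN
  obtain ⟨-, hdisMH, -⟩ :=
    kappa_normalizer_nonconj F hG c.maxM (c.r_mem_kappa F hG) c.RM c.cardR hH hN
  have hex : ∀ {S : Subgroup G}, S ≠ ⊥ →
      ∃ (s : ℕ) (_ : Fact s.Prime) (Y : Subgroup G), Y ≤ S ∧ Nat.card Y = s := by
    intro S hS
    obtain ⟨s, hs, hd⟩ := Nat.exists_prime_and_dvd fun h => hS (Subgroup.card_eq_one.1 h)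
    haveI := Fact.mk hs
    obtain ⟨x, hx⟩ := exists_prime_orderOf_dvd_card' (G := S) s hd
    exact ⟨s, Fact.mk hs, zpowers (x : G), zpowers_le.2 x.2, by
      rw [Nat.card_zpowers, Subgroup.orderOf_coe, hx]⟩
  obtain ⟨q, _, Q, hQ, hQc⟩ := hex c.fixed
  obtain ⟨cQ, hNQ⟩ := c.fixed_move F hG hH hN hQ hQc
  obtain ⟨L, hL, hNL⟩ := minSimple_exists_coatom hG (minSimple_normalizer_ne_top hG
    (BG11.ne_bot_of_card_prime c.cardP)
    (minSimple_ne_top_of_isPGroup hG (isPGroup_of_card_prime c.cardP)))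
  have hpM := c.p_mem_kappa F hG
  have hpH := cQ.p_mem_kappa F hG
  obtain ⟨-, -, hPL⟩ := kappa_normalizer_nonconj F hG c.maxM hpM c.PM c.cardP hL hNL
  obtain ⟨q₀, _, Q₀, hQ₀, hQ₀c⟩ := hex (kappa_fixed hpM c.PM c.cardP)
  obtain ⟨r₀, _, R₀, hR₀, hR₀c⟩ := hex (kappa_fixed hpH cQ.PM c.cardP)
  obtain ⟨hqκ, hNQ₀⟩ := kappa_fixed_prime F hG c.maxM hpM c.PM c.cardP hL hNL hQ₀ hQ₀c
  obtain ⟨hrκ, -⟩ := kappa_fixed_prime F hG hH hpH cQ.PM c.cardP hL hNL hR₀ hR₀c
  have hq₀M : q₀ ∈ Cfsg.sigma M :=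
    isPiSubgroup_sigmaCore M q₀ Fact.out (dvd_card_of_card_le (hQ₀.trans inf_le_left) hQ₀c)
  have hr₀H : r₀ ∈ Cfsg.sigma H :=
    isPiSubgroup_sigmaCore H r₀ Fact.out (dvd_card_of_card_le (hR₀.trans inf_le_left) hR₀c)
  have hr₀M : r₀ ∉ Cfsg.sigma M := Set.disjoint_right.1 hdisMH hr₀H
  have hne : r₀ ≠ q₀ := fun e => hr₀M (e ▸ hq₀M)
  have hCL : centralizer (P : Set G) ≤ L := (centralizer_le_normalizer _).trans hNL
  have hsolC : Group.IsSolvable (centralizer (P : Set G)) :=
    minSimple_solvable hG (ne_top_of_le_ne_top hL.1 hCL)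
  set π : Set ℕ := {s | s.Prime ∧ s ∉ Cfsg.sigma L ∧
    (q₀ ∈ Cfsg.tau1 L → r₀ ∈ Cfsg.tau1 L → s ∈ Cfsg.tau1 L)}
  obtain ⟨U, hU', hQ₀U⟩ := exists_isPiHallOf_ge (π := π) hsolC (hQ₀.trans inf_le_right)
    (isPiSubgroup_of_card_prime hQ₀c ⟨Fact.out, kappa_not_sigma hqκ, fun h _ => h⟩)
  obtain ⟨d, hd, hdU⟩ := exists_conj_le_isPiHallOf hsolC (hR₀.trans inf_le_right)
    (isPiSubgroup_of_card_prime (π := π) hR₀c ⟨Fact.out, kappa_not_sigma hrκ, fun _ h => h⟩) hU'
  set X := R₀.map (MulAut.conj d).toMonoidHom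
  have hXc : Nat.card X = r₀ := by rw [card_map_conj, hR₀c]
  obtain ⟨EL, hUE, hEL⟩ := exists_complIn_ge F.bg12 hG hL (hU'.1.trans hCL)
    fun s hs hd => (hU'.2.1 s hs hd).2.1
  have hXE : X ≤ EL := hdU.trans hUE
  have hQE : Q₀ ≤ EL := hQ₀U.trans hUE
  have hXL : X ≤ L := hXE.trans hEL.1
  have hQL : Q₀ ≤ L := hQE.trans hEL.1
  have hXP : X ≤ centralizer (P : Set G) := hdU.trans hU'.1
  have hQP : Q₀ ≤ centralizer (P : Set G) := hQ₀.trans inf_le_right
  -- `X` centralizes `Q₀`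
  have hXQ : X ≤ centralizer (Q₀ : Set G) := by
    by_contra hnc
    rcases kappa_tau13 F hG hqκ with hq1 | hq3 <;> rcases kappa_tau13 F hG hrκ with hr1 | hr3
    · haveI := tau1_subgroup_isCyclic F hG hL hEL hUE fun s hs hd => (hU'.2.1 s hs hd).2.2 hq1 hr1
      refine hnc fun x hx => mem_centralizer_iff.2 fun y hy => ?_
      exact congrArg Subtype.val
        (IsMulCommutative.is_comm.comm (⟨y, hQ₀U hy⟩ : U) ⟨x, hdU hx⟩)
    · have hn := (tau3_prime F hG hL hEL hr3 hXE hXc).2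
      obtain ⟨H', hH', hN'⟩ := minSimple_exists_coatom hG (minSimple_normalizer_ne_top hG
        (BG11.ne_bot_of_card_prime hXc)
        (minSimple_ne_top_of_isPGroup hG (isPGroup_of_card_prime hXc)))
      have c' : TauThreeMove r₀ q₀ L X Q₀ :=
        ⟨hL, hr3, hq1, hXL, hQL, hXc, hQ₀c, hQE.trans hn, fun h => hnc (le_centralizer_iff.1 h),
          fun e => BG11.ne_bot_of_card_prime c.cardP
            (le_bot_iff.1 (e ▸ le_inf hPL (le_centralizer_iff.1 hXP)))⟩
      exact (c'.fixed_move F hG hH' hN' (le_inf hPL (le_centralizer_iff.1 hXP)) c.cardP).1.moves hQP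
    · have c' : TauThreeMove q₀ r₀ L Q₀ X :=
        ⟨hL, hq3, hr1, hQL, hXL, hQ₀c, hXc, hXE.trans (tau3_prime F hG hL hEL hq3 hQE hQ₀c).2, hnc,
          fun e => BG11.ne_bot_of_card_prime c.cardP
            (le_bot_iff.1 (e ▸ le_inf hPL (le_centralizer_iff.1 hQP)))⟩
      exact (c'.fixed_move F hG c.maxM hNQ₀ (le_inf hPL (le_centralizer_iff.1 hQP)) c.cardP).1.moves
        hXP
    · exact hnc (le_centralizer_of_coprime (hXE.trans (tau3_prime F hG hL hEL hq3 hQE hQ₀c).2)
        (hQE.trans (tau3_prime F hG hL hEL hr3 hXE hXc).2)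
        (by rw [hXc, hQ₀c]; exact (Nat.coprime_primes Fact.out Fact.out).2 hne))
  -- conjugate `X` into `E ∩ C(P)`
  have hXM : X ≤ M := (hXQ.trans (centralizer_le_normalizer _)).trans hNQ₀
  have hPE : P ≤ E := le_sup_right.trans hU
  have hdec : M ⊓ centralizer (P : Set G) =
      (Cfsg.sigmaCore M ⊓ centralizer (P : Set G)) ⊔ (E ⊓ centralizer (P : Set G)) := by
    refine le_antisymm (fun m hm => ?_)
      (sup_le (inf_le_inf_right _ (sigmaCore_le M)) (inf_le_inf_right _ hE.1))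
    obtain ⟨e, he, y, hy, rfl⟩ := hE.2.2.2 m hm.1
    have hy' : e * y * e⁻¹ ∈ Cfsg.sigmaCore M :=
      (mem_normalizer_iff.1 (le_normalizer_sigmaCore M (hE.1 he)) y).1 hy
    have key : ∀ x ∈ P, (e * y * e⁻¹) * x = x * (e * y * e⁻¹) ∧ e * x = x * e := by
      intro x hx
      refine commute_of_commute_mul (hE.1.trans (le_normalizer_sigmaCore M))
        (by rw [inf_comm]; exact hE.2.2.1) (hPE hx) hy' he ?_
      simpa [mul_assoc] using (mem_centralizer_iff.1 hm.2 x hx).symm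
    have := mul_mem (mem_sup_left (T := E ⊓ centralizer (P : Set G))
      (mem_inf.2 ⟨hy', mem_centralizer_iff.2 fun x hx => ((key x hx).1).symm⟩))
      (mem_sup_right (S := Cfsg.sigmaCore M ⊓ centralizer (P : Set G))
        (mem_inf.2 ⟨he, mem_centralizer_iff.2 fun x hx => ((key x hx).2).symm⟩))
    simpa [mul_assoc] using this
  haveI := minSimple_solvable hG (ne_top_of_le_ne_top c.maxM.1
    (inf_le_left : M ⊓ centralizer (P : Set G) ≤ M))
  obtain ⟨m, hm, hmE⟩ := exists_conj_le_of_relIndex (π := (Cfsg.sigma M)ᶜ)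
    (inf_le_inf_right _ hE.1 : E ⊓ centralizer (P : Set G) ≤ M ⊓ centralizer (P : Set G))
    (le_inf hXM hXP) (isPiSubgroup_of_card_prime hXc hr₀M) fun s hs hds hn => hn
      (isPiSubgroup_mono inf_le_left (isPiSubgroup_sigmaCore M) s hs
        (hds.trans (relIndex_dvd_card_of_eq_sup ((le_inf (inf_le_left.trans (le_normalizer_sigmaCore M))
          (inf_le_right.trans le_normalizer)).trans inf_normalizer_le_normalizer_inf) hdec)))
  set X' := X.map (MulAut.conj m).toMonoidHom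
  have hX'c : Nat.card X' = r₀ := by rw [card_map_conj, hXc]
  have hX'σ : X' ≤ Cfsg.sigmaCore H := pGroup_le_sigmaCore F.bg12.bg10 hH hr₀H
    ((hmE.trans inf_le_left).trans hEH) (isPGroup_of_card_prime hX'c)
  obtain ⟨-, -, -, -, hHM⟩ := cQ.base F hG c.maxM hNQ
  have hX'Q : X' ≤ centralizer (Q : Set G) :=
    (le_inf hX'σ ((hmE.trans inf_le_left).trans hE.1)).trans hHM
  exact (cQ.fixed_move F hG c.maxM hNQ (le_inf hX'σ hX'Q) hX'c).1.moves
    (le_centralizer_iff.1 (hmE.trans inf_le_right))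

end TauThreeMove

end CfsgLib.OddOrder.BG14
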