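import Cfsg.Agent.OddOrder.BG14.Facts
import Cfsg.Agent.OddOrder.BG13.SigmaInter
import Cfsg.Agent.OddOrder.BG11.KeyCore
import Cfsg.Agent.OddOrder.BG3.Wielandt
import Cfsg.Agent.OddOrder.BG15.HallTools

/-!
# Tools for BG 14

Complements of `M_σ`, the classification `τ₁, τ₂, τ₃` of their primes, `κ(M)` in terms of subgroups
of prime order, and two remarks used throughout the section: `M_σ ∩ H` and `H_σ ∩ M` commute when
`σ(M)` and `σ(H)` are disjoint, and in `N E` with `N ∩ E = 1` the centralizer of `x ∈ E` splits.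
-/

set_option autoImplicit false
set_option linter.style.haveILetI false
set_option linter.unusedSectionVars false

namespace CfsgLib.OddOrder.BG14

open Cfsg Subgroup
open CfsgLib.OddOrder
open CfsgLib.OddOrder.BG11
open CfsgLib.OddOrder.BG13
open CfsgLib.ConjFunctor (IsSylowIn exists_isSylowIn_ge)
open scoped commutatorElement

variable {G : Type*} [Group G] [Finite G] {p q : ℕ} {M H : Subgroup G}

section General

omit [Finite G] in
/-- In `N E` with `N ∩ E = 1`, an element `u e` commuting with `x ∈ E` has both factors commuting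
with `x`. -/
theorem commute_of_commute_mul {N E : Subgroup G} (hEN : E ≤ normalizer (N : Set G))
    (hd : N ⊓ E = ⊥) {x u e : G} (hx : x ∈ E) (hu : u ∈ N) (he : e ∈ E)
    (h : u * e * x = x * (u * e)) : u * x = x * u ∧ e * x = x * e := by
  have h1 : u⁻¹ * (x * u * x⁻¹) = e * x * e⁻¹ * x⁻¹ := by
    calc u⁻¹ * (x * u * x⁻¹) = u⁻¹ * (x * (u * e)) * e⁻¹ * x⁻¹ := by group
      _ = e * x * e⁻¹ * x⁻¹ := by rw [← h]; group
  have h2 : u⁻¹ * (x * u * x⁻¹) ∈ N ⊓ E := by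
    refine mem_inf.2 ⟨mul_mem (inv_mem hu) ((mem_normalizer_iff.1 (hEN hx) u).1 hu), ?_⟩
    rw [h1]
    exact mul_mem (mul_mem (mul_mem he hx) (inv_mem he)) (inv_mem hx)
  rw [hd, mem_bot] at h2
  have hux : u * x = x * u := by
    have := inv_mul_eq_one.1 h2
    calc u * x = x * u * x⁻¹ * x := by rw [← this]
      _ = x * u := by group
  refine ⟨hux, ?_⟩
  have h3 : e * x * e⁻¹ * x⁻¹ = 1 := h1 ▸ h2
  calc e * x = e * x * e⁻¹ * x⁻¹ * (x * e) := by group
    _ = x * e := by rw [h3, one_mul]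

omit [Finite G] in
/-- If `A` and `B` normalize each other and meet trivially they commute. -/
theorem le_centralizer_of_normalize {A B : Subgroup G} (hA : A ≤ normalizer (B : Set G))
    (hB : B ≤ normalizer (A : Set G)) (hd : A ⊓ B = ⊥) : A ≤ centralizer (B : Set G) := by
  intro a ha
  rw [mem_centralizer_iff]
  intro b hb
  have h1 : a * b * a⁻¹ * b⁻¹ ∈ A ⊓ B := by
    refine mem_inf.2 ⟨?_, mul_mem ((mem_normalizer_iff.1 (hA ha) b).1 hb) (inv_mem hb)⟩
    have := mul_mem ha ((mem_normalizer_iff.1 (hB hb) a⁻¹).1 (inv_mem ha))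
    simpa [mul_assoc] using this
  rw [hd, mem_bot] at h1
  have h2 : a * b = b * a := by
    calc a * b = a * b * a⁻¹ * b⁻¹ * (b * a) := by group
      _ = b * a := by rw [h1, one_mul]
  exact h2.symm

omit [Finite G] in
theorem centralizer_singleton_le_of_mem_zpowers {x y : G} (h : y ∈ zpowers x) :
    centralizer ({x} : Set G) ≤ centralizer ({y} : Set G) := by
  obtain ⟨n, rfl⟩ := mem_zpowers_iff.1 h
  intro g hg
  rw [mem_centralizer_singleton_iff] at hg ⊢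
  exact ((show Commute g x from hg).zpow_right n).eq

omit [Finite G] in
theorem centralizer_subgroup_le_singleton {X : Subgroup G} {x : G} (hx : x ∈ X) :
    centralizer (X : Set G) ≤ centralizer ({x} : Set G) :=
  centralizer_le (Set.singleton_subset_iff.2 hx)

theorem centralizer_eq_singleton_of_card [Fact p.Prime] {X : Subgroup G} (hX : Nat.card X = p)
    {x : G} (hx : x ∈ X) (hx1 : x ≠ 1) :
    centralizer (X : Set G) = centralizer ({x} : Set G) := by
  rw [← zpowers_eq_of_card hX hx hx1, centralizer_zpowers]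

/-- A prime power dividing element of a cyclic group: a subgroup of prime order contained in
`⟨x⟩`. -/
theorem exists_card_prime_le_zpowers [Fact p.Prime] {x : G} (h : p ∣ orderOf x) :
    ∃ X : Subgroup G, X ≤ zpowers x ∧ Nat.card X = p := by
  obtain ⟨y, hy⟩ := exists_prime_orderOf_dvd_card' (G := zpowers x) p (by rwa [Nat.card_zpowers])
  exact ⟨zpowers (y : G), zpowers_le.2 y.2, by rw [Nat.card_zpowers, orderOf_coe, hy]⟩

/-- Two subgroups of the same prime order of a cyclic group are equal. -/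
theorem eq_of_card_prime_of_isCyclic [Fact p.Prime] {S X Y : Subgroup G} (hS : IsCyclic S)
    (hXS : X ≤ S) (hYS : Y ≤ S) (hX : Nat.card X = p) (hY : Nat.card Y = p) : X = Y := by
  haveI := hS
  have h := eq_of_card_eq_of_isCyclic (C := S) (H := X.subgroupOf S) (K := Y.subgroupOf S) (by
    rw [Nat.card_congr (subgroupOfEquivOfLe hXS).toEquiv,
      Nat.card_congr (subgroupOfEquivOfLe hYS).toEquiv, hX, hY])
  rw [← subgroupOf_map_subtype X S |>.trans (inf_eq_left.2 hXS),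
    ← subgroupOf_map_subtype Y S |>.trans (inf_eq_left.2 hYS), h]

theorem dvd_card_of_card_le {X K : Subgroup G} {n : ℕ} (hXK : X ≤ K) (hX : Nat.card X = n) :
    n ∣ Nat.card K :=
  hX ▸ card_dvd_of_le hXK

end General

section Kappa

theorem kappa_prime (h : p ∈ Cfsg.kappa M) : p.Prime := h.1

theorem kappa_not_sigma (h : p ∈ Cfsg.kappa M) : p ∉ Cfsg.sigma M := h.2.2.1

theorem kappa_sylow_isCyclic [Fact p.Prime] (h : p ∈ Cfsg.kappa M) {S : Subgroup G}
    (hS : IsSylowIn p S M) : IsCyclic S := by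
  haveI : IsCyclic ↥(S.subgroupOf M) :=
    (h.2.2.2 ((hS.isPGroup.comap_subtype (K := M)).toSylow hS.2.2)).1
  exact isCyclic_of_surjective _ (subgroupOfEquivOfLe hS.le).surjective

/-- `M` has `p`-rank one for `p ∈ κ(M)`. -/
theorem kappa_pRankLE_one (h : p ∈ Cfsg.kappa M) : Cfsg.PRankLE p 1 M := by
  haveI := Fact.mk h.1
  intro A hAc hA
  have hAp : IsPGroup p A := fun a => ⟨1, Subtype.ext (by simpa using hA a a.2)⟩
  obtain ⟨P, hP⟩ := hAp.exists_le_sylow
  haveI := (h.2.2.2 P).1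
  haveI : IsCyclic A := isCyclic_of_injective (Subgroup.inclusion hP) (Subgroup.inclusion_injective hP)
  obtain ⟨g, hg⟩ := IsCyclic.exists_ofOrder_eq_natCard (α := A)
  rw [pow_one, ← hg]
  exact Nat.le_of_dvd h.1.pos (orderOf_dvd_of_pow_eq_one (Subtype.ext (by simpa using hA g g.2)))

/-- Every subgroup of order `p ∈ κ(M)` of `M` has non-trivial fixed points on `M_σ`. -/
theorem kappa_fixed [Fact p.Prime] (h : p ∈ Cfsg.kappa M) {X : Subgroup G} (hXM : X ≤ M)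
    (hX : Nat.card X = p) : Cfsg.sigmaCore M ⊓ centralizer (X : Set G) ≠ ⊥ := by
  have hXp : IsPGroup p (X.subgroupOf M) := (IsPGroup.of_card (n := 1) (by rw [hX, pow_one])).comap_subtype
  obtain ⟨P, hXP⟩ := hXp.exists_le_sylow
  obtain ⟨hc, x, hxP, hx1, y, hy, hy1, hxy⟩ := h.2.2.2 P
  haveI := hc
  obtain ⟨n, hn⟩ := IsPGroup.iff_orderOf.1 P.2 ⟨x, hxP⟩
  have hn0 : n ≠ 0 := fun e => hx1 (by
    rw [Subgroup.orderOf_mk, e, pow_zero, orderOf_eq_one_iff] at hn; exact hn)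
  rw [Subgroup.orderOf_mk, ← Subgroup.orderOf_coe] at hn
  obtain ⟨Y, hYx, hY⟩ := exists_card_prime_le_zpowers (p := p) (x := (x : G)) (hn ▸ dvd_pow_self p hn0)
  have hYP : Y ≤ (P : Subgroup M).map M.subtype :=
    hYx.trans (zpowers_le.2 ⟨x, hxP, rfl⟩)
  have hXP' : X ≤ (P : Subgroup M).map M.subtype := fun a ha => ⟨⟨a, hXM ha⟩, hXP (by exact ha), rfl⟩
  haveI : IsCyclic ↥((P : Subgroup M).map M.subtype) :=
    isCyclic_of_surjective _ ((P : Subgroup M).equivMapOfInjective _ M.subtype_injective).surjective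
  rw [eq_of_card_prime_of_isCyclic inferInstance hXP' hYP hX hY]
  intro e
  refine hy1 (mem_bot.1 (e ▸ mem_inf.2 ⟨hy, ?_⟩))
  rw [mem_centralizer_iff]
  intro z hz
  obtain ⟨i, rfl⟩ := mem_zpowers_iff.1 (hYx hz)
  exact ((show Commute (x : G) y from hxy).zpow_left i).eq

/-- `p ∈ κ(M)` once `p ∉ σ(M)`, `M` has `p`-rank one and a subgroup of order `p` has non-trivial
fixed points on `M_σ`. -/
theorem mem_kappa_of_fixed [Fact p.Prime] (hp2 : p ≠ 2) (hs : p ∉ Cfsg.sigma M)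
    (h1 : Cfsg.PRankLE p 1 M) {X : Subgroup G} (hXM : X ≤ M) (hX : Nat.card X = p)
    (hfix : Cfsg.sigmaCore M ⊓ centralizer (X : Set G) ≠ ⊥) : p ∈ Cfsg.kappa M := by
  obtain ⟨y, hy, hy1⟩ :=
    SetLike.exists_of_lt (bot_lt_iff_ne_bot.2 hfix)
  rw [mem_bot] at hy1
  obtain ⟨hyS, hyC⟩ := mem_inf.1 hy
  obtain ⟨x, hx, hx1⟩ := exists_mem_ne_one_of_card hX
  refine ⟨Fact.out, dvd_card_of_card_le hXM hX, hs, fun P => ?_⟩
  have hPc : IsCyclic ↥((P : Subgroup M).map M.subtype) :=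
    isCyclic_of_pRankLE_one (map_subtype_le _) (P.2.map _) hp2 h1
  haveI := hPc
  refine ⟨isCyclic_of_surjective _
    ((P : Subgroup M).equivMapOfInjective _ M.subtype_injective).symm.surjective, ?_⟩
  have hXp : IsPGroup p (zpowers (⟨x, hXM hx⟩ : M)) := by
    refine IsPGroup.of_card (n := 1) ?_
    rw [Nat.card_zpowers, pow_one, Subgroup.orderOf_mk, ← Nat.card_zpowers,
      zpowers_eq_of_card hX hx hx1, hX]
  obtain ⟨Q, hQ⟩ := hXp.exists_le_sylow
  obtain ⟨g, hg⟩ := MulAction.exists_smul_eq M Q P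
  refine ⟨g * ⟨x, hXM hx⟩ * g⁻¹, ?_, ?_, (g : G) * y * (g : G)⁻¹, ?_, ?_, ?_⟩
  · rw [← hg]
    exact ⟨⟨x, hXM hx⟩, hQ (mem_zpowers _), rfl⟩
  · intro e
    exact hx1 (congrArg Subtype.val (conj_eq_one_iff.1 e))
  · exact (mem_normalizer_iff.1 (le_normalizer_sigmaCore M g.2) y).1 hyS
  · intro e
    exact hy1 (conj_eq_one_iff.1 e)
  · have hc : x * y = y * x := mem_centralizer_iff.1 hyC x hx
    show (g : G) * x * (g : G)⁻¹ * ((g : G) * y * (g : G)⁻¹) =
      (g : G) * y * (g : G)⁻¹ * ((g : G) * x * (g : G)⁻¹)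
    calc _ = (g : G) * (x * y) * (g : G)⁻¹ := by group
      _ = (g : G) * (y * x) * (g : G)⁻¹ := by rw [hc]
      _ = _ := by group

end Kappa

section Maximal

variable (F : BG13Facts G) (hG : Cfsg.IsMinSimpleOddOrder G)
include F hG

theorem exists_complIn (hM : IsCoatom M) :
    ∃ E : Subgroup G, Cfsg.IsComplIn E (Cfsg.sigmaCore M) M :=
  (exists_complIn_ge F.bg12 hG hM bot_le fun r hr hd => absurd hd (by
    rw [card_bot]; exact hr.not_dvd_one)).imp fun _ h => h.2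

theorem complIn_sup_eq {E : Subgroup G} (hE : Cfsg.IsComplIn E (Cfsg.sigmaCore M) M) :
    E ⊔ Cfsg.sigmaCore M = M :=
  le_antisymm (sup_le hE.1 hE.2.1) fun m hm => by
    obtain ⟨a, ha, b, hb, rfl⟩ := hE.2.2.2 m hm
    exact mul_mem_sup ha hb

theorem complIn_relIndex {E : Subgroup G} (hM : IsCoatom M)
    (hE : Cfsg.IsComplIn E (Cfsg.sigmaCore M) M) :
    E.relIndex M ∣ Nat.card (Cfsg.sigmaCore M) := by
  refine relIndex_dvd_card_of_eq_sup (le_normalizer_sigmaCore M) ?_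
  rw [sup_comm, complIn_sup_eq F hG hE]

theorem complIn_not_sigma {E : Subgroup G} (hM : IsCoatom M)
    (hE : Cfsg.IsComplIn E (Cfsg.sigmaCore M) M) {r : ℕ} (hr : r.Prime) (hd : r ∣ Nat.card E) :
    r ∉ Cfsg.sigma M := by
  intro hs
  haveI := Fact.mk hr
  obtain ⟨x, hx⟩ := exists_prime_orderOf_dvd_card' (G := E) r hd
  have hp : IsPGroup r (zpowers (x : G)) :=
    IsPGroup.of_card (n := 1) (by rw [Nat.card_zpowers, orderOf_coe, hx, pow_one])
  have h1 : (x : G) ∈ E ⊓ Cfsg.sigmaCore M := ⟨x.2,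
    pGroup_le_sigmaCore F.bg12.bg10 hM hs (zpowers_le.2 (hE.1 x.2)) hp (mem_zpowers _)⟩
  rw [hE.2.2.1, mem_bot] at h1
  rw [Subtype.ext (a1 := x) (a2 := 1) h1, orderOf_one] at hx
  exact hr.one_lt.ne hx

theorem complIn_isPiHallOf {E : Subgroup G} (hM : IsCoatom M)
    (hE : Cfsg.IsComplIn E (Cfsg.sigmaCore M) M) :
    Cfsg.IsPiHallOf {r | r.Prime ∧ r ∉ Cfsg.sigma M} E M :=
  ⟨hE.1, fun r hr hd => ⟨hr, complIn_not_sigma F hG hM hE hr hd⟩, fun r hr hrπ hd =>
    hrπ.2 (isPiSubgroup_sigmaCore M r hr (hd.trans (complIn_relIndex F hG hM hE)))⟩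

/-- A Sylow subgroup of a complement of `M_σ` is one of `M`. -/
theorem isSylowIn_of_complIn [Fact p.Prime] {E S : Subgroup G} (hM : IsCoatom M)
    (hE : Cfsg.IsComplIn E (Cfsg.sigmaCore M) M) (hp : p ∉ Cfsg.sigma M) (hS : IsSylowIn p S E) :
    IsSylowIn p S M := by
  refine ⟨hS.le.trans hE.1, hS.isPGroup, fun hd => ?_⟩
  rw [← relIndex_mul_relIndex S E M hS.le hE.1] at hd
  rcases (Fact.out : p.Prime).dvd_mul.1 hd with h | h
  · exact hS.not_dvd h
  · exact (complIn_isPiHallOf F hG hM hE).2.2 p Fact.out ⟨Fact.out, hp⟩ h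

theorem dvd_card_complIn [Fact p.Prime] {E : Subgroup G} (hM : IsCoatom M)
    (hE : Cfsg.IsComplIn E (Cfsg.sigmaCore M) M) (hp : p ∉ Cfsg.sigma M) (hd : p ∣ Nat.card M) :
    p ∣ Nat.card E := by
  rw [← card_mul_relIndex hE.1] at hd
  exact ((Fact.out : p.Prime).dvd_mul.1 hd).resolve_right fun h =>
    (complIn_isPiHallOf F hG hM hE).2.2 p Fact.out ⟨Fact.out, hp⟩ h

/-- The primes of `M` outside `σ(M)` lie in one of `τ₁`, `τ₂`, `τ₃`. -/
theorem tau_cases (hM : IsCoatom M) (hp : p.Prime) (hd : p ∣ Nat.card M)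
    (hs : p ∉ Cfsg.sigma M) : p ∈ Cfsg.tau1 M ∨ p ∈ Cfsg.tau2 M ∨ p ∈ Cfsg.tau3 M := by
  haveI := Fact.mk hp
  by_cases h1 : Cfsg.PRankLE p 1 M
  · by_cases hd' : p ∣ Nat.card ↥⁅M, M⁆
    · exact Or.inr (Or.inr ⟨hp, hs, hd', h1⟩)
    · exact Or.inl ⟨hp, hs, hd, hd', h1⟩
  · exact Or.inr (Or.inl ⟨hp, hs, pRankLE_two_of_not_sigma F.bg12.bg10 hM hs, h1⟩)

theorem not_tau2_of_pRankLE_one (h1 : Cfsg.PRankLE p 1 M) : p ∉ Cfsg.tau2 M := fun h => h.2.2.2 h1

/-- The non-`σ` primes with non-trivial fixed points are in `κ` or `τ₂`. -/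
theorem kappa_or_tau2 [Fact p.Prime] (hM : IsCoatom M) (hs : p ∉ Cfsg.sigma M) {X : Subgroup G}
    (hXM : X ≤ M) (hX : Nat.card X = p)
    (hfix : Cfsg.sigmaCore M ⊓ centralizer (X : Set G) ≠ ⊥) :
    p ∈ Cfsg.kappa M ∨ p ∈ Cfsg.tau2 M := by
  by_cases h1 : Cfsg.PRankLE p 1 M
  · exact Or.inl (mem_kappa_of_fixed
      (minSimple_prime_ne_two_subgroup hG (dvd_card_of_card_le le_rfl hX)) hs h1 hXM hX hfix)
  · exact Or.inr ⟨Fact.out, hs, pRankLE_two_of_not_sigma F.bg12.bg10 hM hs, h1⟩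

/-- `κ(M) ⊆ τ₁(M) ∪ τ₃(M)`. -/
theorem kappa_tau13 (h : p ∈ Cfsg.kappa M) : p ∈ Cfsg.tau1 M ∨ p ∈ Cfsg.tau3 M := by
  by_cases hd : p ∣ Nat.card ↥⁅M, M⁆
  · exact Or.inr ⟨h.1, h.2.2.1, hd, kappa_pRankLE_one h⟩
  · exact Or.inl ⟨h.1, h.2.2.1, h.2.1, hd, kappa_pRankLE_one h⟩

/-- In a complement `E` of `M_σ`, `E ∩ M' = E'`. -/
theorem inf_commutator_eq {E : Subgroup G} (hM : IsCoatom M)
    (hE : Cfsg.IsComplIn E (Cfsg.sigmaCore M) M) : E ⊓ ⁅M, M⁆ = ⁅E, E⁆ := by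
  refine le_antisymm ?_ (le_inf ((commutator_le_self E)) (commutator_mono hE.1 hE.1))
  intro x hx
  have h1 := commutator_le_sup_commutator (le_normalizer_sigmaCore M)
    (show M = Cfsg.sigmaCore M ⊔ E by rw [sup_comm, complIn_sup_eq F hG hE]) hx.2
  have hn : ⁅E, E⁆ ≤ normalizer (Cfsg.sigmaCore M : Set G) :=
    ((commutator_le_self E).trans hE.1).trans (le_normalizer_sigmaCore M)
  rw [← SetLike.mem_coe, coe_mul_of_right_le_normalizer_left _ _ hn] at h1
  obtain ⟨u, hu, e, he, rfl⟩ := Set.mem_mul.1 h1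
  have h2 : u ∈ E ⊓ Cfsg.sigmaCore M :=
    mem_inf.2 ⟨by simpa using mul_mem (mem_inf.1 hx).1 (inv_mem (commutator_le_self E he)), hu⟩
  rw [hE.2.2.1, mem_bot] at h2
  simpa [h2] using he

omit F hG in
/-- When `σ(M)` and `σ(H)` are disjoint, `M_σ ∩ H` and `H_σ ∩ M` commute. -/
theorem inf_sigmaCore_commute (hdis : Disjoint (Cfsg.sigma M) (Cfsg.sigma H)) :
    Cfsg.sigmaCore M ⊓ H ≤ centralizer ((Cfsg.sigmaCore H ⊓ M : Subgroup G) : Set G) := by
  refine le_centralizer_of_normalize ?_ ?_ ?_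
  · intro a ha
    refine ConjFunctor.mem_normalizer_of_forall_conj_mem fun b hb => mem_inf.2 ⟨?_, ?_⟩
    · exact (mem_normalizer_iff.1 (le_normalizer_sigmaCore H (mem_inf.1 ha).2) b).1 (mem_inf.1 hb).1
    · exact mul_mem (mul_mem (sigmaCore_le M (mem_inf.1 ha).1) (mem_inf.1 hb).2)
        (inv_mem (sigmaCore_le M (mem_inf.1 ha).1))
  · intro a ha
    refine ConjFunctor.mem_normalizer_of_forall_conj_mem fun b hb => mem_inf.2 ⟨?_, ?_⟩
    · exact (mem_normalizer_iff.1 (le_normalizer_sigmaCore M (mem_inf.1 ha).2) b).1 (mem_inf.1 hb).1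
    · exact mul_mem (mul_mem (sigmaCore_le H (mem_inf.1 ha).1) (mem_inf.1 hb).2)
        (inv_mem (sigmaCore_le H (mem_inf.1 ha).1))
  · exact inf_eq_bot_of_isPiSubgroup (isPiSubgroup_mono inf_le_left (isPiSubgroup_sigmaCore M))
      (isPiSubgroup_mono inf_le_left (isPiSubgroup_sigmaCore H)) hdis

end Maximal

end CfsgLib.OddOrder.BG14
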