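import Cfsg.Agent.OddOrder.BG14.KStar
import Cfsg.Agent.OddOrder.BG14.Member
import Cfsg.Agent.OddOrder.BG14.Assemble
import Cfsg.Agent.OddOrder.BG16.TheoremB
import Cfsg.Agent.OddOrder.BG16.AssembleTau
import Cfsg.Agent.OddOrder.BG15.HallTools
import Cfsg.Agent.Coprime.Generation
import Cfsg.Agent.S1436

/-!
# BG 14.10 (S1435): the maximal subgroups over `N(R)`, `R` a Sylow subgroup of `U ≠ 1`

The only result of BG 14.7 used is that every maximal `H` with `κ(H) ≠ ∅` is conjugate to `M` or to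
its partner `M*`.
-/

set_option autoImplicit false
set_option linter.style.haveILetI false
set_option linter.unusedSectionVars false

namespace CfsgLib.OddOrder.BG14

open Cfsg Subgroup
open CfsgLib.OddOrder
open CfsgLib.OddOrder.BG11
open CfsgLib.OddOrder.BG13
open CfsgLib.ConjFunctor (IsSylowIn exists_isSylowIn_ge)
open scoped commutatorElement

variable {G : Type*} [Group G] [Finite G] {p r s : ℕ} {M K U Ms H E A R : Subgroup G}

omit [Finite G] in
/-- The normalizer of an abelian `U` normalizes its Sylow subgroups. -/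
theorem normalizer_le_normalizer_sylow [Finite G] [Fact r.Prime] (hU : IsMulCommutative U)
    (hR : IsSylowIn r R U) : normalizer (U : Set G) ≤ normalizer (R : Set G) := by
  intro g hg
  refine map_conj_eq_self_iff.1 ?_
  have hle : R.map (MulAut.conj g).toMonoidHom ≤ U :=
    (map_mono hR.le).trans (map_conj_eq_self_iff.2 hg).le
  obtain ⟨a, ha, h⟩ := hR.exists_cj_le hle (hR.isPGroup.map _)
  have hfix : (R.map (MulAut.conj g).toMonoidHom).map (MulAut.conj a).toMonoidHom =
      R.map (MulAut.conj g).toMonoidHom :=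
    map_conj_eq_self_iff.2 (centralizer_le_normalizer _
      (mem_centralizer_comm_of_isMulCommutative hU le_rfl hle ha))
  refine eq_of_le_of_card_ge ?_ (card_map_conj R g).ge
  exact hfix ▸ h

/-- The data of BG 14.10. -/
structure TypePUData (M K U Ms : Subgroup G) : Prop where
  coatomM : IsCoatom M
  coatomS : IsCoatom Ms
  hall : Cfsg.IsPiHallOf (Cfsg.kappa M) K M
  data : PTypeData M (U ⊔ K) K U
  K_ne : K ≠ ⊥
  U_ne : U ≠ ⊥
  star : K = Cfsg.sigmaCore Ms ⊓
    centralizer ((Cfsg.sigmaCore M ⊓ centralizer (K : Set G)) : Set G)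
  starHall : Cfsg.IsPiHallOf (Cfsg.kappa Ms) (Cfsg.sigmaCore M ⊓ centralizer (K : Set G)) Ms
  prime : (Nat.card K).Prime
  classes : ∀ H : Subgroup G, IsCoatom H → (Cfsg.kappa H).Nonempty →
    ∃ g : G, H = M.map (MulAut.conj g).toMonoidHom ∨ H = Ms.map (MulAut.conj g).toMonoidHom

/-- `H` is a maximal subgroup over the normalizer of the Sylow `r`-subgroup `R` of `U`. -/
structure OverSylow (r : ℕ) (U R H : Subgroup G) : Prop where
  coatom : IsCoatom H
  dvd : r ∣ Nat.card U
  sylow : IsSylowIn r R U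
  norm : normalizer (R : Set G) ≤ H

variable (F : BG13Facts G) (hG : Cfsg.IsMinSimpleOddOrder G)
include F hG

/-- A decomposition with `K ≠ 1` gives the data of BG 14.2. -/
theorem ptypeData_of_decomp (hM : IsCoatom M) (hKU : Cfsg.IsSigmaDecomposition M K U)
    (hK : K ≠ ⊥) : PTypeData M (U ⊔ K) K U := by
  obtain ⟨E₀, U₀, d₀⟩ := exists_pTypeData F hG hM hKU.hall hK
  refine ⟨⟨sup_le hKU.compl.1 hKU.hall.1, sigmaCore_le M, ?_, fun m hm => ?_⟩, le_sup_right,
    le_sup_left, BG16.decomp_hall_U hG hM hKU, rfl, ?_,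
    BG16.U_abelian hG hM (BG16.tauFacts hG) hKU hK, sup_le le_normalizer hKU.normal,
    fun k hk hk1 => BG16.U_inf_centralizer hG hM (BG16.tauFacts hG) hKU hk hk1, d₀.semiprime,
    d₀.primeNormal⟩
  · refine Coprime.inf_eq_bot_of_coprime (Nat.coprime_of_dvd fun q hq h1 h2 => ?_)
    rcases hq.dvd_mul.1 (h1.trans (BG13.card_sup_dvd_mul hKU.normal)) with h | h
    · exact (BG16.not_sigma_of_dvd_U hG hM hKU hq h).1 (isPiSubgroup_sigmaCore M q hq h2)
    · exact (hKU.hall.2.1 q hq h).2.2.1 (isPiSubgroup_sigmaCore M q hq h2)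
  · obtain ⟨u, hu, v, hv, rfl⟩ := hKU.compl.2.2.2 m hm
    rw [← SetLike.mem_coe, coe_mul_of_left_le_normalizer_right _ _
      (hKU.hall.1.trans (le_normalizer_sigmaCore M))] at hv
    obtain ⟨k, hk, y, hy, rfl⟩ := hv
    exact ⟨u * k, mul_mem_sup hu hk, y, hy, (mul_assoc _ _ _).symm⟩
  · refine Coprime.inf_eq_bot_of_coprime (Nat.coprime_of_dvd fun q hq h1 h2 => ?_)
    exact (BG16.not_sigma_of_dvd_U hG hM hKU hq h1).2 (hKU.hall.2.1 q hq h2)

namespace TypePUData

theorem kappaK (c : TypePUData M K U Ms) : Nat.card K ∈ Cfsg.kappa M :=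
  c.hall.2.1 _ c.prime (dvd_refl _)

omit F hG in
theorem K_le_core (c : TypePUData M K U Ms) : K ≤ Cfsg.sigmaCore Ms := c.star.le.trans inf_le_left

omit F hG in
theorem K_le_star (c : TypePUData M K U Ms) : K ≤ Ms := c.K_le_core.trans (sigmaCore_le Ms)

omit F hG in
theorem sigmaK (c : TypePUData M K U Ms) : Nat.card K ∈ Cfsg.sigma Ms :=
  isPiSubgroup_sigmaCore Ms _ c.prime (card_dvd_of_le c.K_le_core)

theorem not_conj (c : TypePUData M K U Ms) : ∀ g : G, Ms ≠ M.map (MulAut.conj g).toMonoidHom :=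
  fun g e => kappa_not_sigma (c.kappaK F hG) (by
    have := c.sigmaK; rwa [e, sigma_map_conj] at this)

theorem disjoint (c : TypePUData M K U Ms) : Disjoint (Cfsg.sigma M) (Cfsg.sigma Ms) :=
  disjoint_sigma F hG c.coatomM c.coatomS (c.not_conj F hG)

/-- `N(K) ≤ M*`. -/
theorem normalizer_K_le (c : TypePUData M K U Ms) : normalizer (K : Set G) ≤ Ms := by
  haveI := Fact.mk c.prime
  obtain ⟨L, hL, hNL⟩ := minSimple_exists_coatom hG (minSimple_normalizer_ne_top hG c.K_ne
    (minSimple_ne_top_of_isPGroup hG (isPGroup_of_card_prime rfl)))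
  obtain ⟨g, hg⟩ := exists_conj_of_sigma F hG c.coatomS hL c.sigmaK
    (kappa_sigma_normalizer F hG c.coatomM (c.kappaK F hG) c.hall.1 rfl hL hNL).1
  exact eq_of_conj_of_normalizer_le F.bg12.bg10 hG c.coatomS c.sigmaK (isPGroup_of_card_prime rfl)
    c.K_ne c.K_le_star hNL hg ▸ hNL

theorem centralizer_K_le (c : TypePUData M K U Ms) : centralizer (K : Set G) ≤ Ms :=
  (centralizer_le_normalizer _).trans (c.normalizer_K_le F hG)

/-- `M*` is the only maximal `L ≥ K` with `#K ∈ σ(L)`. -/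
theorem eq_star (c : TypePUData M K U Ms) {L : Subgroup G} (hL : IsCoatom L) (hKL : K ≤ L)
    (hk : Nat.card K ∈ Cfsg.sigma L) : L = Ms := by
  haveI := Fact.mk c.prime
  obtain ⟨g, hg⟩ := exists_conj_of_sigma F hG c.coatomS hL c.sigmaK hk
  obtain ⟨m, hm, x, hx, he⟩ := F.bg12.bg10.fusion Ms c.coatomS _ c.sigmaK K
    (isPGroup_of_card_prime rfl) c.K_ne c.K_le_star g⁻¹ (by
      have := map_mono (f := (MulAut.conj g⁻¹).toMonoidHom) hKL
      rwa [hg, map_conj_map_conj, inv_mul_cancel, map_conj_one] at this)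
  have hgM : g ∈ Ms := by
    rw [← inv_mem_iff, he]
    exact mul_mem hm (c.centralizer_K_le F hG hx)
  rw [hg, map_conj_eq_self_of_mem hgM]

omit F hG in
theorem not_sigma_U (c : TypePUData M K U Ms) (hr : r.Prime) (hd : r ∣ Nat.card U) :
    r ∉ Cfsg.sigma M := (c.data.hallU.2.1 r hr hd).2.2

omit F hG in
theorem coprime_K_U (c : TypePUData M K U Ms) : (Nat.card K).Coprime (Nat.card U) :=
  Nat.coprime_of_dvd fun q hq h1 h2 => (c.data.hallU.2.1 q hq h2).2.1 (c.hall.2.1 q hq h1)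

omit F hG in
theorem sylow_M (c : TypePUData M K U Ms) [Fact r.Prime] (hd : r ∣ Nat.card U)
    (hR : IsSylowIn r R U) : IsSylowIn r R M := by
  refine ⟨hR.le.trans c.data.hallU.1, hR.isPGroup, fun h => ?_⟩
  rw [← relIndex_mul_relIndex R U M hR.le c.data.hallU.1] at h
  exact ((Fact.out : r.Prime).dvd_mul.1 h).elim hR.not_dvd
    (c.data.hallU.2.2 r Fact.out (c.data.hallU.2.1 r Fact.out hd))

omit F hG in
theorem R_ne_bot [Fact r.Prime] (o : OverSylow r U R H) : R ≠ ⊥ :=
  sylowIn_ne_bot o.sylow o.dvd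

omit F hG in
theorem E_le [Fact r.Prime] (c : TypePUData M K U Ms) (o : OverSylow r U R H) :
    U ⊔ K ≤ H :=
  c.data.normU.trans ((normalizer_le_normalizer_sylow c.data.commU o.sylow).trans o.norm)

theorem not_conj_M [Fact r.Prime] (c : TypePUData M K U Ms) (o : OverSylow r U R H) :
    ∀ g : G, H ≠ M.map (MulAut.conj g).toMonoidHom := by
  intro g e
  have hR := c.sylow_M o.dvd o.sylow
  have hRH : R ≤ H := o.sylow.le.trans (le_sup_left.trans (c.E_le o))
  have hd : r ∣ Nat.card M := o.dvd.trans (card_dvd_of_le c.data.hallU.1)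
  have hcM : Nat.card H = Nat.card M := by rw [e, card_map_conj]
  have hRH' : IsSylowIn r R H := ⟨hRH, hR.isPGroup, by
    have : R.relIndex H = R.relIndex M := Nat.eq_of_mul_eq_mul_left (Nat.card_pos (α := R))
      (by rw [card_mul_relIndex hRH, card_mul_relIndex hR.le, hcM])
    rw [this]; exact hR.not_dvd⟩
  have hs : r ∈ Cfsg.sigma H := sigma_of_normalizer_le (hcM ▸ hd) hRH' o.norm
  rw [e, sigma_map_conj] at hs
  exact c.not_sigma_U Fact.out o.dvd hs

/-- `H` is not conjugate to `M*`. -/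
theorem not_conj_star [Fact r.Prime] (c : TypePUData M K U Ms) (o : OverSylow r U R H) :
    ∀ g : G, H ≠ Ms.map (MulAut.conj g).toMonoidHom := by
  intro g e
  haveI := Fact.mk c.prime
  have hk : Nat.card K ∈ Cfsg.sigma H := by rw [e, sigma_map_conj]; exact c.sigmaK
  have hHs := c.eq_star F hG o.coatom (le_sup_right.trans (c.E_le o)) hk
  have hE : U ⊔ K ≤ Ms := hHs ▸ c.E_le o
  haveI := c.data.commU
  have hUK : U ≤ ⁅U, K⁆ := by
    have h := Coprime.inf_centralizer_sup_commutator_eq (c.data.KE.trans c.data.normU) c.coprime_K_U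
    obtain ⟨k, hk, hk1⟩ := (bot_or_exists_ne_one K).resolve_left c.K_ne
    have h0 : U ⊓ centralizer (K : Set G) = ⊥ := le_bot_iff.1
      ((inf_le_inf_left _ (centralizer_subgroup_le_singleton hk)).trans
        (c.data.semiregular k hk hk1).le)
    rw [h0, bot_sup_eq] at h
    exact h.ge
  have hUs : U ≤ Cfsg.sigmaCore Ms := hUK.trans (commutator_le.2 fun u hu k hk => by
    rw [commutatorElement_def]
    exact mul_mem ((mem_normalizer_iff.1 (le_normalizer_sigmaCore Ms (hE (mem_sup_left hu))) k).1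
      (c.K_le_core hk)) (inv_mem (c.K_le_core hk)))
  have hcomm := inf_sigmaCore_commute (c.disjoint F hG)
  have h1 : U ≤ centralizer ((Cfsg.sigmaCore M ⊓ centralizer (K : Set G) : Subgroup G) : Set G) :=
    le_centralizer_iff.1 ((le_inf inf_le_left
      (inf_le_right.trans (c.centralizer_K_le F hG))).trans (hcomm.trans
        (centralizer_le (SetLike.coe_subset_coe.2 (le_inf hUs c.data.hallU.1)))))
  have h2 : U ≤ K := (le_inf hUs h1).trans c.star.ge
  exact c.U_ne (le_bot_iff.1 (c.data.inf ▸ le_inf le_rfl h2))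

theorem kappa_empty [Fact r.Prime] (c : TypePUData M K U Ms) (o : OverSylow r U R H) :
    Cfsg.kappa H = ∅ := by
  by_contra h
  obtain ⟨g, hg | hg⟩ := c.classes H o.coatom (Set.nonempty_iff_ne_empty.2 h)
  · exact c.not_conj_M F hG o g hg
  · exact c.not_conj_star F hG o g hg

theorem not_sigmaK [Fact r.Prime] (c : TypePUData M K U Ms) (o : OverSylow r U R H) :
    Nat.card K ∉ Cfsg.sigma H := fun h => c.not_conj_star F hG o 1 (by
  rw [map_conj_one]; exact c.eq_star F hG o.coatom (le_sup_right.trans (c.E_le o)) h)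

/-- `K` acts regularly on `H_σ`. -/
theorem regular [Fact r.Prime] (c : TypePUData M K U Ms) (o : OverSylow r U R H) :
    Cfsg.sigmaCore H ⊓ centralizer (K : Set G) = ⊥ := by
  by_contra hfix
  haveI := Fact.mk c.prime
  have hKH : K ≤ H := le_sup_right.trans (c.E_le o)
  rcases kappa_or_tau2 F hG o.coatom (c.not_sigmaK F hG o) hKH rfl hfix with h | h
  · rw [c.kappa_empty F hG o] at h; exact h
  · obtain ⟨-, huniq⟩ := tau2_line_unique F hG o.coatom h hKH rfl hfix
    exact c.not_conj_star F hG o 1 (by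
      rw [map_conj_one]; exact (huniq Ms c.coatomS (c.centralizer_K_le F hG)).symm)

/-- A plane of `τ₂(H)` moved by `K`: its prime is in `σ(M)` and `σ(H)` avoids `π(M)`. -/
theorem plane_moved [Fact s.Prime] (c : TypePUData M K U Ms) (hH : IsCoatom H)
    (hreg : Cfsg.sigmaCore H ⊓ centralizer (K : Set G) = ⊥)
    (hE : Cfsg.IsComplIn E (Cfsg.sigmaCore H) H) (hKE : K ≤ E)
    (hs : s ∈ Cfsg.tau2 H) (hAE : A ≤ E) (hA : Cfsg.IsElementaryAbelian s A)
    (hAc : Nat.card A = s ^ 2) (hmove : ¬ K ≤ centralizer (A : Set G)) :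
    s ∈ Cfsg.sigma M ∧ ∀ q ∈ Cfsg.sigma H, ¬ q ∣ Nat.card M := by
  haveI := Fact.mk c.prime
  haveI := hA.1
  have hAp := isPGroup_of_isElementaryAbelian hA
  have hn : K ≤ normalizer (A : Set G) :=
    hKE.trans (F.bg12.tauTwoCompl H hH E hE s hs A hAE hA hAc).1
  have hks : Nat.card K ≠ s := fun e => hmove
    (mem_centralizer_comm_of_isMulCommutative hA.1
      ((F.tauTwoLine H hH E hE s hs A hAE hA hAc).1 K hKE e) le_rfl)
  have hcop : (Nat.card K).Coprime (Nat.card A) := by
    rw [hAc]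
    exact ((Nat.coprime_primes c.prime Fact.out).2 hks).pow_right 2
  have hinf := Coprime.inf_centralizer_inf_commutator_eq_bot hn hcop
  have hsup := Coprime.inf_centralizer_sup_commutator_eq hn hcop
  set C := A ⊓ centralizer (K : Set G) with hC
  have hDA : ⁅A, K⁆ ≤ A := Coprime.commutator_le_of_le_normalizer hn
  set D := ⁅A, K⁆ with hD
  have hD1 : D ≠ ⊥ := fun e => hmove (le_centralizer_iff.1 (commutator_eq_bot_iff_le_centralizer.1 e))
  have hKn : K ≤ normalizer (D : Set G) :=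
    le_sup_right.trans (Coprime.sup_le_normalizer_commutator A K)
  have hDKE : D ⊔ K ≤ E := sup_le (hDA.trans hAE) hKE
  have hDc : Cfsg.sigmaCore H ≤ centralizer (D : Set G) := by
    have hw := frobenius_fixed_point_formula (U := D) (E := K) (H := Cfsg.sigmaCore H)
      (le_bot_iff.1 ((inf_le_inf_right _ hDA).trans
        (Coprime.inf_eq_bot_of_coprime hcop.symm).le)) hKn
      (fun e he he1 v hv hev => by
        have h1 : v ∈ C ⊓ D := mem_inf.2 ⟨mem_inf.2 ⟨hDA hv, by
          rw [centralizer_eq_singleton_of_card rfl he he1, mem_centralizer_singleton_iff]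
          exact hev.symm⟩, hv⟩
        rw [hinf, mem_bot] at h1
        exact h1)
      ((hDKE.trans hE.1).trans (le_normalizer_sigmaCore H))
      (minSimple_solvable hG (ne_top_of_le_ne_top hH.1 (sigmaCore_le H)))
      (coprime_of_isPiSubgroup_not (isPiSubgroup_sigmaCore H)
        fun q hq hd => complIn_not_sigma F hG hH hE hq (hd.trans (card_dvd_of_le hDKE))).symm
    rw [le_bot_iff.1 ((inf_le_inf_left _ (Subgroup.centralizer_le (SetLike.coe_subset_coe.2
      (le_sup_right : K ≤ D ⊔ K)))).trans hreg.le), hreg, card_bot, one_pow, one_mul, one_mul] at hw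
    exact inf_eq_left.1 (eq_of_le_of_card_ge inf_le_left hw.le)
  have hHne := minSimple_sigmaCore_ne_bot hG hH
  have hC1 : C ≠ ⊥ := fun e => by
    rw [e, bot_sup_eq] at hsup
    refine hHne (le_bot_iff.1 ((F.tauTwoPlane H hH s hs A (hAE.trans hE.1) hA hAc).2.1 ▸
      le_inf le_rfl ?_))
    rw [← hsup]; exact hDc
  obtain ⟨Y, hYD, hY⟩ := exists_card_prime_le (hAp.to_le hDA) hD1
  have hYfix : Cfsg.sigmaCore H ⊓ centralizer (Y : Set G) ≠ ⊥ := by
    rw [inf_eq_left.2 (hDc.trans (centralizer_le (SetLike.coe_subset_coe.2 hYD)))]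
    exact hHne
  obtain ⟨hCY, huY⟩ := tau2_line_unique F hG hH hs ((hYD.trans hDA).trans (hAE.trans hE.1)) hY hYfix
  obtain ⟨L, hL, hNL⟩ := minSimple_exists_coatom hG (minSimple_normalizer_ne_top hG
    (fun e : A = ⊥ => hC1 (by rw [hC, e, bot_inf_eq])) (minSimple_ne_top_of_isPGroup hG hAp))
  obtain ⟨hsL, hLH, -, hEL, hAL⟩ := plane_sigma F hG hH hE hs hAE hA hAc hL hNL
  have hKL : K ≤ L := hKE.trans hEL
  have hkL : Nat.card K ∉ Cfsg.sigma L := by
    intro hk
    have hLs := c.eq_star F hG hL hKL hk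
    rw [hLs] at hAL hKL
    by_cases hb : Nat.card K ∈ Cfsg.beta Ms
    · obtain ⟨z, hz⟩ := exists_prime_orderOf_dvd_card' (G := D) s (by
        rw [← hY]; exact card_dvd_of_le hYD)
      set B := Cfsg.piCoreOf (Cfsg.beta Ms) Ms
      have hBh := F.bg12.betaCore Ms c.coatomS
      have hKB : K ≤ B := le_of_normal_hall hBh.1 (le_normalizer_piCoreOf _ _)
        (coprime_relIndex_of_isPiHallOf hBh) hKL fun q hq hd => by
          rw [(Nat.prime_dvd_prime_iff_eq hq c.prime).1 hd]
          by_contra h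
          have h1 := dvd_card_of_sigma c.sigmaK
          rw [← card_mul_relIndex hBh.1] at h1
          exact (c.prime.dvd_mul.1 h1).elim h (hBh.2.2 _ c.prime hb)
      have hDB : D ≤ B := commutator_le.2 fun a ha k hk => by
        rw [commutatorElement_def]
        exact mul_mem ((mem_normalizer_iff.1 (le_normalizer_piCoreOf _ _
          (sigmaCore_le Ms (hAL ha))) k).1 (hKB hk)) (inv_mem (hKB hk))
      exact tau2_not_beta F hG hH hs Ms (isPiSubgroup_piCoreOf _ _ s Fact.out
        (hY ▸ card_dvd_of_le (hYD.trans hDB)))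
    · refine hmove (BG11.le_centralizer_of_betaPrime F.bg12.bg10 hG c.coatomS
        (c.K_le_core.trans (sigmaCore_le_derived F.bg12.bg10 hG c.coatomS))
        (hAL.trans (sigmaCore_le_derived F.bg12.bg10 hG c.coatomS)) hn
        (fun q hq hd => ?_) (fun q hq hd => ?_) hcop)
      · rw [(Nat.prime_dvd_prime_iff_eq hq c.prime).1 hd]; exact ⟨c.prime, hb⟩
      · rw [hAc] at hd
        rw [(Nat.prime_dvd_prime_iff_eq hq Fact.out).1 (hq.dvd_of_dvd_pow hd)]
        exact ⟨Fact.out, tau2_not_beta F hG hH hs Ms⟩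
  have hfixL : Cfsg.sigmaCore L ⊓ centralizer (K : Set G) ≠ ⊥ := fun e =>
    hC1 (le_bot_iff.1 (e ▸ inf_le_inf_right _ hAL))
  rcases kappa_or_tau2 F hG hL hkL hKL rfl hfixL with hk | hk
  swap
  · obtain ⟨-, hu⟩ := tau2_line_unique F hG hL hk hKL rfl hfixL
    exact absurd (hu Ms c.coatomS (c.centralizer_K_le F hG) ▸ c.sigmaK) hkL
  obtain ⟨g, hg | hg⟩ := c.classes L hL ⟨_, hk⟩
  swap
  · exact absurd (by rw [hg, sigma_map_conj]; exact c.sigmaK) hkL
  refine ⟨by rwa [hg, sigma_map_conj] at hsL, fun q hq hd => ?_⟩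
  obtain ⟨y, hy, hy1⟩ := exists_mem_ne_one_of_card hY
  have hCy : centralizer ({y} : Set G) = centralizer (Y : Set G) :=
    (centralizer_eq_singleton_of_card hY hy hy1).symm
  have hnot : ¬ centralizer ({y} : Set G) ≤ L := fun h => hLH (huY L hL (hCy ▸ h))
  have h := (Cfsg.Agent.S1436.result hG L hL y (hAL (hDA (hYD hy))) hy1 hnot H hH
    (hCy ▸ hCY)).1 ⟨q, hq, by rw [hg, card_map_conj]; exact hd⟩
  rw [h.1] at hk
  exact hk

omit F in
theorem le_U_of_pGroup [Fact r.Prime] (c : TypePUData M K U Ms) (o : OverSylow r U R H)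
    {B : Subgroup G} (hB : B ≤ U ⊔ K) (hBp : IsPGroup r B) : B ≤ R := by
  have hRU : IsSylowIn r R (U ⊔ K) :=
    (c.sylow_M o.dvd o.sylow).of_le (o.sylow.le.trans le_sup_left) c.data.compl.1
  have hn : U ⊔ K ≤ normalizer (R : Set G) :=
    c.data.normU.trans (normalizer_le_normalizer_sylow c.data.commU o.sylow)
  exact le_sup_right.trans (hRU.eq_of_le le_sup_left (sup_le hRU.le hB)
    (IsPGroup.to_sup_of_normal_left' hRU.isPGroup hBp (hB.trans hn))).le

/-- `r ∈ σ(H)`. -/
theorem sigma_r [Fact r.Prime] (c : TypePUData M K U Ms) (o : OverSylow r U R H) :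
    r ∈ Cfsg.sigma H := by
  have hM := c.coatomM
  have hrM : r ∉ Cfsg.sigma M := c.not_sigma_U Fact.out o.dvd
  have hRH : R ≤ H := o.sylow.le.trans (le_sup_left.trans (c.E_le o))
  obtain ⟨k, hk, hk1⟩ := (bot_or_exists_ne_one K).resolve_left c.K_ne
  by_cases hr2 : r ∈ Cfsg.tau2 M
  · obtain ⟨B, hBE, hB, hBc⟩ := exists_plane_complIn F hG hM hr2 c.data.compl
    have hBR : B ≤ R := c.le_U_of_pGroup hG o hBE (isPGroup_of_isElementaryAbelian hB)
    refine (plane_sigma F hG hM c.data.compl hr2 hBE hB hBc o.coatom (le_trans ?_ o.norm)).1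
    have hBU : B ≤ U := hBR.trans o.sylow.le
    have hCB : centralizer (B : Set G) = U := by
      refine le_antisymm (fun x hx => ?_)
        (mem_centralizer_comm_of_isMulCommutative c.data.commU le_rfl hBU)
      obtain ⟨u, hu, k', hk', rfl⟩ := Coprime.exists_mul_of_mem_sup
        (c.data.KE.trans c.data.normU) ((F.tauTwoLine M hM _ c.data.compl r hr2 B hBE hB hBc).2.1.1 hx)
      by_contra hne
      have hk'1 : k' ≠ 1 := fun e => hne (by rw [e, mul_one]; exact hu)
      have hcu : u ∈ centralizer (B : Set G) :=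
        mem_centralizer_comm_of_isMulCommutative c.data.commU le_rfl hBU hu
      have hck : k' ∈ centralizer (B : Set G) := by
        have := mul_mem (inv_mem hcu) hx
        rwa [inv_mul_cancel_left] at this
      refine not_isCyclic_of_elementary hB hBc.ge ?_
      have hB0 : B = ⊥ := le_bot_iff.1 ((c.data.semiregular k' hk' hk'1) ▸ le_inf hBU fun b hb =>
        mem_centralizer_singleton_iff.2 (mem_centralizer_iff.1 hck b hb))
      subst hB0
      infer_instance
    intro g hg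
    exact normalizer_le_normalizer_sylow c.data.commU o.sylow
      (hCB ▸ normalizer_le_normalizer_centralizer_subgroup B hg)
  have hr1 : Cfsg.PRankLE r 1 M := by
    by_contra h
    exact hr2 ⟨Fact.out, hrM, pRankLE_two_of_not_sigma F.bg12.bg10 hM hrM, h⟩
  have h2M := minSimple_prime_ne_two_subgroup hG (o.dvd.trans (card_dvd_of_le c.data.hallU.1))
  have hRc : IsCyclic R :=
    BG11.isCyclic_of_pRankLE_one (o.sylow.le.trans c.data.hallU.1) o.sylow.isPGroup h2M hr1
  by_contra hs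
  have hdH : r ∣ Nat.card H :=
    o.dvd.trans (card_dvd_of_le (le_sup_left.trans (c.E_le o)))
  obtain ⟨T, hRT, hT⟩ := exists_isSylowIn_ge hRH o.sylow.isPGroup
  have hH2 : ¬ Cfsg.PRankLE r 1 H := fun h1 => hs (sigma_of_normalizer_le hdH hT
    ((normalizer_le_normalizer_of_isCyclic
      (BG11.isCyclic_of_pRankLE_one hT.le hT.isPGroup h2M h1) hRT).trans o.norm))
  have hrH : r ∈ Cfsg.tau2 H :=
    ⟨Fact.out, hs, pRankLE_two_of_not_sigma F.bg12.bg10 o.coatom hs, hH2⟩
  have hKR : K ≤ normalizer (R : Set G) :=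
    (c.data.KE.trans c.data.normU).trans (normalizer_le_normalizer_sylow c.data.commU o.sylow)
  obtain ⟨R₀, hR₀R, hR₀⟩ := exists_card_prime_le o.sylow.isPGroup (R_ne_bot o)
  haveI := Fact.mk c.prime
  obtain ⟨E, hE', hE⟩ := exists_complIn_ge F.bg12 hG o.coatom
    (sup_le hRH (le_sup_right.trans (c.E_le o)) : R ⊔ K ≤ H) fun q hq hd => by
      rcases hq.dvd_mul.1 (hd.trans (BG13.card_sup_dvd_mul hKR)) with h | h
      · have := isPiSubgroup_of_isPGroup o.sylow.isPGroup (Set.mem_singleton r) q hq h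
        exact Set.mem_singleton_iff.1 this ▸ hs
      · rw [(Nat.prime_dvd_prime_iff_eq hq c.prime).1 h]
        exact c.not_sigmaK F hG o
  obtain ⟨A, hAE, hA, hAc⟩ := exists_plane_complIn F hG o.coatom hrH hE
  have hR₀A : R₀ ≤ A := (F.tauTwoLine H o.coatom E hE r hrH A hAE hA hAc).1 R₀
    (hR₀R.trans (le_sup_left.trans hE')) hR₀
  refine hrM (c.plane_moved F hG o.coatom (c.regular F hG o) hE (le_sup_right.trans hE') hrH hAE
    hA hAc fun h => ?_).1
  obtain ⟨x, hx, hx1⟩ := exists_mem_ne_one_of_card hR₀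
  exact hx1 (mem_bot.1 ((c.data.semiregular k hk hk1) ▸ mem_inf.2
    ⟨o.sylow.le (hR₀R hx), mem_centralizer_singleton_iff.2
      (mem_centralizer_iff.1 (h hk) x (hR₀A hx))⟩))

/-- `U ≤ H_σ`. -/
theorem U_le_core [Fact r.Prime] (c : TypePUData M K U Ms) (o : OverSylow r U R H) :
    U ≤ Cfsg.sigmaCore H := by
  have hM := c.coatomM
  have hUH : U ≤ H := le_sup_left.trans (c.E_le o)
  refine BG11.le_sigmaCore F.bg12.bg10 o.coatom hUH fun s hs' hd => ?_
  by_contra hs
  haveI := Fact.mk hs'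
  have hrs := c.sigma_r F hG o
  have hRs : R ≤ Cfsg.sigmaCore H :=
    pGroup_le_sigmaCore F.bg12.bg10 o.coatom hrs (o.sylow.le.trans hUH) o.sylow.isPGroup
  have hline : ∀ X : Subgroup G, X ≤ U → Nat.card X = s →
      centralizer (X : Set G) ≤ H ∧
        ∀ L : Subgroup G, IsCoatom L → centralizer (X : Set G) ≤ L → L = H := by
    intro X hX hXc
    have hfix : Cfsg.sigmaCore H ⊓ centralizer (X : Set G) ≠ ⊥ := fun e =>
      R_ne_bot o (le_bot_iff.1 (e ▸ le_inf hRs
        (mem_centralizer_comm_of_isMulCommutative c.data.commU o.sylow.le hX)))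
    rcases kappa_or_tau2 F hG o.coatom hs (hX.trans hUH) hXc hfix with h | h
    · rw [c.kappa_empty F hG o] at h; exact h.elim
    · exact tau2_line_unique F hG o.coatom h (hX.trans hUH) hXc hfix
  have hsM : s ∉ Cfsg.sigma M := c.not_sigma_U hs' hd
  have hHM : H ≠ M := fun e => c.not_conj_M F hG o 1 (by rw [map_conj_one]; exact e)
  obtain ⟨S, hS⟩ := BG11.exists_isSylowIn (p := s) U
  have hS1 : S ≠ ⊥ := sylowIn_ne_bot hS hd
  obtain ⟨L, hL, hNL⟩ := minSimple_exists_coatom hG (minSimple_normalizer_ne_top hG hS1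
    (minSimple_ne_top_of_isPGroup hG hS.isPGroup))
  by_cases hs2 : s ∈ Cfsg.tau2 M
  · obtain ⟨B, hBE, hB, hBc⟩ := exists_plane_complIn F hG hM hs2 c.data.compl
    have hBU : B ≤ U := (c.le_U_of_pGroup hG ⟨hL, hd, hS, hNL⟩ hBE
      (isPGroup_of_isElementaryAbelian hB)).trans hS.le
    haveI := hB.1
    refine minSimple_sigmaCore_ne_bot hG hM (le_bot_iff.1 ?_)
    refine Coprime.le_of_forall_inf_centralizer_le (not_isCyclic_of_elementary hB hBc.ge)
      ((hBE.trans c.data.compl.1).trans (le_normalizer_sigmaCore M))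
      (coprime_of_isPiSubgroup_not (isPiSubgroup_sigmaCore M) fun q hq h => ?_).symm
      fun a ha ha1 => ?_
    · rw [hBc] at h
      rwa [(Nat.prime_dvd_prime_iff_eq hq hs').1 (hq.dvd_of_dvd_pow h)]
    · by_contra hfix
      have hX : Nat.card (zpowers a) = s := by
        rw [Nat.card_zpowers]; exact orderOf_eq_prime (hB.2 a ha) ha1
      have hfix' : Cfsg.sigmaCore M ⊓ centralizer (zpowers a : Set G) ≠ ⊥ := by
        rw [centralizer_zpowers]; exact fun e => hfix e.le
      obtain ⟨h1, -⟩ := tau2_line_unique F hG hM hs2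
        ((zpowers_le.2 ha).trans (hBU.trans c.data.hallU.1)) hX hfix'
      exact hHM ((hline _ ((zpowers_le.2 ha).trans hBU) hX).2 M hM h1).symm
  · have hs1 : Cfsg.PRankLE s 1 M := by
      by_contra h
      exact hs2 ⟨hs', hsM, pRankLE_two_of_not_sigma F.bg12.bg10 hM hsM, h⟩
    have hSc : IsCyclic S := BG11.isCyclic_of_pRankLE_one (hS.le.trans c.data.hallU.1) hS.isPGroup
      (minSimple_prime_ne_two_subgroup hG (hd.trans (card_dvd_of_le c.data.hallU.1))) hs1
    obtain ⟨S₀, hS₀S, hS₀⟩ := exists_card_prime_le hS.isPGroup hS1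
    obtain ⟨L', hL', hNL'⟩ := minSimple_exists_coatom hG (minSimple_normalizer_ne_top hG
      (BG11.ne_bot_of_card_prime hS₀) (minSimple_ne_top_of_isPGroup hG (isPGroup_of_card_prime hS₀)))
    have o' : OverSylow s U S L' :=
      ⟨hL', hd, hS, (normalizer_le_normalizer_of_isCyclic hSc hS₀S).trans hNL'⟩
    refine hs ((hline S₀ (hS₀S.trans hS.le) hS₀).2 L' hL'
      ((centralizer_le_normalizer _).trans hNL') ▸ c.sigma_r F hG o')

/-- `M ∩ H = U K`. -/
theorem inf_eq [Fact r.Prime] (c : TypePUData M K U Ms) (o : OverSylow r U R H) :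
    M ⊓ H = U ⊔ K := by
  refine le_antisymm (fun m hm => ?_) (le_inf c.data.compl.1 (c.E_le o))
  obtain ⟨e, he, y, hy, rfl⟩ := c.data.compl.2.2.2 m hm.1
  have hyH : y ∈ H := by
    have := mul_mem (inv_mem (c.E_le o he)) hm.2
    rwa [inv_mul_cancel_left] at this
  have hdis := disjoint_sigma F hG c.coatomM o.coatom (c.not_conj_M F hG o)
  have hy1 : y ∈ Cfsg.sigmaCore M ⊓ centralizer (U : Set G) := mem_inf.2 ⟨hy,
    centralizer_le (SetLike.coe_subset_coe.2 (le_inf (c.U_le_core F hG o) c.data.hallU.1))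
      (inf_sigmaCore_commute hdis ⟨hy, hyH⟩)⟩
  have h0 : Cfsg.sigmaCore M ⊓ centralizer (U : Set G) = ⊥ := by
    obtain ⟨T, -, hT⟩ := exists_isSylowIn_ge o.sylow.le o.sylow.isPGroup
    have hTM := c.sylow_M o.dvd hT
    have hrM := c.not_sigma_U Fact.out o.dvd
    have hrk : r ∉ Cfsg.kappa M := (c.data.hallU.2.1 r Fact.out o.dvd).2.1
    rw [← le_bot_iff, ← (regular_of_not_kappa F hG c.coatomM
      (o.dvd.trans (card_dvd_of_le c.data.hallU.1)) hrM hrk hTM).2.1]
    exact inf_le_inf_left _ (centralizer_le (SetLike.coe_subset_coe.2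
      ((closure_le _).2 fun x hx => hT.le hx.1)))
  rw [h0, mem_bot] at hy1
  rwa [hy1, mul_one]

/-- `H ∩ N(U) ⊄ M`. -/
theorem not_normalizer_le [Fact r.Prime] (c : TypePUData M K U Ms) (o : OverSylow r U R H) :
    ¬ H ⊓ normalizer (U : Set G) ≤ M := by
  intro hle
  have hUs := c.U_le_core F hG o
  have hHs : Cfsg.sigmaCore H ⊓ M ≤ U := fun n hn => by
    have h1 : n ∈ U ⊔ K := c.inf_eq F hG o ▸ mem_inf.2 ⟨hn.2, sigmaCore_le H hn.1⟩
    obtain ⟨u, hu, k, hk, rfl⟩ := Coprime.exists_mul_of_mem_sup (c.data.KE.trans c.data.normU) h1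
    have hk' : k ∈ Cfsg.sigmaCore H ⊓ centralizer (K : Set G) := by
      refine mem_inf.2 ⟨?_, mem_centralizer_comm_of_isMulCommutative ?_ le_rfl le_rfl hk⟩
      · have := mul_mem (inv_mem (hUs hu)) hn.1
        rwa [inv_mul_cancel_left] at this
      · haveI := Fact.mk c.prime
        haveI := isCyclic_of_prime_card (α := K) rfl
        infer_instance
    rw [c.regular F hG o, mem_bot] at hk'
    rwa [hk', mul_one]
  by_cases heq : U = Cfsg.sigmaCore H
  · refine c.not_conj_M F hG o 1 ?_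
    rw [map_conj_one]
    exact ((o.coatom.le_iff.1 (le_trans (le_inf le_rfl
      (heq ▸ le_normalizer_sigmaCore H)) hle)).resolve_left c.coatomM.1).symm
  haveI : Group.IsNilpotent (Cfsg.sigmaCore H) := isNilpotent_of_prime_fpf
    (minSimple_solvable hG (ne_top_of_le_ne_top o.coatom.1 (sigmaCore_le H)))
    ((le_sup_right.trans (c.E_le o)).trans (le_normalizer_sigmaCore H)) c.prime (c.regular F hG o)
  set U' := U.subgroupOf (Cfsg.sigmaCore H) with hU'
  have hlt : U' < ⊤ := lt_top_iff_ne_top.2 fun e => heq (le_antisymm hUs (subgroupOf_eq_top.1 e))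
  obtain ⟨n, hn, hnU⟩ := SetLike.exists_of_lt (Group.normalizerCondition_of_isNilpotent U' hlt)
  have hnN : (n : G) ∈ normalizer (U : Set G) := by
    refine mem_normalizer_iff.2 fun x => ?_
    constructor
    · intro hx
      exact mem_subgroupOf.1 ((mem_normalizer_iff.1 hn ⟨x, hUs hx⟩).1 (mem_subgroupOf.2 hx))
    · intro hx
      have hxs : x ∈ Cfsg.sigmaCore H := by
        have := mul_mem (mul_mem (inv_mem n.2) (hUs hx)) n.2
        simpa [mul_assoc] using this
      exact mem_subgroupOf.1 ((mem_normalizer_iff.1 hn ⟨x, hxs⟩).2 (mem_subgroupOf.2 hx))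
  exact hnU (mem_subgroupOf.2 (hHs ⟨n.2, hle ⟨sigmaCore_le H n.2, hnN⟩⟩))

/-- A complement of `H_σ` containing `K` lies in `M*` with `K` in its Fitting subgroup. -/
theorem compl_le_star [Fact r.Prime] (c : TypePUData M K U Ms) (o : OverSylow r U R H)
    (hE : Cfsg.IsComplIn E (Cfsg.sigmaCore H) H) (hKE : K ≤ E) :
    E ≤ Ms ∧ K ≤ Cfsg.fittingOf E := by
  haveI := Fact.mk c.prime
  have hH := o.coatom
  have hreg := c.regular F hG o
  have hkH := c.not_sigmaK F hG o
  have hrd : r ∣ Nat.card M := o.dvd.trans (card_dvd_of_le c.data.hallU.1)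
  have hrs := c.sigma_r F hG o
  have hKnil : Group.IsNilpotent K := (isPGroup_of_card_prime (X := K) rfl).isNilpotent
  by_cases hk1 : Cfsg.PRankLE (Nat.card K) 1 H
  swap
  · have hk2 : Nat.card K ∈ Cfsg.tau2 H :=
      ⟨c.prime, hkH, pRankLE_two_of_not_sigma F.bg12.bg10 hH hkH, hk1⟩
    obtain ⟨A, hAE, hA, hAc⟩ := exists_plane_complIn F hG hH hk2 hE
    have hKA : K ≤ A := (F.tauTwoLine H hH E hE _ hk2 A hAE hA hAc).1 K hKE rfl
    have hAC : A ≤ centralizer (K : Set G) :=
      mem_centralizer_comm_of_isMulCommutative hA.1 le_rfl hKA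
    have hEn := (F.bg12.tauTwoCompl H hH E hE _ hk2 A hAE hA hAc).1
    refine ⟨hEn.trans (F.bg12.sigmaNoncyclic Ms c.coatomS _ A c.sigmaK
      (isPGroup_of_isElementaryAbelian hA) (hAC.trans (c.centralizer_K_le F hG))
      (not_isCyclic_of_elementary hA hAc.ge)), hKA.trans (le_fittingOf hAE hEn ?_)⟩
    exact (isPGroup_of_isElementaryAbelian hA).isNilpotent
  suffices hn : E ≤ normalizer (K : Set G) from
    ⟨hn.trans (c.normalizer_K_le F hG), le_fittingOf hKE hn hKnil⟩
  by_cases hd' : Nat.card K ∣ Nat.card ↥⁅H, H⁆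
  · exact (tau3_prime F hG hH hE ⟨c.prime, hkH, hd', hk1⟩ hKE rfl).2
  haveI hDab := (F.complAbelian H hH E hE).2.1
  set D := ⁅E, E⁆ with hD
  have hDE : D ≤ E := commutator_le_self E
  have hDn : E ≤ normalizer (D : Set G) := by
    intro e he
    refine map_conj_eq_self_iff.1 ?_
    rw [hD, map_commutator, map_conj_eq_self_of_mem he]
  have hcop : (Nat.card K).Coprime (Nat.card D) := (c.prime.coprime_iff_not_dvd).2 fun h =>
    hd' (h.trans (card_dvd_of_le (commutator_mono hE.1 hE.1)))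
  have hKD : K ≤ centralizer (D : Set G) := by
    refine Coprime.le_centralizer_of_forall_prime_order (hKE.trans hDn) hcop fun v hv hvp => ?_
    haveI := Fact.mk hvp
    set q := orderOf v
    have hV : Nat.card (zpowers v) = q := Nat.card_zpowers v
    have hvE : zpowers v ≤ E := zpowers_le.2 (hDE hv)
    have hqD : q ∣ Nat.card ↥⁅H, H⁆ := hV ▸ card_dvd_of_le
      ((zpowers_le.2 hv).trans (commutator_mono hE.1 hE.1))
    have hqs : q ∉ Cfsg.sigma H :=
      complIn_not_sigma F hG hH hE hvp (hV ▸ card_dvd_of_le hvE)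
    rcases tau_cases F hG hH hvp (hqD.trans (card_dvd_of_le (commutator_le_self H))) hqs with
      h | h | h
    · exact absurd hqD h.2.2.2.1
    · obtain ⟨A, hAE, hA, hAc⟩ := exists_plane_complIn F hG hH h hE
      by_cases hc : K ≤ centralizer (A : Set G)
      · exact (le_centralizer_iff.1 hc) ((F.tauTwoLine H hH E hE q h A hAE hA hAc).1 _ hvE hV
          (mem_zpowers v))
      · exact absurd hrd ((c.plane_moved F hG hH hreg hE hKE h hAE hA hAc hc).2 r hrs)
    · by_contra hnc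
      have hVn := (tau3_prime F hG hH hE h hvE hV).2
      have hne : Nat.card K ≠ q := fun e => hd' (e ▸ hqD)
      have hle := le_centralizer_of_fixed_le_of_move hne hV rfl (hKE.trans hVn)
        (fun hc => hnc (le_centralizer_iff.1 hc (mem_zpowers v)))
        ((hvE.trans hE.1).trans (le_normalizer_sigmaCore H))
        ((hKE.trans hE.1).trans (le_normalizer_sigmaCore H))
        (minSimple_solvable hG (ne_top_of_le_ne_top hH.1 (sigmaCore_le H)))
        (fun e => hkH (isPiSubgroup_sigmaCore H _ c.prime e))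
        (fun e => hqs (isPiSubgroup_sigmaCore H _ hvp e)) (by rw [hreg]; exact bot_le)
      have hκ := mem_kappa_of_fixed
        (minSimple_prime_ne_two_subgroup hG (dvd_card_of_card_le le_rfl hV)) hqs h.2.2.2
        (hvE.trans hE.1) hV (by rw [inf_eq_left.2 hle]; exact minSimple_sigmaCore_ne_bot hG hH)
      rw [c.kappa_empty F hG o] at hκ
      exact hκ
  intro g hg
  refine map_conj_eq_self_iff.1 (eq_of_le_of_card_ge ?_ (card_map_conj K g).ge)
  rintro x ⟨k, hk, rfl⟩
  set y := (MulAut.conj g).toMonoidHom k with hy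
  have hyk : y ^ Nat.card K = 1 := by
    rw [hy, ← map_pow, orderOf_dvd_iff_pow_eq_one.1 (K.orderOf_dvd_natCard hk), map_one]
  have hys : y ∈ D ⊔ K := by
    have : y = ⁅g, k⁆ * k := by simp [hy, commutatorElement_def, MulAut.conj_apply]
    rw [this]
    exact mul_mem_sup (commutator_mem_commutator hg (hKE hk)) hk
  obtain ⟨d, hd, j, hj, hdj⟩ := Coprime.exists_mul_of_mem_sup (hKE.trans hDn) hys
  have hcomm : Commute d j := (mem_centralizer_iff.1 (hKD hj) d hd)
  have hd1 : d ^ Nat.card K = 1 := by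
    rw [← hdj, hcomm.mul_pow, orderOf_dvd_iff_pow_eq_one.1 (K.orderOf_dvd_natCard hj),
      mul_one] at hyk
    exact hyk
  have : d = 1 := orderOf_eq_one_iff.1 (Nat.eq_one_of_dvd_coprimes hcop
    (orderOf_dvd_of_pow_eq_one hd1) (D.orderOf_dvd_natCard hd))
  rwa [← hdj, this, one_mul]

/-- BG 14.10. -/
theorem typePU [Fact r.Prime] (c : TypePUData M K U Ms) (o : OverSylow r U R H) :
    Cfsg.kappa H = ∅ ∧ U ≤ Cfsg.sigmaCore H ∧ M ⊓ H = U ⊔ K ∧
      ¬ H ⊓ normalizer (U : Set G) ≤ M ∧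
      K ≤ Cfsg.fittingOf (H ⊓ Ms) ∧ Cfsg.IsComplIn (H ⊓ Ms) (Cfsg.sigmaCore H) H := by
  haveI := Fact.mk c.prime
  have hKH : K ≤ H := le_sup_right.trans (c.E_le o)
  obtain ⟨E, hKE, hE⟩ := exists_complIn_ge F.bg12 hG o.coatom hKH fun q hq hd => by
    rw [(Nat.prime_dvd_prime_iff_eq hq c.prime).1 hd]; exact c.not_sigmaK F hG o
  obtain ⟨hEMs, hKF⟩ := c.compl_le_star F hG o hE hKE
  have hdis := disjoint_sigma F hG c.coatomS o.coatom (c.not_conj_star F hG o)
  have hinf : Cfsg.sigmaCore H ⊓ Ms = ⊥ := by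
    refine le_bot_iff.1 ((le_inf inf_le_left ?_).trans (c.regular F hG o).le)
    exact (inf_sigmaCore_commute hdis.symm).trans
      (centralizer_le (SetLike.coe_subset_coe.2 (le_inf c.K_le_core hKH)))
  have heq : H ⊓ Ms = E := le_antisymm (fun m hm => by
    obtain ⟨e, he, y, hy, rfl⟩ := hE.2.2.2 m hm.1
    have : y ∈ Cfsg.sigmaCore H ⊓ Ms := mem_inf.2 ⟨hy, by
      have := mul_mem (inv_mem (hEMs he)) hm.2
      rwa [inv_mul_cancel_left] at this⟩
    rw [hinf, mem_bot] at this
    rwa [this, mul_one]) (le_inf hE.1 hEMs)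
  exact ⟨c.kappa_empty F hG o, c.U_le_core F hG o, c.inf_eq F hG o, c.not_normalizer_le F hG o,
    heq ▸ hKF, heq ▸ hE⟩

end TypePUData

/-- BG 14.10 in the form of S1435, from the classification of the `H` with `κ(H) ≠ ∅`. -/
theorem typePU_of_classes (hM : IsCoatom M) (hKU : Cfsg.IsSigmaDecomposition M K U) (hK1 : K ≠ ⊥)
    (hU1 : U ≠ ⊥) (hMs : IsCoatom Ms)
    (hKst : K = Cfsg.sigmaCore Ms ⊓
      centralizer ((Cfsg.sigmaCore M ⊓ centralizer (K : Set G)) : Set G))
    (hKstH : Cfsg.IsPiHallOf (Cfsg.kappa Ms) (Cfsg.sigmaCore M ⊓ centralizer (K : Set G)) Ms)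
    (hclass : ∀ H : Subgroup G, IsCoatom H → (Cfsg.kappa H).Nonempty →
      ∃ g : G, H = M.map (MulAut.conj g).toMonoidHom ∨ H = Ms.map (MulAut.conj g).toMonoidHom)
    [Fact r.Prime] (hr : r ∣ Nat.card U) (R : Sylow r U) (hH : IsCoatom H)
    (hNR : normalizer (((R : Subgroup U).map U.subtype : Subgroup G) : Set G) ≤ H) :
    Cfsg.kappa H = ∅ ∧ U ≤ Cfsg.sigmaCore H ∧ M ⊓ H = U ⊔ K ∧
      ¬ H ⊓ normalizer (U : Set G) ≤ M ∧
      K ≤ Cfsg.fittingOf (H ⊓ Ms) ∧ Cfsg.IsComplIn (H ⊓ Ms) (Cfsg.sigmaCore H) H := by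
  have d := ptypeData_of_decomp F hG hM hKU hK1
  have hp := PTypeData.prime_card F hG d hM hKU.hall hK1 hU1
  exact TypePUData.typePU F hG ⟨hM, hMs, hKU.hall, d, hK1, hU1, hKst, hKstH, hp, hclass⟩
    ⟨hH, hr, BG11.isSylowIn_map_subtype R, hNR⟩

end CfsgLib.OddOrder.BG14
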