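import Cfsg.Agent.OddOrder.BG14.KStar
import Cfsg.Agent.PiClasses69.Parts

/-!
# The set `Ẑ = K K* \ (K ∪ K*)`
-/

set_option autoImplicit false
set_option linter.style.haveILetI false
set_option linter.unusedSectionVars false

namespace CfsgLib.OddOrder.BG14

open Cfsg Subgroup
open CfsgLib.OddOrder
open CfsgLib.OddOrder.BG11
open CfsgLib.OddOrder.BG13
open CfsgLib.PiClasses69 (IsPi IsPiCompl piPart piComplPart)

variable {G : Type*} [Group G] [Finite G]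

/-- The elements of `K S` outside `K ∪ S`. -/
abbrev zhat (K S : Subgroup G) : Set G :=
  ((↑(K ⊔ S) : Set G) \ ((K : Set G) ∪ ↑S))

/-- The union of the conjugates of a set. -/
abbrev conjUnion (T : Set G) : Set G := {a : G | ∃ g : G, ∃ z ∈ T, a = g * z * g⁻¹}

/-- Counting the conjugates of a subset of `Z` whose conjugating elements lie in `Z`. -/
theorem ncard_conjUnion {Z : Subgroup G} {T : Set G}
    (hn : ∀ g ∈ Z, ∀ z ∈ T, g * z * g⁻¹ ∈ T)
    (hti : ∀ g : G, ∀ z ∈ T, g * z * g⁻¹ ∈ T → g ∈ Z) :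
    Set.ncard (conjUnion T) * Nat.card Z = Set.ncard T * Nat.card G := by
  classical
  have h1 : Set.ncard (conjUnion T) = Z.index * Set.ncard T := by
    rw [index_eq_card, ← Nat.card_coe_set_eq, ← Nat.card_coe_set_eq (s := T), ← Nat.card_prod]
    refine (Nat.card_congr (Equiv.ofBijective
      (fun x : (G ⧸ Z) × T => (⟨x.1.out * x.2 * x.1.out⁻¹, x.1.out, x.2, x.2.2, rfl⟩ : conjUnion T))
      ⟨?_, ?_⟩)).symm
    · rintro ⟨a, ⟨z, hz⟩⟩ ⟨b, ⟨w, hw⟩⟩ e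
      have e' : a.out * z * a.out⁻¹ = b.out * w * b.out⁻¹ := congrArg Subtype.val e
      have hwz : b.out⁻¹ * a.out * z * (b.out⁻¹ * a.out)⁻¹ = w := by
        calc b.out⁻¹ * a.out * z * (b.out⁻¹ * a.out)⁻¹ = b.out⁻¹ * (a.out * z * a.out⁻¹) * b.out := by
              group
          _ = w := by rw [e']; group
      have hab : a = b := by
        rw [← QuotientGroup.out_eq' a, ← QuotientGroup.out_eq' b]
        exact (QuotientGroup.eq.2 (hti _ z hz (hwz ▸ hw))).symm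
      subst hab
      have : z = w := mul_left_cancel (mul_right_cancel e')
      subst this
      rfl
    · rintro ⟨x, g, z, hz, rfl⟩
      obtain ⟨h, hh⟩ := QuotientGroup.mk_out_eq_mul Z g
      refine ⟨(QuotientGroup.mk g, ⟨(h : G)⁻¹ * z * h,
        by simpa using hn (h : G)⁻¹ (inv_mem h.2) z hz⟩), Subtype.ext ?_⟩
      show (QuotientGroup.mk g : G ⧸ Z).out * ((h : G)⁻¹ * z * h) * _⁻¹ = _
      rw [hh]
      group
  rw [h1, mul_comm Z.index, mul_assoc, index_mul_card]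

variable {M E K U : Subgroup G}
variable (F : BG13Facts G) (hG : Cfsg.IsMinSimpleOddOrder G)

local notation "S₀" => (Cfsg.sigmaCore M ⊓ Subgroup.centralizer (K : Set G))

omit [Finite G] in
theorem kstar_commute {k s : G} (hk : k ∈ K) (hs : s ∈ S₀) : Commute k s :=
  mem_centralizer_iff.1 hs.2 k hk

theorem isPi_of_mem_sigmaCore {s : G} (hs : s ∈ Cfsg.sigmaCore M) : IsPi (Cfsg.sigma M) s :=
  fun r hr hd => isPiSubgroup_sigmaCore M r hr (hd.trans ((Cfsg.sigmaCore M).orderOf_dvd_natCard hs))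

theorem isPiCompl_of_mem_hall (hK : Cfsg.IsPiHallOf (Cfsg.kappa M) K M) {k : G} (hk : k ∈ K) :
    IsPiCompl (Cfsg.sigma M) k :=
  fun r hr hd => kappa_not_sigma (hK.2.1 r hr (hd.trans (K.orderOf_dvd_natCard hk)))

theorem kstar_inf_eq_bot (hK : Cfsg.IsPiHallOf (Cfsg.kappa M) K M) : K ⊓ Cfsg.sigmaCore M = ⊥ :=
  inf_eq_bot_of_isPiSubgroup hK.2.1 (isPiSubgroup_sigmaCore M)
    (Set.disjoint_left.2 fun _ h => kappa_not_sigma h)

theorem kstar_mul_mem (hK : Cfsg.IsPiHallOf (Cfsg.kappa M) K M) {z : G} (hz : z ∈ K ⊔ S₀) :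
    ∃ k ∈ K, ∃ s ∈ S₀, z = k * s ∧ piPart (Cfsg.sigma M) z = s ∧
      piComplPart (Cfsg.sigma M) z = k := by
  obtain ⟨k, hk, s, hs, rfl⟩ := Coprime.exists_mul_of_mem_sup
    ((inf_le_right : S₀ ≤ centralizer (K : Set G)).trans (centralizer_le_normalizer _)) hz
  have h := PiClasses69.piPart_of_commute (Cfsg.sigma M) (isPi_of_mem_sigmaCore hs.1)
    (isPiCompl_of_mem_hall hK hk) (kstar_commute hk hs).symm
  rw [← (kstar_commute hk hs).eq] at h
  exact ⟨k, hk, s, hs, rfl, h.1, h.2⟩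

theorem zhat_mem (hK : Cfsg.IsPiHallOf (Cfsg.kappa M) K M) {z : G} (hz : z ∈ zhat K S₀) :
    ∃ k ∈ K, ∃ s ∈ S₀, k ≠ 1 ∧ s ≠ 1 ∧ z = k * s ∧ piPart (Cfsg.sigma M) z = s ∧
      piComplPart (Cfsg.sigma M) z = k := by
  obtain ⟨k, hk, s, hs, he, h1, h2⟩ := kstar_mul_mem hK hz.1
  refine ⟨k, hk, s, hs, fun e => hz.2 (Or.inr ?_), fun e => hz.2 (Or.inl ?_), he, h1, h2⟩
  · rw [he, e, one_mul]; exact hs
  · rw [he, e, mul_one]; exact hk

theorem mul_mem_zhat (hK : Cfsg.IsPiHallOf (Cfsg.kappa M) K M) {k s : G} (hk : k ∈ K)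
    (hs : s ∈ S₀) (hk1 : k ≠ 1) (hs1 : s ≠ 1) : k * s ∈ zhat K S₀ := by
  refine ⟨mul_mem_sup hk hs, ?_⟩
  rintro (h | h)
  · refine hs1 (mem_bot.1 (kstar_inf_eq_bot hK ▸ mem_inf.2 ⟨?_, hs.1⟩))
    exact (Subgroup.mul_mem_cancel_left _ hk).1 h
  · refine hk1 (mem_bot.1 (kstar_inf_eq_bot hK ▸ mem_inf.2 ⟨hk, ?_⟩))
    exact ((Subgroup.mul_mem_cancel_right _ hs).1 h).1

theorem card_kstar_sup (hK : Cfsg.IsPiHallOf (Cfsg.kappa M) K M) :
    Nat.card ↥(K ⊔ S₀) = Nat.card K * Nat.card ↥S₀ :=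
  Coprime.card_sup_eq ((inf_le_right : S₀ ≤ centralizer (K : Set G)).trans (centralizer_le_normalizer _))
    (le_bot_iff.1 ((inf_le_inf_left _ inf_le_left).trans (kstar_inf_eq_bot hK).le))

theorem ncard_zhat (hK : Cfsg.IsPiHallOf (Cfsg.kappa M) K M) :
    Set.ncard (zhat K S₀) + Nat.card K + Nat.card ↥S₀ = Nat.card K * Nat.card ↥S₀ + 1 := by
  rw [← card_kstar_sup hK]
  have hsub : ((K : Set G) ∪ ↑S₀) ⊆ ↑(K ⊔ S₀) :=
    Set.union_subset (SetLike.coe_subset_coe.2 le_sup_left) (SetLike.coe_subset_coe.2 le_sup_right)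
  have h1 := Set.ncard_sdiff_add_ncard_of_subset hsub (Set.toFinite _)
  have h2 := Set.ncard_union_add_ncard_inter (K : Set G) (↑S₀) (Set.toFinite _) (Set.toFinite _)
  have h3 : ((K : Set G) ∩ ↑S₀).ncard = 1 := by
    rw [← Subgroup.coe_inf, le_bot_iff.1 ((inf_le_inf_left K inf_le_left).trans (kstar_inf_eq_bot hK).le)]
    simp
  simp only [zhat, ← Nat.card_coe_set_eq] at h1 h2 ⊢
  simp only [← Nat.card_coe_set_eq] at h3
  simp only [SetLike.coe_sort_coe] at h1 h2 h3 ⊢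
  omega

include F hG

/-- `Ẑ` is a TI set with set normalizer `Z`. -/
theorem zhat_ti (d : PTypeData M E K U) (hM : IsCoatom M)
    (hK : Cfsg.IsPiHallOf (Cfsg.kappa M) K M) (hK1 : K ≠ ⊥) {g z : G} (hz : z ∈ zhat K S₀)
    (hgz : g * z * g⁻¹ ∈ zhat K S₀) : g ∈ K ⊔ S₀ := by
  obtain ⟨k, hk, s, hs, hk1, hs1, he, -, -⟩ := zhat_mem hK hz
  obtain ⟨k', hk', s', hs', -, -, -, h1, h2⟩ := zhat_mem hK hgz
  have hc : Commute (g * s * g⁻¹) (g * k * g⁻¹) :=
    (kstar_commute hk hs).symm.map (MulAut.conj g).toMonoidHom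
  have hord : ∀ x : G, orderOf (g * x * g⁻¹) = orderOf x := fun x => by
    rw [← MulAut.conj_apply, MulEquiv.orderOf_eq]
  obtain ⟨h3, h4⟩ := PiClasses69.piPart_of_commute (Cfsg.sigma M) (y := g * s * g⁻¹) (w := g * k * g⁻¹)
    (fun r hr hd => isPi_of_mem_sigmaCore hs.1 r hr (hord s ▸ hd))
    (fun r hr hd => isPiCompl_of_mem_hall hK hk r hr (hord k ▸ hd)) hc
  have heq : g * s * g⁻¹ * (g * k * g⁻¹) = g * z * g⁻¹ := by
    rw [he, ← (kstar_commute hk hs).symm.eq]; group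
  rw [heq] at h3 h4
  have hgM : g ∈ M := by
    refine d.kstar_inf_conj F hG hM hK hK1 fun e => hs1 ?_
    have : g * s * g⁻¹ ∈ S₀ ⊓ M.map (MulAut.conj g).toMonoidHom :=
      mem_inf.2 ⟨h3 ▸ h1.symm ▸ hs', ⟨s, sigmaCore_le M hs.1, rfl⟩⟩
    rw [e, mem_bot] at this
    exact conj_eq_one_iff.1 this
  by_contra hgZ
  have : g * k * g⁻¹ ∈ K ⊓ K.map (MulAut.conj g).toMonoidHom :=
    mem_inf.2 ⟨h4 ▸ h2.symm ▸ hk', ⟨k, hk, rfl⟩⟩
  rw [d.inf_map_conj F hG hK hgM hgZ, mem_bot] at this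
  exact hk1 (conj_eq_one_iff.1 this)

theorem conj_mem_zhat_of_mem (d : PTypeData M E K U)
    (hK : Cfsg.IsPiHallOf (Cfsg.kappa M) K M) (hK1 : K ≠ ⊥) {g z : G} (hg : g ∈ K ⊔ S₀)
    (hz : z ∈ zhat K S₀) : g * z * g⁻¹ ∈ zhat K S₀ := by
  obtain ⟨p, _, X, hX, hXc⟩ := exists_prime_subgroup hK1
  have hgK : g ∈ normalizer (K : Set G) := by
    rw [← d.inf_normalizer_K F hG hK hX hXc] at hg
    exact hg.2
  have hgS : g ∈ normalizer (S₀ : Set G) := by
    refine inf_normalizer_le_normalizer_inf (mem_inf.2 ⟨?_, ?_⟩)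
    · exact le_normalizer_sigmaCore M ((sup_le hK.1 (inf_le_left.trans (sigmaCore_le M))) hg)
    · exact normalizer_le_normalizer_centralizer_subgroup K hgK
  refine ⟨mul_mem (mul_mem hg hz.1) (inv_mem hg), ?_⟩
  rintro (h | h)
  · exact hz.2 (Or.inl ((mem_normalizer_iff.1 hgK z).2 h))
  · exact hz.2 (Or.inr ((mem_normalizer_iff.1 hgS z).2 h))

theorem ncard_conjUnion_zhat (d : PTypeData M E K U) (hM : IsCoatom M)
    (hK : Cfsg.IsPiHallOf (Cfsg.kappa M) K M) (hK1 : K ≠ ⊥) :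
    Set.ncard (conjUnion (zhat K S₀)) * (Nat.card K * Nat.card ↥S₀) =
      Set.ncard (zhat K S₀) * Nat.card G := by
  rw [← card_kstar_sup hK]
  exact ncard_conjUnion (fun g hg z hz => conj_mem_zhat_of_mem F hG d hK hK1 hg hz)
    fun g z hz h => zhat_ti F hG d hM hK hK1 hz h

end CfsgLib.OddOrder.BG14
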